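import Cfsg.Agent.SM.Op.LRa
import Cfsg.Agent.H688.Rg.DEven
import Cfsg.Agent.H826.RgF.DOdd
import Cfsg.Agent.S5948
import Cfsg.Agent.S0000

/-!
# SM (S3570), socle `PΩ⁺_{2m}(q)`, `m ≥ 5`: the generic linear reduction (helper99)
-/

set_option autoImplicit false

namespace Cfsg.Agent.SM.Op

open Cfsg.Agent.H884.El (PP exists_char)

/-- **[LR]** -/
theorem boxLR : BoxLR := by
  intro F V _ _ _ _ _ Q m hP h5 h7 X Y h
  have hm := hP.five
  obtain ⟨p, f, hp, hf, hF⟩ := exists_char F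
  have hS : H997.Rg.SzM m (p ^ f) := ⟨fun e => by omega, hF ▸ h5, hF ▸ h7⟩
  have e2 : 2 * (m - 1) = 2 * m - 2 := by omega
  have key : ∀ {r2 i r4 j : ℕ}, H826.RgF.Dc F p f m r2 i r4 j → H826.RgF.El X (r2 ^ i) ∨ H826.RgF.El Y (r2 ^ i) := fun hD =>
    Lg.side hP h (i := m - 1) (by rw [e2, hF]; exact hD.pp2.of_pow hf) (by omega) (by omega) (by rw [e2, hF]; exact hD.dvd2)
  rcases Nat.even_or_odd m with he | ho
  · obtain ⟨r2, i, r4, j, w, b, c, hD⟩ := H688.Rg.exists_dev S5948.result (fun _ _ _ _ => S0000.result) hp hf hF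
      (by obtain ⟨k, hk⟩ := he; omega) he hS
    rcases key hD.ev.dc with k | k
    · exact (Lg.lr_even hP hf hF he hD.ev h k).elim Or.inl fun e => Or.inr (Or.inr (Or.inl e))
    · exact (Lg.lr_even hP hf hF he hD.ev h.symm k).elim (fun e => Or.inr (Or.inl e)) fun e => Or.inr (Or.inr (Or.inr e))
  · obtain ⟨r2, i, r4, j, w, hD⟩ := H826.RgF.exists_dodd S5948.result (fun _ _ _ _ => S0000.result) hp hf hF hm ho hS
    rcases key hD.dc with k | k
    · exact Or.inl (Lg.lr_odd hP hf hF ho hD h k)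
    · exact Or.inr (Or.inl (Lg.lr_odd hP hf hF ho hD h.symm k))

end Cfsg.Agent.SM.Op
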