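import Cfsg.Agent.SM.Nrm
import Cfsg.Agent.SM.CS.Defs
import Cfsg.Agent.H826.Rg.Gam
import Cfsg.Agent.H826.RgF.Defs
import Cfsg.Agent.H902.Shape

/-!
# SM (S3570), socle `PΩ⁺_{2m}(q)`, `m ≥ 5`: definitions and boxes (helper57, plan in `notes/SM/oplus.md`)

* linear level: `Pl`, `An`, `Hp`, `TrS`, `TrP`, `Tr0`, `Tr`, `Sm`, `Pd`, `LR`, `Gn`, `Ab`, `Small`, `Tau`, `Dec`, `Xs`;
* the frame `Fr` in `Aut (E Q / Z)`, `l0`, `Fx`; the frame `Pf` of a permutation group;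
* the rows `RE`, `RJ`, the table `tabP5`, the boxes.
-/

set_option autoImplicit false
set_option linter.unusedSectionVars false

namespace Cfsg.Agent.SM.Op

open Module QuadraticMap Cfsg Cfsg.Geo Subgroup
open Cfsg.Agent.LieClassical.OrthCore Cfsg.Agent.LieClassical.OrthTrans Cfsg.Agent.ClassicalGeometry.OrthSemi
open Cfsg.Agent.LieClassical.OrthFinite (glEquiv)
open Cfsg.Agent.LieClassical.OrthForms (plusForm)
open Cfsg.Agent.H449.Reg (img lg AExt)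
open Cfsg.Agent.H826.Rg (lgH Sg)
open Cfsg.Agent.H826.RgF (Iv Rd El)
open Cfsg.Agent.H955 (IsPlus perp res)
open Cfsg.Agent.H884.El (PP)
open Cfsg.Agent.H902
open scoped MatrixGroups Matrix

section lin

variable {F V : Type} [Field F] [AddCommGroup V] [Module F V]

/-- the standing hypotheses: plus type, dimension `2 m ≥ 10` -/
structure Pl (Q : QuadraticForm F V) (m : ℕ) : Prop where
  good : Good Q
  plus : IsPlus Q
  dim : finrank F V = 2 * m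
  five : 5 ≤ m

/-- totally singular -/
def Ts (Q : QuadraticForm F V) (W : Submodule F V) : Prop := ∀ w ∈ W, Q w = 0

/-- an anisotropic plane -/
def An (Q : QuadraticForm F V) (P : Submodule F V) : Prop := finrank F P = 2 ∧ ∀ x ∈ P, Q x = 0 → x = 0

/-- a hyperbolic plane -/
def Hp (Q : QuadraticForm F V) (P : Submodule F V) : Prop := ∃ x y, Hyp Q x y ∧ P = Submodule.span F {x, y}

/-- transitive on the vectors of norm `c`, up to sign -/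
def TrS (Q : QuadraticForm F V) (Y : Subgroup (V ≃ₗ[F] V)) (c : F) : Prop :=
  ∀ x y, Q x = c → Q y = c → ∃ g ∈ Y, g x = y ∨ g x = -y

/-- transitive on the anisotropic planes -/
def TrP (Q : QuadraticForm F V) (Y : Subgroup (V ≃ₗ[F] V)) : Prop :=
  ∀ P P', An Q P → An Q P' → ∃ g ∈ Y, P.map (g : V →ₗ[F] V) = P'

/-- transitive on the singular points -/
def Tr0 (Q : QuadraticForm F V) (Y : Subgroup (V ≃ₗ[F] V)) : Prop :=
  ∀ x y, x ≠ 0 → y ≠ 0 → Q x = 0 → Q y = 0 → ∃ g ∈ Y, ∃ a : F, g x = a • y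

/-- transitive on a sphere or on the anisotropic planes -/
def Tr (Q : QuadraticForm F V) (Y : Subgroup (V ≃ₗ[F] V)) : Prop := (∃ c, c ≠ 0 ∧ TrS Q Y c) ∨ TrP Q Y

/-- the invariant subspaces of dimension at most four lie in `D`, there is one, and `Y` has an element of prime order `r`,
`ord_r(q) ≥ 5` -/
structure Sm (Y : Subgroup (V ≃ₗ[F] V)) (D : Submodule F V) : Prop where
  le : ∀ W, Iv Y W → finrank F W ≤ 4 → W ≤ D
  ex : ∃ W, W ≠ ⊥ ∧ Iv Y W ∧ finrank F W ≤ 4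
  el : ∃ e r, PP (Nat.card F) e r ∧ 5 ≤ e ∧ El Y r

/-- `Ω(Q) = X Y` with proper factors -/
structure Pd (Q : QuadraticForm F V) (X Y : Subgroup (V ≃ₗ[F] V)) : Prop where
  leX : X ≤ E Q
  leY : Y ≤ E Q
  neX : ¬ E Q ≤ X
  neY : ¬ E Q ≤ Y
  fac : ∀ s ∈ E Q, ∃ x ∈ X, ∃ y ∈ Y, s = x * y

theorem Pd.symm {Q : QuadraticForm F V} {X Y : Subgroup (V ≃ₗ[F] V)} (h : Pd Q X Y) : Pd Q Y X :=
  ⟨h.leY, h.leX, h.neY, h.neX, fun s hs => by
    obtain ⟨x, hx, y, hy, e⟩ := h.fac s⁻¹ ((E Q).inv_mem hs)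
    exact ⟨y⁻¹, Y.inv_mem hy, x⁻¹, X.inv_mem hx, by rw [← mul_inv_rev, ← e, inv_inv]⟩⟩

/-- `X` is reducible inside an anisotropic plane -/
def LR1 (Q : QuadraticForm F V) (X : Subgroup (V ≃ₗ[F] V)) : Prop := ∃ D, An Q D ∧ Sm X D

/-- `Y` is reducible inside a hyperbolic plane; if `X` is transitive on the singular points it normalises a quadratic field -/
def LR2 (Q : QuadraticForm F V) (X Y : Subgroup (V ≃ₗ[F] V)) : Prop := ∃ D, Hp Q D ∧ Sm Y D ∧ (Tr0 Q X → AExt 2 X)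

/-- the result of the linear reduction -/
def LR (Q : QuadraticForm F V) (X Y : Subgroup (V ≃ₗ[F] V)) : Prop := LR1 Q X ∨ LR1 Q Y ∨ LR2 Q X Y ∨ LR2 Q Y X

/-- the subgroup generated by the elements of order `r` -/
def Gn (Y : Subgroup (V ≃ₗ[F] V)) (r : ℕ) : Subgroup (V ≃ₗ[F] V) := closure {g | g ∈ Y ∧ orderOf g = r}

/-- `d` commutes with `N` -/
def Cm (N : Subgroup (V ≃ₗ[F] V)) (d : Module.End F V) : Prop := ∀ g ∈ N, ∀ x, d (g x) = g (d x)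

/-- absolutely irreducible -/
def Ab (N : Subgroup (V ≃ₗ[F] V)) : Prop := ¬ Rd N ∧ ∀ d : Module.End F V, Cm N d → ∃ a : F, ∀ x, d x = a • x

/-- the map `g` normalises the algebra `D` -/
def Nm (g : V → V) (D : Subalgebra F (Module.End F V)) : Prop := ∀ d ∈ D, ∃ d' ∈ D, ∀ x, d' (g x) = g (d x)

/-- a small algebra which is faithful on `v` -/
structure Small (m : ℕ) (v : V) (D : Subalgebra F (Module.End F V)) : Prop where
  ne : D ≠ ⊥
  dim : finrank F D + 4 ≤ 2 * m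
  inj : ∀ d ∈ D, d v = 0 → d = 0
  typ : (∀ u : V, u ≠ 0 → ∃ d ∈ D, d u ∉ F ∙ u) ∨
    (finrank F D ≤ 2 ∧ ∀ d ∈ D, d ≠ 0 → finrank F (LinearMap.ker d) ≤ m)

/-- the orbit `D v` -/
def orb (D : Subalgebra F (Module.End F V)) (v : V) : Submodule F V :=
  (Subalgebra.toSubmodule D).map (LinearMap.applyₗ v)

/-- a properly semilinear semisimilitude commutes with `Y` modulo scalars (subfield case) -/
def Tau (Q : QuadraticForm F V) (Y : Subgroup (V ≃ₗ[F] V)) : Prop :=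
  ∃ (τ : Gam Q) (σ : F ≃+* F) (c : F), IsSS Q σ c τ.1 ∧ σ ≠ RingEquiv.refl F ∧
    ∀ y ∈ Y, ∃ a : F, ∀ x, τ.1 (y x) = a • y (τ.1 x)

/-- the group generated by the Siegel transformations `siegel u u'`, `u ∈ W`, `u' ∈ W'` (a copy of `SL(W)`) -/
def Sw (Q : QuadraticForm F V) (W W' : Submodule F V) : Subgroup (V ≃ₗ[F] V) :=
  closure {g | ∃ (u w : V) (hu : Q u = 0) (hw : polar Q u w = 0), u ∈ W ∧ w ∈ W' ∧ g = siegel Q u w hu hw}

/-- two complementary totally singular subspaces -/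
structure Hf (Q : QuadraticForm F V) (m : ℕ) (W W' : Submodule F V) : Prop where
  ts : Ts Q W
  ts' : Ts Q W'
  dim : finrank F W = m
  dim' : finrank F W' = m
  inf : W ⊓ W' = ⊥

/-! ### the frame -/

/-- `Aut (PΩ(Q))` -/
abbrev Au (Q : QuadraticForm F V) : Type := MulAut (↥(E Q) ⧸ center ↥(E Q))

/-- `Ω(Q) → Aut (PΩ(Q))` -/
def ps (Q : QuadraticForm F V) : ↥(E Q) →* Au Q := (Psi Q).comp (lgH Q)

/-- the inner automorphisms -/
def inn (Q : QuadraticForm F V) : Subgroup (Au Q) := (ps Q).range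

/-- the preimage in `Ω(Q)` -/
def l0 {Q : QuadraticForm F V} (X : Subgroup (Au Q)) : Subgroup (V ≃ₗ[F] V) := (X.comap (ps Q)).map (E Q).subtype

/-- the image of a subgroup of `Ω(Q)` -/
def i0 (Q : QuadraticForm F V) (Y : Subgroup (V ≃ₗ[F] V)) : Subgroup (Au Q) := (Y.subgroupOf (E Q)).map (ps Q)

/-- `X` fixes the subspace `W` -/
def Fx {Q : QuadraticForm F V} (X : Subgroup (Au Q)) (W : Submodule F V) : Prop := ∀ g : Gam Q, Psi Q g ∈ X → img g W = W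

/-- the factorisation in `Aut (PΩ(Q))` -/
structure Fr (Q : QuadraticForm F V) (m : ℕ) (M H T B : Subgroup (Au Q)) : Prop extends Pl Q m where
  surj : Function.Surjective (Psi Q)
  fac : Fac M (inn Q) H T B

/-- the frame of a permutation group at the point `a` -/
structure Pf {Ω : Type} [Fintype Ω] [DecidableEq Ω] (X H T M S : Subgroup (Equiv.Perm Ω)) (a : Ω)
    (Q : QuadraticForm F V) (m : ℕ) (M' H' T' B' : Subgroup (Au Q)) (ρ : M' →* Equiv.Perm Ω) : Prop where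
  up : Up X H T M S
  fr : Fr Q m M' H' T' B'
  inj : Function.Injective ρ
  range : ρ.range = M
  mS : ∀ g : M', ρ g ∈ S ↔ g.1 ∈ inn Q
  mH : ∀ g : M', ρ g ∈ H ↔ g.1 ∈ H'
  mT : ∀ g : M', ρ g ∈ T ↔ g.1 ∈ T'
  mB : ∀ g : M', ρ g a = a ↔ g.1 ∈ B'

/-- row e: `H` fixes a non-singular point, `B` a maximal totally singular subspace -/
structure RE (Q : QuadraticForm F V) (m : ℕ) (H B : Subgroup (Au Q)) (v : V) (W : Submodule F V) : Prop where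
  ne : Q v ≠ 0
  fH : Fx H (F ∙ v)
  ts : Ts Q W
  dim : finrank F W = m
  fB : Fx B W

/-- row j: `q = 3`, `B` fixes a non-singular point, `H` a pair of complementary totally singular subspaces -/
structure RJ (Q : QuadraticForm F V) (m : ℕ) (H T B : Subgroup (Au Q)) (v : V) (W W' : Submodule F V) : Prop where
  three : Nat.card F = 3
  ne : Q v ≠ 0
  fB : Fx B (F ∙ v)
  hf : Hf Q m W W'
  fT : Fx T W ∧ Fx T W'
  fH : ∀ g : Gam Q, Psi Q g ∈ H → (img g W = W ∧ img g W' = W') ∨ (img g W = W' ∧ img g W' = W)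

end lin

section mat

variable {ι : Type} [Fintype ι] [DecidableEq ι] {F : Type} [Field F]

/-- the group of matrices -/
noncomputable def mx (Y : Subgroup ((ι → F) ≃ₗ[F] (ι → F))) : Subgroup (GL ι F) := Y.comap (glEquiv ι F).toMonoidHom

/-- `H` permutes an orthogonal decomposition -/
def Dec (Q : (ι → F) → F) (H : Subgroup (GL ι F)) : Prop :=
  ∃ (t k : ℕ) (D : Fin t → Submodule F (ι → F)), IsNondegenerateMDecomposition (polar Q) k D ∧ H ≤ decompositionStabilizer D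

/-- `H` normalises a group of symplectic type (clause C6 of `H925.orth_irreducible_fine`) -/
def Xs (H : Subgroup (GL ι F)) : Prop :=
  ∃ (r a : ℕ) (R : Subgroup (GL ι F)), R ≤ H ∧ (∀ h ∈ H, ∀ x ∈ R, h * x * h⁻¹ ∈ R) ∧
    ActsAbsolutelyIrreducibly (matrixSet R) ∧ IsSymplecticTypeGroup r R ∧ ringChar F ≠ r ∧ 1 ≤ a ∧
    Fintype.card ι = r ^ a ∧ center R = (scalars ι F).subgroupOf R ∧
    ((Odd r ∧ Nat.card (center R) = r ∧ Nat.card R = r ^ (1 + 2 * a)) ∨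
      (r = 2 ∧ Nat.card (center R) = 4 ∧ Nat.card R = 2 ^ (2 + 2 * a)) ∨
      (r = 2 ∧ Nat.card (center R) = 2 ∧ Nat.card R = 2 ^ (1 + 2 * a)))

end mat

/-! ### statements about all quadratic spaces -/

/-- a property of all `(Q, m)` with `Pl Q m` over a finite field -/
def All (R : ∀ {F V : Type} [Field F] [Fintype F] [AddCommGroup V] [Module F V] [FiniteDimensional F V],
    QuadraticForm F V → ℕ → Prop) : Prop :=
  ∀ (F V : Type) [Field F] [Fintype F] [AddCommGroup V] [Module F V] [FiniteDimensional F V] (Q : QuadraticForm F V) (m : ℕ),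
    Pl Q m → R Q m

/-- the same on column vectors -/
def AllM (R : ∀ {ι F : Type} [Fintype ι] [DecidableEq ι] [Field F] [Fintype F], QuadraticForm F (ι → F) → ℕ → Prop) : Prop :=
  ∀ (ι F : Type) [Fintype ι] [DecidableEq ι] [Field F] [Fintype F] (Q : QuadraticForm F (ι → F)) (m : ℕ), Pl Q m → R Q m

/-! ### the reduction -/

/-- [LR] the generic case -/
def BoxLR : Prop := All fun {F} {_} _ _ _ _ _ Q m => (m = 5 → 4 < Nat.card F) → (m ≤ 7 → 2 < Nat.card F) →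
  ∀ X Y, Pd Q X Y → LR Q X Y
/-- [LR10] `Ω₁₀⁺(q)`, `q ≤ 4` -/
def BoxLR10 : Prop := All fun {F} {_} _ _ _ _ _ Q m => m = 5 → Nat.card F ≤ 4 → ∀ X Y, Pd Q X Y → LR Q X Y
/-- [LR12] `Ω₁₂⁺(2)` -/
def BoxLR12 : Prop := All fun {F} {_} _ _ _ _ _ Q m => m = 6 → Nat.card F = 2 → ∀ X Y, Pd Q X Y → LR Q X Y
/-- [LR14] `Ω₁₄⁺(2)` -/
def BoxLR14 : Prop := All fun {F} {_} _ _ _ _ _ Q m => m = 7 → Nat.card F = 2 → ∀ X Y, Pd Q X Y → LR Q X Y

/-! ### geometry -/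

/-- [PL] planes -/
def BoxPl : Prop := All fun {F} {V} _ _ _ _ _ Q _ =>
  TrP Q (E Q) ∧
  (∀ P, An Q P → ∃ a ∈ P, ∃ b ∈ P, Q a = Q b ∧ Q a ≠ 0 ∧ b ∉ F ∙ a) ∧
  (∀ P, An Q P → Nondeg (res Q P)) ∧
  (∀ x : V, Q x ≠ 0 → ∃ P, An Q P ∧ x ∈ P) ∧
  (∀ U : Submodule F V, finrank F U ≤ 2 → ∃ P, An Q P ∧ P ≤ perp Q U) ∧
  (∀ (Y : Subgroup (V ≃ₗ[F] V)) (D : Submodule F V), Y ≤ O Q → Hp Q D →
    (∀ s ∈ E Q, ∃ y ∈ Y, D.map (y : V →ₗ[F] V) = D.map (s : V →ₗ[F] V)) → Tr0 Q Y)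

/-- [WS] invariant subspaces of a transitive group -/
def BoxWS : Prop := All fun {F} {V} _ _ _ _ _ Q m => ∀ (Y : Subgroup (V ≃ₗ[F] V)) (W : Submodule F V), Y ≤ O Q → Tr Q Y →
  Iv Y W → W ≠ ⊥ → W ≠ ⊤ → Ts Q W ∧ finrank F W = m

/-- [J] invariant quadratic forms of a transitive group -/
def BoxJ : Prop := All fun {F} {V} _ _ _ _ _ Q _ => ∀ (Y : Subgroup (V ≃ₗ[F] V)) (Q' : QuadraticForm F V), Y ≤ O Q → Y ≤ O Q' →
  (Tr0 Q Y ∨ (3 ≤ Nat.card F ∧ ∃ c, c ≠ 0 ∧ TrS Q Y c) ∨ (TrP Q Y ∧ ¬ Rd Y)) → ∃ μ : F, ∀ x, Q' x = μ * Q x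

/-- [K] groups normalising a quadratic field -/
def BoxK : Prop := All fun {F} {V} _ _ _ _ _ Q _ => ∀ Y : Subgroup (V ≃ₗ[F] V), AExt 2 Y →
  (∃ J : Module.End F V, (∀ (a : F) x, J x = a • x → x = 0) ∧ ∀ g ∈ Y, ∀ x, J (g (g x)) = g (g (J x))) ∧
  (Nat.card F = 3 → Y ≤ O Q → ∀ D, Hp Q D →
    (∀ s ∈ E Q, ∃ y ∈ Y, D.map (y : V →ₗ[F] V) = D.map (s : V →ₗ[F] V)) → False)

/-- [HF] isometries commuting with a group that fixes two or three halves -/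
def BoxHf : Prop := All fun {F} {V} _ _ _ _ _ Q m => ∀ (Y : Subgroup (V ≃ₗ[F] V)) (W W' : Submodule F V), Y ≤ O Q →
  Hf Q m W W' → Iv Y W → Iv Y W' →
  (∀ a : F, a ≠ 0 → ∃ d ∈ O Q, (∀ w ∈ W, d w = a • w) ∧ (∀ w ∈ W', d w = a⁻¹ • w) ∧ Cm Y d) ∧
  (∀ W'', Hf Q m W W'' → Hf Q m W' W'' → Iv Y W'' → ∃ d ∈ O Q, (∀ a : F, ∃ x, d x ≠ a • x) ∧ Cm Y d)

/-- [SIEG] Siegel transformations and small algebras -/
def BoxSieg : Prop := All fun {F} {V} _ _ _ _ _ Q m => ∀ v : V, Q v ≠ 0 →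
  (∀ U : Submodule F V, v ∈ U → U ≠ F ∙ v → finrank F U + 4 ≤ 2 * m → ¬ Iv (Sg Q v) U) ∧
  ∀ D : Subalgebra F (Module.End F V), Small m v D →
    (∀ (u w : V) (hu : Q u = 0) (hw : polar Q u w = 0), u ∈ perp Q (orb D v) → w ∈ perp Q (orb D v) →
      Nm (siegel Q u w hu hw) D) → False

/-- [TRI] a small invariant algebra from a normal subgroup which is not absolutely irreducible -/
def BoxTri : Prop := All fun {F} {V} _ _ _ _ _ Q m => ∀ (G : Subgroup (Gam Q)) (N : Subgroup (V ≃ₗ[F] V)) (v : V), Q v ≠ 0 →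
  (∀ x, Q x = Q v → ∃ g ∈ G, g.1 v = x ∨ g.1 v = -x) →
  (∀ W : Submodule F V, (∀ g ∈ G, img g W = W) → W = ⊥ ∨ W = ⊤) →
  (∀ g ∈ G, ∀ n ∈ N, conjLin g n ∈ N) →
  (∀ W : Submodule F V, Iv N W → W ≠ ⊥ → W ≠ ⊤ → finrank F W = m) →
  ¬ Ab N → ∃ D : Subalgebra F (Module.End F V), Small m v D ∧ ∀ g ∈ G, Nm g.1 D

/-- [TAU] the subfield case on a sphere -/
def BoxTau : Prop := All fun {F} {V} _ _ _ _ _ Q _ => ∀ (Y : Subgroup (V ≃ₗ[F] V)) (c : F), Y ≤ O Q → c ≠ 0 → TrS Q Y c →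
  Tau Q Y → False

/-- [RHO] a large prime divides the order of a transitive group -/
def BoxRho : Prop := All fun {F} {V} _ _ _ _ _ Q m => ∀ Y : Subgroup (V ≃ₗ[F] V), Y ≤ O Q →
  (∀ c : F, c ≠ 0 → TrS Q Y c → ¬ (Nat.card F = 2 ∧ m = 6) → ∃ r, PP (Nat.card F) m r ∧ m < r ∧ El Y r) ∧
  (TrP Q Y → ∃ e r, PP (Nat.card F) e r ∧ m ≤ e + 1 ∧ m < r ∧ El Y r)

/-! ### Aschbacher classes -/

/-- [ASC] the classes left by a large prime -/
def BoxAsc : Prop := AllM fun {ι} {F} _ _ _ _ Q m => ∀ (Y : Subgroup ((ι → F) ≃ₗ[F] (ι → F))) (e r : ℕ), Y ≤ E Q →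
  PP (Nat.card F) e r → m ≤ e + 1 → m < r → Ab (Gn Y r) →
  InOrthogonalResidualClass (mx Y) ∨ Tau Q Y ∨ Dec Q (mx Y) ∨ Xs (mx Y)

/-- [DEC] orthogonal decompositions -/
def BoxDec : Prop := AllM fun {ι} {F} _ _ _ _ Q _ => ∀ Y : Subgroup ((ι → F) ≃ₗ[F] (ι → F)), Y ≤ O Q → Tr Q Y →
  Dec Q (mx Y) → False

/-- [XS] normalisers of extraspecial groups -/
def BoxXs : Prop := AllM fun {ι} {F} _ _ _ _ Q _ => ∀ (Y : Subgroup ((ι → F) ≃ₗ[F] (ι → F))) (c : F), Y ≤ O Q → c ≠ 0 →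
  TrS Q Y c → Xs (mx Y) → False

/-- [T62] `Ω₁₂⁺(2)` on the non-singular vectors -/
def BoxT62 : Prop := AllM fun {ι} {F} _ _ _ _ Q m => Nat.card F = 2 → m = 6 →
  ∀ (Y : Subgroup ((ι → F) ≃ₗ[F] (ι → F))) (v : ι → F), Y ≤ E Q → Q v ≠ 0 → TrS Q Y (Q v) → ¬ Rd Y →
  InOrthogonalResidualClass (mx Y) ∨ Dec Q (mx Y) ∨
    ∃ D : Subalgebra F (Module.End F (ι → F)), Small m v D ∧ ∀ y ∈ Y, Nm y D

/-- [C10], [C12] class `S` in dimension `2 k` -/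
def BoxC (k : ℕ) : Prop := AllM fun {ι} {F} _ _ _ _ Q m => m = k →
  ∀ (Y : Subgroup ((ι → F) ≃ₗ[F] (ι → F))) (P : Subgroup (GL ι F)), Y ≤ E Q → ¬ E Q ≤ Y → Tr Q Y →
  IsResidualCore (mx Y) P → False

/-! ### the groups `T` of the rows -/

/-- the stabiliser of a non-singular vector -/
def Av {F V : Type} [Field F] [AddCommGroup V] [Module F V] (Q : QuadraticForm F V) (m : ℕ) (v : V) : Prop :=
  IsSimpleGroup (Sg Q v) ∧ (∀ p f : ℕ, p.Prime → Nat.card F = p ^ f → Art.Real (.C (m - 1)) p f (Nat.card (Sg Q v))) ∧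
    ∀ α : MulAut (Sg Q v), ∃ γ : Gam Q, img γ (F ∙ v) = F ∙ v ∧ ∀ t : Sg Q v, conjLin γ t.1 = (α t).1

/-- [AVO] `Ω_{2m-1}(q)`, `q` odd -/
def BoxAvO : Prop := All fun {F} {_} _ _ _ _ _ Q m => (2 : F) ≠ 0 → ∀ v, Q v ≠ 0 → Av Q m v
/-- [AVE] `Sp_{2m-2}(q)`, `q` even -/
def BoxAvE : Prop := All fun {F} {_} _ _ _ _ _ Q m => (2 : F) = 0 → ∀ v, Q v ≠ 0 → Av Q m v

/-- [AW] `L_m(3)` -/
def BoxAw : Prop := All fun {F} {V} _ _ _ _ _ Q m => Nat.card F = 3 → ∀ W W' : Submodule F V, Hf Q m W W' →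
  IsSimpleGroup (i0 Q (Sw Q W W')) ∧ Art.Real (.L m) 3 1 (Nat.card (i0 Q (Sw Q W W'))) ∧
    ∀ α : MulAut (i0 Q (Sw Q W W')), ∃ γ : Gam Q, ((img γ W = W ∧ img γ W' = W') ∨ (img γ W = W' ∧ img γ W' = W)) ∧
      ∀ t : i0 Q (Sw Q W W'), Psi Q γ * t.1 * (Psi Q γ)⁻¹ = (α t).1

/-! ### the table -/

/-- `Ω_{2m-1}(q)` on a family of maximal totally singular subspaces -/
def RowE (t n : ℕ) : Prop := ∃ p f m : ℕ, 5 ≤ m ∧ Art.Real (.C (m - 1)) p f t ∧ n = ∏ i ∈ Finset.range (m - 1), ((p ^ f) ^ (i + 1) + 1)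

/-- `L_m(3)` on a class of non-singular points -/
def RowJ (t n : ℕ) : Prop := ∃ m : ℕ, 5 ≤ m ∧ Art.Real (.L m) 3 1 t ∧ 2 * n = 3 ^ (m - 1) * (3 ^ m - 1)

/-- `Sp₂₂(2)` on the cosets of `Co₃` -/
def RowC (t n : ℕ) : Prop := Art.Real (.C 11) 2 1 t ∧ t = n * 495766656000

/-- **the table** -/
def tabP5 : Tab := fun t n k => (k = 1 ∧ (RowE t n ∨ RowJ t n)) ∨ (k = 8 ∧ RowC t n)

/-- the subfamily `m ≥ 5` -/
def fP5 : Fam := fun S _ => ∃ (F : Type) (_ : Field F) (_ : Fintype F) (m : ℕ), 5 ≤ m ∧ Nonempty (S ≃* POmega F (quadFormPlus m F))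

section perm

variable {Ω : Type} [Fintype Ω] [DecidableEq Ω]

/-- the overgroups in row e -/
def OE (X H T : Subgroup (Equiv.Perm Ω)) : Set (Subgroup (Equiv.Perm Ω)) :=
  {M | ∃ (S : Subgroup (Equiv.Perm Ω)) (a : Ω) (F : Type) (_ : Field F) (_ : Fintype F) (m : ℕ)
    (M' H' T' B' : Subgroup (Au (plusForm m F))) (ρ : M' →* Equiv.Perm Ω) (v : Fin m ⊕ Fin m → F)
    (W : Submodule F (Fin m ⊕ Fin m → F)), Pf X H T M S a (plusForm m F) m M' H' T' B' ρ ∧ RE (plusForm m F) m H' B' v W}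

/-- the overgroups in row j -/
def OJ (X H T : Subgroup (Equiv.Perm Ω)) : Set (Subgroup (Equiv.Perm Ω)) :=
  {M | ∃ (S : Subgroup (Equiv.Perm Ω)) (a : Ω) (F : Type) (_ : Field F) (_ : Fintype F) (m : ℕ)
    (M' H' T' B' : Subgroup (Au (plusForm m F))) (ρ : M' →* Equiv.Perm Ω) (v : Fin m ⊕ Fin m → F)
    (W W' : Submodule F (Fin m ⊕ Fin m → F)), Pf X H T M S a (plusForm m F) m M' H' T' B' ρ ∧
      RJ (plusForm m F) m H' T' B' v W W'}

end perm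

/-- [RE] rigidity of row e -/
def BoxRE : Prop := ∀ (Ω : Type) [Fintype Ω] [DecidableEq Ω] (X H T : Subgroup (Equiv.Perm Ω)),
  (OE X H T).Subsingleton ∧ ((OE X H T).Nonempty → RowE (Nat.card T) (Fintype.card Ω))

/-- [RJ] rigidity of row j -/
def BoxRJ : Prop := ∀ (Ω : Type) [Fintype Ω] [DecidableEq Ω] (X H T : Subgroup (Equiv.Perm Ω)),
  (OJ X H T).Subsingleton ∧ ((OJ X H T).Nonempty → RowJ (Nat.card T) (Fintype.card Ω))

/-- [Q2] `q = 2`, `Ω` the non-singular vectors: `M` lies in the symplectic group -/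
def BoxQ2 : Prop := ∀ (Ω : Type) [Fintype Ω] [DecidableEq Ω] (X H T M S : Subgroup (Equiv.Perm Ω)) (a : Ω)
  (F V : Type) [Field F] [Fintype F] [AddCommGroup V] [Module F V] [FiniteDimensional F V] (Q : QuadraticForm F V) (m : ℕ)
  (M' H' T' B' : Subgroup (Au Q)) (ρ : M' →* Equiv.Perm Ω) (v : V), Pf X H T M S a Q m M' H' T' B' ρ → Nat.card F = 2 →
  Q v ≠ 0 → Fx B' (F ∙ v) → False

end Cfsg.Agent.SM.Op
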