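import Cfsg.Agent.SM.Op.Defs
import Cfsg.Agent.H932.TwelveIrr
import Cfsg.Agent.H262.ElOrd
import Cfsg.Agent.H100.Ppd.StructB
import Cfsg.Agent.H872.TensorBasic
import Cfsg.Agent.H912.TensForm3
import Cfsg.Agent.H883.Bridge
import Cfsg.Agent.H926.Sub1

/-!
# SM (S3570), socle `PΩ⁺_{2m}(q)`: the boxes `BoxAsc` and `BoxT62` (helper21)
-/

set_option autoImplicit false
set_option linter.unusedSectionVars false

namespace Cfsg.Agent.SM.Op

open Module QuadraticMap Cfsg Cfsg.Geo Subgroup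
open Cfsg.Agent.LieClassical.OrthCore Cfsg.Agent.ClassicalGeometry.OrthSemi
open Cfsg.Agent.LieClassical.OrthFinite (glEquiv)
open Cfsg.Agent.H826.RgF (Rd)
open Cfsg.Agent.H884.El (PP)
open scoped MatrixGroups Matrix Kronecker

namespace Asc

section lin

variable {F V : Type} [Field F] [AddCommGroup V] [Module F V] {Y : Subgroup (V ≃ₗ[F] V)} {r N : ℕ}

theorem gn_le : Gn Y r ≤ Y := (closure_le _).2 fun _ hg => hg.1

/-- the automorphisms commuting with `d` -/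
def cmt (d : Module.End F V) : Subgroup (V ≃ₗ[F] V) where
  carrier := {g | ∀ x, d (g x) = g (d x)}
  mul_mem' := fun {a b} ha hb x => by
    change d (a (b x)) = a (b (d x))
    rw [ha, hb]
  one_mem' := fun _ => rfl
  inv_mem' := fun {a} ha x => a.injective (by
    rw [← ha]
    exact (congrArg d (a.apply_symm_apply x)).trans (a.apply_symm_apply _).symm)

theorem key (h : Ab (Gn Y r)) (hN : N.Coprime r) (d : Module.End F V)
    (hd : ∀ y ∈ Y, orderOf y = r → y ^ N ∈ cmt d) : ∃ a : F, ∀ x, d x = a • x := by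
  refine h.2 d fun g hg => (closure_le (cmt d)).2 (fun y hy => ?_) hg
  obtain ⟨k, hk⟩ := exists_pow_eq_self_of_coprime (x := y) (n := N) (hy.2 ▸ hN)
  exact hk ▸ (cmt d).pow_mem (hd y hy.1 hy.2) k

/-- the endomorphisms which are scalar on the members of `D` -/
def dg (D : Fin 2 → Submodule F V) : Subalgebra F (Module.End F V) where
  carrier := {d | ∀ i, ∃ a : F, ∀ x ∈ D i, d x = a • x}
  mul_mem' := fun {d d'} h h' i => by
    obtain ⟨a, ha⟩ := h i
    obtain ⟨b, hb⟩ := h' i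
    exact ⟨b * a, fun x hx => by rw [Module.End.mul_apply, hb x hx, map_smul, ha x hx, smul_smul]⟩
  add_mem' := fun {d d'} h h' i => by
    obtain ⟨a, ha⟩ := h i
    obtain ⟨b, hb⟩ := h' i
    exact ⟨a + b, fun x hx => by rw [LinearMap.add_apply, ha x hx, hb x hx, add_smul]⟩
  algebraMap_mem' := fun a _ => ⟨a, fun _ _ => rfl⟩

variable {D : Fin 2 → Submodule F V}

theorem dec (h : IsCompl (D 0) (D 1)) (x : V) : ∃ u ∈ D 0, ∃ w ∈ D 1, u + w = x :=
  Submodule.mem_sup.1 (h.sup_eq_top.ge (Submodule.mem_top (x := x)))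

theorem proj_mem (h : IsCompl (D 0) (D 1)) : (D 0).projection (D 1) h ∈ dg D :=
  Fin.forall_fin_two.2 ⟨⟨1, fun x hx => by rw [one_smul]; exact Submodule.projection_apply_left h ⟨x, hx⟩⟩,
    ⟨0, fun x hx => by rw [zero_smul]; exact Submodule.projection_apply_right h ⟨x, hx⟩⟩⟩

theorem proj_ns (h : IsCompl (D 0) (D 1)) (h0 : ∀ i, D i ≠ ⊥) {a : F} (ha : ∀ x, (D 0).projection (D 1) h x = a • x) :
    False := by
  obtain ⟨u, hu, hu0⟩ := Submodule.exists_mem_ne_zero_of_ne_bot (h0 0)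
  obtain ⟨w, hw, hw0⟩ := Submodule.exists_mem_ne_zero_of_ne_bot (h0 1)
  have h1 := (smul_eq_zero.1 ((ha w).symm.trans (Submodule.projection_apply_right h ⟨w, hw⟩))).resolve_right hw0
  have h2 := (ha u).symm.trans (Submodule.projection_apply_left h ⟨u, hu⟩)
  rw [h1, zero_smul] at h2
  exact hu0 h2.symm

theorem mem_cmt (h : IsCompl (D 0) (D 1)) {d : Module.End F V} (hd : d ∈ dg D) {g : V ≃ₗ[F] V}
    (hg : ∀ i, ∀ x ∈ D i, g x ∈ D i) : g ∈ cmt d := fun x => by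
  obtain ⟨u, hu, w, hw, rfl⟩ := dec h x
  obtain ⟨a, ha⟩ := hd 0
  obtain ⟨b, hb⟩ := hd 1
  rw [map_add, map_add, map_add, map_add, ha u hu, hb w hw, ha _ (hg 0 u hu), hb _ (hg 1 w hw), map_smul, map_smul]

theorem small [FiniteDimensional F V] {m : ℕ} (hm : 3 ≤ m) (h : IsCompl (D 0) (D 1)) (hd : ∀ i, finrank F (D i) = m) {v : V}
    (hv : ∀ i, v ∉ D i) : Small m v (dg D) := by
  have h0 : ∀ i, D i ≠ ⊥ := fun i hi => by
    have h1 := hd i
    rw [hi, finrank_bot] at h1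
    omega
  have h1 : finrank F (dg D) ≤ 2 := by
    let f : (F × F) →ₗ[F] Module.End F V := (LinearMap.toSpanSingleton F _ ((D 0).projection (D 1) h)).coprod
      (LinearMap.toSpanSingleton F _ ((D 1).projection (D 0) h.symm))
    have h2 : Subalgebra.toSubmodule (dg D) ≤ LinearMap.range f := fun d hd => by
      obtain ⟨a, ha⟩ := hd 0
      obtain ⟨b, hb⟩ := hd 1
      refine ⟨(a, b), LinearMap.ext fun x => ?_⟩
      change a • (D 0).projection (D 1) h x + b • (D 1).projection (D 0) h.symm x = d x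
      rw [← ha _ (Submodule.projection_apply_mem h x), ← hb _ (Submodule.projection_apply_mem h.symm x), ← map_add,
        Submodule.projection_add_projection_eq_self]
    rw [← Subalgebra.finrank_toSubmodule]
    refine (Submodule.finrank_mono h2).trans ((LinearMap.finrank_range_le f).trans ?_)
    simp
  have h2 : ∀ d ∈ dg D, d ≠ 0 → ∃ i, LinearMap.ker d ≤ D i := by
    intro d hd hd0
    obtain ⟨a, ha⟩ := hd 0
    obtain ⟨b, hb⟩ := hd 1
    have h3 : ∀ u ∈ D 0, ∀ w ∈ D 1, d (u + w) = 0 → a • u = 0 ∧ b • w = 0 := fun u hu w hw h3 => by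
      rw [map_add, ha u hu, hb w hw] at h3
      have h4 : a • u = 0 := (Submodule.disjoint_def.1 h.disjoint) _ ((D 0).smul_mem a hu)
        (eq_neg_of_add_eq_zero_left h3 ▸ (D 1).neg_mem ((D 1).smul_mem b hw))
      exact ⟨h4, by rwa [h4, zero_add] at h3⟩
    by_cases h4 : a = 0
    · have h5 : b ≠ 0 := fun h5 => hd0 (LinearMap.ext fun x => by
        obtain ⟨u, hu, w, hw, rfl⟩ := dec h x
        rw [map_add, ha u hu, hb w hw, h4, h5, zero_smul, zero_smul, add_zero, LinearMap.zero_apply])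
      refine ⟨0, fun x hx => ?_⟩
      obtain ⟨u, hu, w, hw, rfl⟩ := dec h x
      rwa [(smul_eq_zero.1 (h3 u hu w hw hx).2).resolve_left h5, add_zero]
    · refine ⟨1, fun x hx => ?_⟩
      obtain ⟨u, hu, w, hw, rfl⟩ := dec h x
      rwa [(smul_eq_zero.1 (h3 u hu w hw hx).1).resolve_left h4, zero_add]
  refine ⟨fun hb => ?_, by omega, fun d hd hdv => by_contra fun hd0 => ?_, .inr ⟨h1, fun d hd' hd0 => ?_⟩⟩
  · obtain ⟨a, ha⟩ := Algebra.mem_bot.1 (hb ▸ proj_mem h)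
    exact proj_ns h h0 (a := a) fun x => by rw [← ha]; rfl
  · obtain ⟨i, hi⟩ := h2 d hd hd0
    exact hv i (hi hdv)
  · obtain ⟨i, hi⟩ := h2 d hd' hd0
    exact (Submodule.finrank_mono hi).trans (hd i).le

theorem nm_dg {g : V ≃ₗ[F] V} {σ : Equiv.Perm (Fin 2)} (hg : ∀ i, (D i).map (g : V →ₗ[F] V) = D (σ i)) : Nm g (dg D) := by
  intro d hd
  refine ⟨(g : V →ₗ[F] V) ∘ₗ d ∘ₗ (g.symm : V →ₗ[F] V), fun i => ?_, fun x => by simp⟩
  obtain ⟨a, ha⟩ := hd (σ.symm i)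
  refine ⟨a, fun x hx => ?_⟩
  rw [← σ.apply_symm_apply i, ← hg] at hx
  obtain ⟨u, hu, rfl⟩ := hx
  simp [ha u hu]

end lin

variable {ι F : Type} [Fintype ι] [DecidableEq ι] [Field F] {Y : Subgroup ((ι → F) ≃ₗ[F] (ι → F))} {r N : ℕ}

theorem exists_mx {y : (ι → F) ≃ₗ[F] (ι → F)} (hy : y ∈ Y) : ∃ g ∈ mx Y, glEquiv ι F g = y :=
  ⟨(glEquiv ι F).symm y, show glEquiv ι F ((glEquiv ι F).symm y) ∈ Y by rwa [MulEquiv.apply_symm_apply],
    (glEquiv ι F).apply_symm_apply y⟩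

theorem irr (h : ¬ Rd Y) : ActsIrreducibly (matrixSet (mx Y)) := fun W hW => by
  by_contra h1
  refine h ⟨W, (not_or.1 h1).1, (not_or.1 h1).2, fun a ha w hw => ?_⟩
  obtain ⟨g, hg, rfl⟩ := exists_mx ha
  exact hW _ ⟨g, hg, rfl⟩ ⟨w, hw, rfl⟩

theorem keyM (h : Ab (Gn Y r)) (hN : N.Coprime r) (M : Matrix ι ι F)
    (hM : ∀ g ∈ mx Y, orderOf g = r → ((g ^ N : GL ι F) : Matrix ι ι F) * M = M * (g ^ N : GL ι F)) :
    ∃ c : F, M = c • (1 : Matrix ι ι F) := by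
  obtain ⟨c, hc⟩ := key h hN (Matrix.toLin' M) fun y hy ho x => by
    obtain ⟨g, hg, rfl⟩ := exists_mx hy
    rw [← map_pow]
    change M *ᵥ (((g ^ N : GL ι F) : Matrix ι ι F) *ᵥ x) = ((g ^ N : GL ι F) : Matrix ι ι F) *ᵥ (M *ᵥ x)
    rw [Matrix.mulVec_mulVec, Matrix.mulVec_mulVec, hM g hg ((MulEquiv.orderOf_eq _ g).symm.trans ho)]
  exact ⟨c, Matrix.ext_of_mulVec_single fun i => by rw [Matrix.smul_mulVec, Matrix.one_mulVec]; exact hc _⟩

theorem compl {k : ℕ} {D : Fin 2 → Submodule F (ι → F)} (hD : IsMDecomposition k D) : IsCompl (D 0) (D 1) :=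
  ⟨hD.indep.pairwiseDisjoint (by decide), codisjoint_iff.2 (by
    rw [← hD.iSup_eq_top]
    exact le_antisymm (sup_le (le_iSup D 0) (le_iSup D 1)) (iSup_le (Fin.forall_fin_two.2 ⟨le_sup_left, le_sup_right⟩)))⟩

theorem sq_fin2 : ∀ (σ : Equiv.Perm (Fin 2)) (i : Fin 2), σ (σ i) = i := by decide

/-- (C2b) -/
theorem c2 (h : Ab (Gn Y r)) (hr : Odd r) {k : ℕ} {D : Fin 2 → Submodule F (ι → F)} (hD : IsMDecomposition k D)
    (hY : mx Y ≤ decompositionStabilizer D) : False := by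
  obtain ⟨a, ha⟩ := key h (Nat.coprime_two_left.2 hr) _ fun y hy _ => mem_cmt (compl hD) (proj_mem (compl hD)) (g := y ^ 2)
    fun i x hx => by
      obtain ⟨g, hg, rfl⟩ := exists_mx hy
      obtain ⟨σ, hσ⟩ := hY hg
      have h1 : ∀ i, ∀ x ∈ D i, glEquiv ι F g x ∈ D (σ i) := fun i x hx => hσ i ▸ ⟨x, hx, rfl⟩
      rw [pow_two, ← sq_fin2 σ i]
      exact h1 _ _ (h1 i x hx)
  refine proj_ns (compl hD) (fun i hi => ?_) ha
  have h1 := hD.finrank_eq i
  rw [hi, finrank_bot] at h1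
  exact hD.pos.ne h1

theorem exists_ns [Nonempty ι] {s : ℕ} (hs : s ≠ 1) {K : Subalgebra F (Matrix ι ι F)} (hK : IsFieldSubalgebra s K) :
    ∃ x ∈ K, ∀ c : F, x ≠ c • (1 : Matrix ι ι F) := by
  by_contra h
  push Not at h
  refine hs (hK.finrank_eq.symm.trans ?_)
  rw [show K = ⊥ from le_bot_iff.1 fun x hx => Algebra.mem_bot.2 ((h x hx).imp fun c hc => by
    rw [hc, Algebra.algebraMap_eq_smul_one]), Subalgebra.finrank_bot]

theorem kron_pow {a b : Type} [Fintype a] [DecidableEq a] [Fintype b] [DecidableEq b] (A : Matrix a a F) (B : Matrix b b F)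
    (k : ℕ) : (A ⊗ₖ B) ^ k = (A ^ k) ⊗ₖ (B ^ k) := by
  induction k with
  | zero => rw [pow_zero, pow_zero, pow_zero, Matrix.one_kronecker_one]
  | succ k ih => rw [pow_succ, pow_succ, pow_succ, ih, Matrix.mul_kronecker_mul]

variable [Fintype F] {e : ℕ}

theorem nd (hr : PP (Nat.card F) e r) {k : ℕ} (hk : k < e) : ¬ r ∣ Fintype.card F ∧
    ∀ j, 1 ≤ j → j ≤ k → ¬ r ∣ Fintype.card F ^ j - 1 := by
  rw [← Nat.card_eq_fintype_card]
  refine ⟨hr.not_dvd (by omega), fun j h1 h2 h3 => ?_⟩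
  have h4 := Nat.le_of_dvd h1 ((hr.dvd_iff Nat.card_pos j).1 h3)
  omega

/-- (C4) -/
theorem c4 (h : Ab (Gn Y r)) (hr : PP (Nat.card F) e r) {n₁ n₂ : ℕ} (h1 : 2 ≤ n₁) (h2 : 2 ≤ n₂) (hn : n₁ < e)
    {ε : ι ≃ Fin n₁ × Fin n₂} {P : GL ι F} (hY : mx Y ≤ tensorProductSubgroup n₁ n₂ ε P) : False := by
  have h3 := H262.El.not_dvd_card_GL (ι := Fin n₁) (F := F) hr.prime (nd hr hn).1 (by
    rw [Fintype.card_fin]
    exact (nd hr hn).2)
  obtain ⟨c, hc⟩ := keyM h ((Nat.Prime.coprime_iff_not_dvd hr.prime).2 h3).symm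
    (H872.emb ε P (Matrix.single (⟨0, by omega⟩ : Fin n₁) ⟨1, by omega⟩ (1 : F) ⊗ₖ (1 : Matrix (Fin n₂) (Fin n₂) F)))
    fun g hg _ => by
      obtain ⟨a, b, hab⟩ := H872.mem_tensorProductSubgroup.1 (hY hg)
      rw [Units.val_pow_eq_pow_val, hab, ← map_pow, kron_pow, ← Units.val_pow_eq_pow_val a, pow_card_eq_one', Units.val_one,
        ← map_mul, ← map_mul, ← Matrix.mul_kronecker_mul, ← Matrix.mul_kronecker_mul, one_mul, mul_one, one_mul, mul_one]
  rw [← map_one (H872.emb ε P), ← map_smul] at hc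
  have h4 := congrFun (congrFun ((H872.emb ε P).injective hc) (⟨0, by omega⟩, ⟨0, by omega⟩)) (⟨1, by omega⟩, ⟨0, by omega⟩)
  simp at h4

/-- a quadratic form with values in the fixed field -/
theorem twist (Q : QuadraticForm F (ι → F)) {K : Subfield F} (σ : F ≃+* F) (hσ : ∀ a ∈ K, σ a = a)
    (h : ∀ u : ι → F, (∀ i, u i ∈ K) → Q u ∈ K) (u : ι → F) : Q (fun i => σ (u i)) = σ (Q u) := by
  have h0 : ∀ i j, (Pi.single i 1 : ι → F) j ∈ K := fun i j => by
    rw [Pi.single_apply]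
    split_ifs
    exacts [K.one_mem, K.zero_mem]
  have h1 : ∀ i j, σ (polar Q (Pi.single i 1) (Pi.single j 1)) = polar Q (Pi.single i 1) (Pi.single j 1) := fun i j =>
    hσ _ (K.sub_mem (K.sub_mem (h _ fun k => K.add_mem (h0 i k) (h0 j k)) (h _ (h0 i))) (h _ (h0 j)))
  have h2 : ∀ (s : Finset ι) (j : ι), polar Q (Pi.single j 1) (∑ i ∈ s, σ (u i) • (Pi.single i 1 : ι → F)) =
      σ (polar Q (Pi.single j 1) (∑ i ∈ s, u i • (Pi.single i 1 : ι → F))) := by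
    intro s j
    induction s using Finset.induction_on with
    | empty => simp
    | insert a s ha ih =>
      rw [Finset.sum_insert ha, Finset.sum_insert ha, polar_add_right, polar_add_right, polar_smul_right, polar_smul_right,
        ih, map_add, smul_eq_mul, smul_eq_mul, map_mul, h1]
  have h3 : ∀ s : Finset ι, Q (∑ i ∈ s, σ (u i) • (Pi.single i 1 : ι → F)) =
      σ (Q (∑ i ∈ s, u i • (Pi.single i 1 : ι → F))) := by
    intro s
    induction s using Finset.induction_on with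
    | empty => simp
    | insert a s ha ih =>
      rw [Finset.sum_insert ha, Finset.sum_insert ha, Q_add, Q_add, polar_smul_left, polar_smul_left, ih, h2, Q.map_smul,
        Q.map_smul, map_add, map_add, smul_eq_mul, smul_eq_mul, smul_eq_mul, smul_eq_mul, map_mul, map_mul, map_mul,
        hσ _ (h _ (h0 a))]
  have h4 : ∀ x : ι → F, ∑ i, x i • (Pi.single i 1 : ι → F) = x := fun x => (pi_eq_sum_univ' x).symm
  have h5 := h3 Finset.univ
  rwa [h4 u, h4 fun i => σ (u i)] at h5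

/-- (C5) -/
theorem c5 (Q : QuadraticForm F (ι → F)) {K : Subfield F} (hK : K ≠ ⊤) {P : GL ι F} {ζ : F} (hζ : ζ ≠ 0)
    (h : IsQuadFormRationalStructure (fun v => ζ * Q v) K P) (hY : mx Y ≤ subfieldSubgroup K P) : Tau Q Y := by
  obtain ⟨φ, a, ha⟩ : ∃ (φ : F ≃ₐ[K] F) (a : F), φ a ≠ a := by
    by_contra h1
    push Not at h1
    refine hK (eq_top_iff.2 fun a _ => ?_)
    obtain ⟨b, rfl⟩ := (IsGalois.mem_range_algebraMap_iff_fixed (F := K) a).2 fun φ => h1 φ a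
    exact b.2
  obtain ⟨σ, hσ, hσ1⟩ : ∃ σ : F ≃+* F, (∀ a ∈ K, σ a = a) ∧ σ ≠ RingEquiv.refl F :=
    ⟨φ.toRingEquiv, fun a ha => φ.commutes ⟨a, ha⟩, fun h1 => ha (DFunLike.congr_fun h1 a)⟩
  let p := glEquiv ι F P
  let τ : Equiv.Perm (ι → F) := (p.symm.toEquiv.trans (Equiv.piCongrRight fun _ => σ.toEquiv)).trans p.toEquiv
  have hτ : ∀ x, τ (p x) = p fun i => σ (x i) := fun x => by
    change p (fun i => σ (p.symm (p x) i)) = _
    rw [p.symm_apply_apply]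
  have h1 := twist (ζ • Q.comp (p : (ι → F) →ₗ[F] (ι → F))) σ hσ h
  have h2 : IsSS Q σ (ζ⁻¹ * σ ζ) τ := by
    refine ⟨mul_ne_zero (inv_ne_zero hζ) ((map_ne_zero σ).2 hζ), fun u v => ?_, fun c v => ?_, fun v => ?_⟩
    · obtain ⟨u, rfl⟩ := p.surjective u
      obtain ⟨v, rfl⟩ := p.surjective v
      rw [← map_add, hτ, hτ, hτ, ← map_add]
      congr 1
      funext i
      exact map_add σ _ _
    · obtain ⟨v, rfl⟩ := p.surjective v
      rw [← map_smul, hτ, hτ, ← map_smul]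
      congr 1
      funext i
      exact map_mul σ _ _
    · obtain ⟨v, rfl⟩ := p.surjective v
      have h2 : ζ * Q (p fun i => σ (v i)) = σ (ζ * Q (p v)) := h1 v
      rw [hτ, mul_assoc, ← map_mul, ← h2, inv_mul_cancel_left₀ hζ]
  refine ⟨⟨τ, σ, _, h2⟩, σ, _, h2, hσ1, fun y hy => ?_⟩
  obtain ⟨g, hg, rfl⟩ := exists_mx hy
  obtain ⟨c, hc, hM⟩ := H914.mem_subfieldSubgroup_iff.1 (hY hg)
  have h3 : ∀ x, glEquiv ι F g (p x) = p (((P⁻¹ * g * P : GL ι F) : Matrix ι ι F) *ᵥ x) := fun x => by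
    change (glEquiv ι F g * glEquiv ι F P) x = (glEquiv ι F P * glEquiv ι F (P⁻¹ * g * P)) x
    rw [← map_mul, ← map_mul, ← mul_assoc, mul_inv_cancel_left]
  generalize ((P⁻¹ * g * P : GL ι F) : Matrix ι ι F) = M at hM h3
  refine ⟨c * (σ c)⁻¹, fun x => ?_⟩
  obtain ⟨x, rfl⟩ := p.surjective x
  change τ _ = _ • glEquiv ι F g (τ _)
  rw [h3, hτ, hτ, h3, ← map_smul]
  congr 1
  funext i
  simp only [Matrix.mulVec, dotProduct, map_sum, Pi.smul_apply, smul_eq_mul, Finset.mul_sum, map_mul]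
  refine Finset.sum_congr rfl fun j _ => ?_
  have h4 := hσ _ (hM i j)
  have h5 := (map_ne_zero σ).2 hc
  rw [map_mul] at h4
  field_simp
  linear_combination σ (x j) * h4

/-- a field of matrices is a small algebra -/
theorem small_field {m s : ℕ} (hs : s ≠ 1) (hm : s + 4 ≤ 2 * m) {K : Subalgebra F (Matrix ι ι F)} (hK : IsFieldSubalgebra s K)
    {v : ι → F} (hv : v ≠ 0) : Small m v (K.map (Matrix.toLinAlgEquiv' : Matrix ι ι F ≃ₐ[F] _).toAlgHom) := by
  have : Nonempty ι := by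
    by_contra h
    exact hv (funext fun i => absurd ⟨i⟩ h)
  have h1 : ∀ x ∈ K, ∀ u : ι → F, u ≠ 0 → x *ᵥ u = 0 → x = 0 := fun x hx u hu h => by_contra fun h0 => by
    obtain ⟨y, hy, hxy⟩ := hK.inv x hx h0
    refine hu ?_
    rw [← Matrix.one_mulVec u, ← hxy, hK.comm x hx y hy, ← Matrix.mulVec_mulVec, h, Matrix.mulVec_zero]
  obtain ⟨x, hx, h2⟩ := exists_ns hs hK
  have h3 : ∀ u : ι → F, u ≠ 0 → x *ᵥ u ∉ F ∙ u := fun u hu h => by
    obtain ⟨c, hc⟩ := Submodule.mem_span_singleton.1 h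
    refine h2 c (sub_eq_zero.1 (h1 _ (K.sub_mem hx (K.smul_mem K.one_mem c)) u hu ?_))
    rw [Matrix.sub_mulVec, Matrix.smul_mulVec, Matrix.one_mulVec, hc, sub_self]
  refine ⟨fun h0 => ?_, ?_, ?_, .inl fun u hu => ⟨_, ⟨x, hx, rfl⟩, h3 u hu⟩⟩
  · obtain ⟨c, hc⟩ := Algebra.mem_bot.1 (h0.le ⟨x, hx, rfl⟩)
    exact h3 v hv (Submodule.mem_span_singleton.2 ⟨c, LinearMap.congr_fun hc v⟩)
  · rwa [← ((Matrix.toLinAlgEquiv' : Matrix ι ι F ≃ₐ[F] _).subalgebraMap K).toLinearEquiv.finrank_eq, hK.finrank_eq]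
  · rintro _ ⟨y, hy, rfl⟩ h
    rw [h1 y hy v hv h, map_zero]

end Asc

open Asc

/-- **[ASC]** -/
theorem boxAsc : BoxAsc := by
  intro ι F _ _ _ _ Q m hP Y e r hY hr he hm h
  have hc : Fintype.card ι = 2 * m := by rw [← hP.dim, finrank_fintype_fun_eq_card]
  have h5 := hP.five
  have hnt : Nontrivial ι := Fintype.one_lt_card_iff_nontrivial.1 (by omega)
  have hQ := H925.isND_of_nondeg hP.good.nondeg
  have hI : mx Y ≤ isometryGroup F Q := fun g hg => LieClassical.OrthFinite.mem_isometryGroup_iff.2 (E_le_O (hY hg))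
  have hirr : ActsIrreducibly (matrixSet (mx Y)) := irr fun ⟨W, h1, h2, h3⟩ => h.1 ⟨W, h1, h2, fun a ha => h3 a (gn_le ha)⟩
  rcases H925.orth_irreducible_fine (by omega) hQ hI hirr with
    ⟨t, k, D, -, hD, hH, -⟩ | ⟨k, D, -, hD, -, hH⟩ | ⟨s, K, hs, hd, hK, -, hH⟩ |
    ⟨n₁, n₂, ε, P, -, -, -, h1, h2, hn, -, -, -, -, hH⟩ | ⟨K, s, P, ζ, hK, -, -, hζ, hR, hH⟩ |
    ⟨s, a, R, h1, h2, -, h3, h4, h6, h7, h8, h9, h10, -⟩ | ⟨k, t, ε, P, X, hk, hW⟩ | h1
  · exact .inr (.inr (.inl ⟨t, k, D, hD.decomp, hH⟩))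
  · exact (c2 h (hr.odd (by omega)) hD hH).elim
  · obtain ⟨x, hx, h1⟩ := exists_ns hs.ne_one hK
    obtain ⟨c, hc'⟩ := keyM h ((Nat.coprime_primes hs hr.prime).2 fun h2 => by
      obtain ⟨j, hj⟩ := hd
      have h3 := hr.odd (by omega)
      rw [hc, h2] at hj
      rcases j with _ | _ | j
      · omega
      · rw [Nat.odd_iff] at h3
        omega
      · nlinarith) x fun g hg _ => H100.Ppd.pow_commutes hs hK (hH hg) x hx
    exact (h1 c hc').elim
  · exfalso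
    rcases le_total n₁ n₂ with h3 | h3
    · exact c4 h hr h1 h2 (by nlinarith) hH
    · exact c4 h hr h2 h1 (by nlinarith) (H912.tensorProductSubgroup_swap ε P ▸ hH)
  · exact .inr (.inl (c5 Q hK hζ (H926.quadRational_of_formRational hQ (by omega) hI hirr hH hζ hR) hH))
  · exact .inr (.inr (.inr ⟨s, a, R, h1, h2, h3, h4, h6, h7, h8, h9, h10⟩))
  · exfalso
    have h1 := hW.two_le_m
    have h2 := hW.two_le_t
    have h3 : k * k ≤ 2 * m := by
      rw [← hc, ← hk, ← pow_two]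
      exact Nat.pow_le_pow_right (by omega) h2
    have h4 : t < r := by
      have h4 : 2 ^ t ≤ k ^ t := Nat.pow_le_pow_left h1 t
      have h6 : t - 1 < 2 ^ (t - 1) := Nat.lt_two_pow_self
      have h7 : 2 ^ t = 2 * 2 ^ (t - 1) := by rw [← pow_succ', Nat.sub_add_cancel (by omega)]
      omega
    have h6 := nd hr (show k < e by nlinarith)
    obtain ⟨i, j, hij⟩ := exists_pair_ne ι
    obtain ⟨c, hc'⟩ := keyM h (Nat.coprime_one_left r) (Matrix.single i j (1 : F)) fun g hg ho => by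
      rw [H262.El.eq_one_of_mem_tensorWreathSubgroup (hW.wreath hg) hr.prime (ho ▸ pow_orderOf_eq_one g) h4 h6.1 h6.2,
        one_pow, Units.val_one, one_mul, mul_one]
    have h7 := congrFun (congrFun hc' i) j
    simp [hij] at h7
  · exact .inl h1

/-- **[T62]** -/
theorem boxT62 : BoxT62 := by
  intro ι F _ _ _ _ Q m hP hq hm Y v hY hv _ h
  subst hm
  have hc : Fintype.card ι = 12 := by rw [← finrank_fintype_fun_eq_card F, hP.dim]
  have hq' : Fintype.card F = 2 := by rw [← hq, Nat.card_eq_fintype_card]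
  rcases H932.irr_cases hc (H925.isND_of_nondeg hP.good.nondeg) (H := mx Y)
    (fun g hg => (H883.Bridge.mem_omegaGL_iff hP.good g).2 (hY hg)) (irr h) with
    ⟨t, k, D, -, hD, hH⟩ | ⟨D, hD, hs, hH⟩ | ⟨s, K, hs, hK, hH⟩ | ⟨_, _, _, _, _, h1⟩ | ⟨_, _, _, _, h1⟩ |
    ⟨K, s, _, _, hs, h1⟩ | h1
  · exact .inr (.inl ⟨t, k, D, hD.decomp, hH⟩)
  · refine .inr (.inr ⟨dg D, small (by norm_num) (compl hD) hD.finrank_eq fun i hi => hv (hs i v hi), fun y hy => ?_⟩)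
    obtain ⟨g, hg, rfl⟩ := exists_mx hy
    obtain ⟨σ, hσ⟩ := hH hg
    exact nm_dg hσ
  · refine .inr (.inr ⟨_, small_field (by omega) (by omega) hK (fun h0 => hv (by rw [h0, map_zero])), fun y hy => ?_⟩)
    obtain ⟨g, hg, rfl⟩ := exists_mx hy
    rintro _ ⟨x, hx, rfl⟩
    refine ⟨_, ⟨_, (hH hg x).1 hx, rfl⟩, fun u => ?_⟩
    change ((g : Matrix ι ι F) * x * ((g⁻¹ : GL ι F) : Matrix ι ι F)) *ᵥ ((g : Matrix ι ι F) *ᵥ u) = (g : Matrix ι ι F) *ᵥ (x *ᵥ u)
    rw [Matrix.mulVec_mulVec, Matrix.mulVec_mulVec, Units.inv_mul_cancel_right]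
  · omega
  · have : CharP F 2 := charP_of_card_eq_prime_pow (p := 2) (f := 1) hq'
    exact (h1 CharTwo.two_eq_zero).elim
  · have h2 : 2 ^ 2 ≤ Nat.card K ^ s :=
      (Nat.pow_le_pow_left Finite.one_lt_card 2).trans (Nat.pow_le_pow_right Nat.card_pos hs.two_le)
    omega
  · exact .inl h1

end Cfsg.Agent.SM.Op
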