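import Cfsg.Agent.H250.EqD.DdN
import Cfsg.Agent.SM.Op.Defs
import Cfsg.Agent.SM.Ar.Num
import Cfsg.Agent.H902.SameD
import Cfsg.Agent.H902.Cross

/-!
# SM (S3570), socle `PΩ⁺_{2m}(q)`, `m ≥ 5`: the rows of the table exclude each other (helper97)
-/

set_option autoImplicit false

namespace Cfsg.Agent.SM.Op

open Cfsg.Agent.H902

theorem excl_cmp {X Y : Art.Sh} {p q f g t : ℕ} (hX : Art.Real X p f t) (hY : Art.Real Y q g t) (h : 5000000000 ≤ t) :
    X = Y ∧ p = q ∧ f = g := by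
  by_cases e : p = q
  · subst e
    rcases Art.same_char hX hY with k | k
    · exact ⟨k.1, rfl, k.2⟩
    · omega
  · have := Art.cross_char hX hY e
    omega

theorem excl_low {m t : ℕ} (hm : 5 ≤ m) (r : Art.Real (.L m) 3 1 t) : 5000000000 ≤ t := by
  refine Ar.l_low hm (d := Nat.gcd m 2) (Nat.le_of_dvd two_pos (Nat.gcd_dvd_right m 2)) ?_
  have := r.eq
  simpa only [Art.dd, Art.NN, Art.num, pow_one] using this

theorem excl_t0 {t : ℕ} (r : Art.Real (.C 11) 2 1 t) : t = Ar.t0 := by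
  have := r.eq
  simp only [Art.dd, Art.NN, Art.num, pow_one] at this
  rw [Ar.c11] at this
  simpa using this

theorem excl_EJ {t n : ℕ} : RowE t n → RowJ t n → False := fun ⟨_, _, _, _, r, _⟩ ⟨_, hm, r', _⟩ => by
  have := (excl_cmp r r' (excl_low hm r')).1
  cases this

theorem excl_JC {t n : ℕ} : RowJ t n → RowC t n → False := fun ⟨_, hm, r, _⟩ ⟨r', _⟩ => by
  have := (excl_cmp r r' (excl_low hm r)).1
  cases this

theorem excl_EC {t n : ℕ} : RowE t n → RowC t n → False := fun ⟨p, f, m, _, r, e⟩ ⟨r', e'⟩ => by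
  have h1 := excl_t0 r'
  obtain ⟨h2, rfl, rfl⟩ := excl_cmp r r' (by rw [h1]; unfold Ar.t0; norm_num)
  rw [Art.Sh.C.inj h2] at e
  rw [h1, e] at e'
  revert e'
  unfold Ar.t0
  decide +kernel

end Cfsg.Agent.SM.Op
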