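import Cfsg.Agent.SM.Op.Defs
import Cfsg.Agent.H353.IFO.Idx
import Cfsg.Agent.H955.QClass
import Cfsg.Agent.TitsThree.SpIdent
import Cfsg.Agent.ClassicalGeometry.OrthSemiForms
import Cfsg.Agent.ClassicalGeometry.SympAutOddA
import Cfsg.Agent.ClassicalGeometry.SympAutExists
import Cfsg.Agent.S0245
import Cfsg.Agent.S0270

/-!
# SM (S3570), box AVE: the stabiliser of a non-singular vector in `Ω⁺_{2m}(q)`, `q` even, is `Sp_{2m-2}(q)` (helper84)

`boxAvE : BoxAvE`.
-/

set_option autoImplicit false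
set_option linter.unusedSectionVars false

namespace Cfsg.Agent.SM.Op

open Module QuadraticMap Cfsg
open Cfsg.Agent.LieClassical.OrthCore Cfsg.Agent.LieClassical.OrthTrans Cfsg.Agent.ClassicalGeometry.OrthSemi
open Cfsg.Agent.LieClassical.OrthForms (plusForm polar_plusForm coe_plusForm)
open Cfsg.Agent.ClassicalGeometry Cfsg.Agent.ClassicalGeometry.SympBasic
open Cfsg.Agent.TitsThree.SpIdent (isos form toSp toPSp)
open Cfsg.Agent.H449.Reg (img lg mem_img)
open Cfsg.Agent.H826.Rg (Sg Sg_le_E Sg_le_St mem_Sg_of_fix)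

namespace AvE

variable {F V : Type} [Field F] [AddCommGroup V] [Module F V] {Q : QuadraticForm F V} {v : V} {k : ℕ}
  {j : (Fin k ⊕ Fin k → F) →ₗ[F] V} {π : V →ₗ[F] (Fin k ⊕ Fin k → F)}

local notation "ω" => sympForm _ _

/-- symplectic coordinates on `v ^ ⊥ / v` -/
structure Dat (Q : QuadraticForm F V) (v : V) (j : (Fin k ⊕ Fin k → F) →ₗ[F] V) (π : V →ₗ[F] (Fin k ⊕ Fin k → F)) : Prop where
  ne : Q v ≠ 0
  vv : polar Q v v = 0
  pj : ∀ x, π (j x) = x
  pv : π v = 0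
  jv : ∀ x, polar Q (j x) v = 0
  jj : ∀ x y, polar Q (j x) (j y) = ω x y
  dec : ∀ w, polar Q w v = 0 → ∃ a : F, w = j (π w) + a • v

theorem exists_e [FiniteDimensional F V] {m : ℕ} (h : Pl Q m) :
    ∃ e : V ≃ₗ[F] (Fin m ⊕ Fin m → F), ∀ w, plusForm m F (e w) = Q w :=
  (H955.exists_plus_equiv m Q h.good.nondeg h.dim h.plus).imp fun e he w => by
    rw [← he, coe_plusForm, LieClassical.QuadForms.coe_plusForm]

theorem exists_dat [FiniteDimensional F V] [CharP F 2] (h : Pl Q (k + 1)) (hv : Q v ≠ 0) :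
    ∃ (j : (Fin k ⊕ Fin k → F) →ₗ[F] V) (π : V →ₗ[F] (Fin k ⊕ Fin k → F)), Dat Q v j π := by
  obtain ⟨e, he⟩ := exists_e h
  let v0 : Fin (k + 1) ⊕ Fin (k + 1) → F := Sum.elim (Fin.cons 1 0) (Fin.cons (Q v) 0)
  have h0 : Q (e.symm v0) = Q v := by
    rw [← he, e.apply_symm_apply, coe_plusForm]
    simp [v0, quadFormPlus, Fin.sum_univ_succ]
  obtain ⟨g, hg, hgv⟩ := h.good.trans_norm (v := v) (v' := e.symm v0) (fun h1 => hv (by rw [h1, map_zero]))
    (fun h1 => hv (by rw [← h0, h1, map_zero])) h0.symm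
  have h1 : (g.trans e) v = v0 := by rw [LinearEquiv.trans_apply, hgv, e.apply_symm_apply]
  have h2 : ∀ u w, polar Q u w = polar (plusForm (k + 1) F) ((g.trans e) u) ((g.trans e) w) := fun u w => by
    simp only [polar, ← map_add, LinearEquiv.trans_apply, he, mem_O.1 (E_le_O hg)]
  generalize g.trans e = e at h1 h2
  let j0 : (Fin k ⊕ Fin k → F) →ₗ[F] (Fin (k + 1) ⊕ Fin (k + 1) → F) :=
    { toFun := fun x => Sum.elim (Fin.cons 0 fun i => x (.inl i)) (Fin.cons 0 fun i => x (.inr i))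
      map_add' := fun x y => by
        funext i
        rcases i with i | i <;> refine Fin.cases ?_ (fun i => ?_) i <;> simp
      map_smul' := fun c x => by
        funext i
        rcases i with i | i <;> refine Fin.cases ?_ (fun i => ?_) i <;> simp }
  refine ⟨e.symm.toLinearMap ∘ₗ j0, LinearMap.funLeft F F (Sum.map Fin.succ Fin.succ) ∘ₗ e.toLinearMap, hv, ?_, fun x => ?_, ?_,
    fun x => ?_, fun x y => ?_, fun w hw => ⟨e w (.inl 0), e.injective ?_⟩⟩
  · rw [polar_self', CharTwo.two_eq_zero, zero_mul]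
  · funext i
    rcases i with i | i <;> simp [j0]
  · funext i
    rcases i with i | i <;> simp [h1, v0]
  · simp [h2, h1, polar_plusForm, j0, v0, Fin.sum_univ_succ]
  · rw [h2, polar_plusForm, sympForm_eq_sum, Fin.sum_univ_succ]
    simp only [j0, LinearMap.comp_apply, LinearEquiv.coe_coe, e.apply_symm_apply, LinearMap.coe_mk, AddHom.coe_mk, Sum.elim_inl,
      Sum.elim_inr, Fin.cons_zero, Fin.cons_succ, mul_zero, add_zero, zero_add, CharTwo.sub_eq_add]
    exact Finset.sum_congr rfl fun i _ => by ring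
  · have h3 : e w (.inr 0) = e w (.inl 0) * Q v := by
      rw [h2, h1, polar_plusForm, Fin.sum_univ_succ] at hw
      exact (CharTwo.add_eq_zero.1 (by simpa [v0] using hw)).symm
    funext i
    rcases i with i | i <;> refine Fin.cases ?_ (fun i => ?_) i <;> simp [j0, h1, v0, h3]

theorem ne_of {M : Gam Q} {a : F} (hv : Q v ≠ 0) (ha : M.1 v = a • v) : a ≠ 0 := by
  rintro rfl
  obtain ⟨σ, c, hM⟩ := M.2
  rw [zero_smul, ← hM.map_zero] at ha
  exact hv (by rw [M.1.injective ha, map_zero])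

theorem perp_of {M : Gam Q} {a : F} (hv : Q v ≠ 0) (ha : M.1 v = a • v) {w : V} (hw : polar Q w v = 0) : polar Q (M.1 w) v = 0 := by
  obtain ⟨σ, c, hM⟩ := M.2
  have h1 := hM.polar w v
  rw [hw, map_zero, mul_zero, ha, polar_smul_right] at h1
  exact (smul_eq_zero.1 h1).resolve_left (ne_of hv ha)

theorem inv_of {M : Gam Q} {a : F} (hv : Q v ≠ 0) (ha : M.1 v = a • v) : ∃ b : F, (M⁻¹).1 v = b • v := by
  obtain ⟨σ, c, hM⟩ := M.2
  refine ⟨σ.symm a⁻¹, M.1.injective ?_⟩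
  rw [hM.smul, ha, σ.apply_symm_apply, inv_smul_smul₀ (ne_of hv ha)]
  exact apply_inv _ _

theorem img_of {M : Gam Q} {a : F} (hv : Q v ≠ 0) (ha : M.1 v = a • v) : img M (F ∙ v) = F ∙ v := by
  obtain ⟨σ, c, hM⟩ := M.2
  ext w
  simp only [mem_img, Submodule.mem_span_singleton]
  constructor
  · rintro ⟨_, ⟨b, rfl⟩, rfl⟩
    exact ⟨σ b * a, by rw [hM.smul, ha, smul_smul]⟩
  · rintro ⟨b, rfl⟩
    exact ⟨_, ⟨σ.symm (b / a), rfl⟩, by rw [hM.smul, ha, σ.apply_symm_apply, smul_smul, div_mul_cancel₀ _ (ne_of hv ha)]⟩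

/-- a linear map which keeps the form -/
noncomputable def ofLin (f : (Fin k ⊕ Fin k → F) →ₗ[F] (Fin k ⊕ Fin k → F)) (hf : ∀ x y, ω (f x) (f y) = ω x y) : isos (form k F) :=
  ⟨LinearEquiv.ofInjectiveEndo f ((injective_iff_map_eq_zero f).2 fun x hx =>
    eq_zero_of_forall_sympForm_left fun w => by rw [← hf, hx, sympForm_zero_right]), hf⟩

/-- the element of `Gam` -/
def gm (t : Sg Q v) : Gam Q := lg ⟨t.1, Sg_le_E v t.2⟩

theorem gm_v (t : Sg Q v) : (gm t).1 v = (1 : F) • v := (Sg_le_St v t.2).2.trans (one_smul F v).symm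

namespace Dat

variable (D : Dat Q v j π)
include D

theorem red {M : Gam Q} {a : F} (ha : M.1 v = a • v) {w : V} (hw : polar Q w v = 0) : π (M.1 (j (π w))) = π (M.1 w) := by
  obtain ⟨σ, c, hM⟩ := M.2
  obtain ⟨b, hb⟩ := D.dec w hw
  conv_rhs => rw [hb, hM.add, hM.smul, ha, map_add, map_smul, map_smul, D.pv, smul_zero, smul_zero, add_zero]

theorem key {u w : V} (hu : polar Q u v = 0) (hw : polar Q w v = 0) : ω (π u) (π w) = polar Q u w := by
  obtain ⟨a, ha⟩ := D.dec u hu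
  obtain ⟨b, hb⟩ := D.dec w hw
  conv_rhs => rw [hb, polar_add_right, polar_smul_right, hu, smul_zero, add_zero, ha, polar_add_left, polar_smul_left,
    polar_comm Q v, D.jv, smul_zero, add_zero, D.jj]

theorem norm (x : Fin k ⊕ Fin k → F) (a : F) : Q (j x + a • v) = Q (j x) + a * a * Q v := by
  rw [Q_add, polar_smul_right, D.jv, smul_zero, add_zero, QuadraticMap.map_smul, smul_eq_mul]

/-- the action on `v ^ ⊥ / v` -/
noncomputable def r : Sg Q v →* isos (form k F) :=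
  MonoidHom.mk' (fun t => ofLin (π ∘ₗ t.1.toLinearMap ∘ₗ j) fun x y =>
    (D.key (perp_of D.ne (gm_v t) (D.jv x)) (perp_of D.ne (gm_v t) (D.jv y))).trans
      ((polar_map (E_le_O (Sg_le_E v t.2)) _ _).trans (D.jj x y)))
    fun s t => Subtype.ext (LinearEquiv.ext fun x => (D.red (gm_v s) (perp_of D.ne (gm_v t) (D.jv x))).symm)

theorem r_ap (t : Sg Q v) (x : Fin k ⊕ Fin k → F) : (D.r t).1 x = π (t.1 (j x)) := rfl

variable [Fintype F] [CharP F 2] (hG : Good Q)
include hG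

theorem r_inj : Function.Injective D.r := by
  refine (injective_iff_map_eq_one _).2 fun t ht => Subtype.ext ?_
  have hO := E_le_O (Sg_le_E v t.2)
  have h1 : ∀ w, polar Q w v = 0 → t.1 w = w := fun w hw => by
    have h2 : π (t.1 w) = π w := (D.red (gm_v t) hw).symm.trans (by rw [← show _ = π ((gm t).1 _) from D.r_ap t _, ht]; rfl)
    obtain ⟨a, ha⟩ := D.dec _ (perp_of D.ne (gm_v t) hw)
    obtain ⟨b, hb⟩ := D.dec w hw
    change t.1 w = j (π (t.1 w)) + _ at ha
    rw [h2] at ha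
    have h3 := mem_O.1 hO w
    conv at h3 => rw [ha, D.norm]; rhs; rw [hb, D.norm]
    rcases mul_self_eq_mul_self_iff.1 (mul_right_cancel₀ D.ne (add_left_cancel h3)) with h4 | h4
    · rw [ha, h4, ← hb]
    · rw [ha, h4, CharTwo.neg_eq, ← hb]
  obtain ⟨u, hu⟩ := hG.nondeg.exists_polar_eq (fun h0 => D.ne (by rw [h0, map_zero]) : v ≠ 0) 1
  have h2 : ∀ g : V ≃ₗ[F] V, (∀ w, polar Q w v = 0 → g w = w) → t.1 u = g u → t.1 = g := fun g h2 h3 => by
    ext w
    have h4 : polar Q (w - polar Q v w • u) v = 0 := by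
      rw [polar_comm, polar_sub_right, polar_smul_right, hu, smul_eq_mul, mul_one, sub_self]
    rw [← sub_add_cancel w (polar Q v w • u), map_add, map_add, h1 _ h4, h2 _ h4, map_smul, map_smul, h3]
  have h3 : ∀ w, polar Q w v = 0 → polar Q (t.1 u - u) w = 0 := fun w hw => by
    rw [polar_sub_left]
    nth_rewrite 1 [← h1 w hw]
    rw [polar_map hO, sub_self]
  obtain ⟨a, ha⟩ := D.dec _ (h3 v D.vv)
  rw [eq_zero_of_forall_sympForm_right (v := π (t.1 u - u)) fun y => by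
    rw [← D.pj y, D.key (h3 v D.vv) (D.jv y), h3 _ (D.jv y)], map_zero, zero_add, sub_eq_iff_eq_add'] at ha
  have h4 := mem_O.1 hO u
  rw [ha, Q_add, polar_smul_right, polar_comm, hu, QuadraticMap.map_smul, smul_eq_mul, smul_eq_mul] at h4
  rcases mul_eq_zero.1 (show a * (a * Q v + 1) = 0 by linear_combination h4) with h5 | h5
  · exact h2 1 (fun _ _ => rfl) (by rw [ha, h5, zero_smul, add_zero]; rfl)
  · refine absurd ?_ (H353.IFO.refl_notMem CharTwo.two_eq_zero hG D.ne)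
    rw [← h2 (refl Q v D.ne) (fun w hw => by rw [refl_apply, polar_comm, hw, mul_zero, zero_smul, sub_zero]) ?_]
    · exact Sg_le_E v t.2
    · rw [ha, refl_apply, hu, sub_eq_add_neg, ← neg_smul, mul_one,
        show a = -(Q v)⁻¹ from mul_right_cancel₀ D.ne (by rw [neg_mul, inv_mul_cancel₀ D.ne]; linear_combination h5)]

variable [FiniteDimensional F V] (hd : 7 ≤ finrank F V)
include hd

theorem r_surj : Function.Surjective D.r := by
  refine MonoidHom.range_eq_top.1 (TitsThree.SpIdent.isos_eq_of_sie _ fun u c => ?_)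
  have h0 : ∀ x, (form k F).sie u 0 c (sympForm_self u) (sympForm_zero_right u) x = x + (c * ω x u) • u := fun x => by
    change x + ω x u • (0 : Fin k ⊕ Fin k → F) - ((-1 : F)⁻¹ * ω x 0) • u + (c * ω x u) • u = _
    rw [sympForm_zero_right, smul_zero, mul_zero, zero_smul, add_zero, sub_zero]
  by_cases hc : c = 0
  · refine ⟨1, (map_one _).trans (Subtype.ext (LinearEquiv.ext fun x => ?_))⟩
    refine Eq.trans ?_ (h0 x).symm
    rw [hc, zero_mul, zero_smul, add_zero]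
    rfl
  obtain ⟨a, ha⟩ := isSquare_of_charTwo' ((c⁻¹ - Q (j u)) / Q v)
  obtain ⟨b, hb⟩ := isSquare_of_charTwo' (c⁻¹ / Q v)
  have h1 : Q (j u + a • v) = c⁻¹ := by rw [D.norm, ← ha, div_mul_cancel₀ _ D.ne, add_sub_cancel]
  have h2 : Q (b • v) = c⁻¹ := by rw [QuadraticMap.map_smul, ← hb, smul_eq_mul, div_mul_cancel₀ _ D.ne]
  have h3 : Q (j u + a • v) ≠ 0 := h1 ▸ inv_ne_zero hc
  have h4 : Q (b • v) ≠ 0 := h2 ▸ inv_ne_zero hc
  have h5 : ∀ w, polar Q w v = 0 → refl Q (b • v) h4 w = w := fun w hw => by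
    rw [refl_apply, polar_smul_left, polar_comm, hw, smul_zero, mul_zero, zero_smul, sub_zero]
  refine ⟨⟨_, mem_Sg_of_fix hG.nondeg hd D.ne (hG.refl_mul_refl_mem h4 h3 (h2.trans h1.symm)) ?_⟩,
    Subtype.ext (LinearEquiv.ext fun x => Eq.trans ?_ (h0 x).symm)⟩
  · change refl Q _ h3 (refl Q _ h4 v) = v
    rw [h5 v D.vv, refl_apply, polar_add_left, polar_smul_left, D.jv, D.vv, smul_zero, add_zero, mul_zero, zero_smul, sub_zero]
  · change π (refl Q _ h3 (refl Q _ h4 (j x))) = _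
    rw [h5 _ (D.jv x), refl_apply, h1, inv_inv, polar_add_left, polar_smul_left, polar_comm Q v, D.jv, smul_zero, add_zero, D.jj,
      map_sub, map_smul, map_add, map_smul, D.pv, smul_zero, add_zero, D.pj, D.pj, sympForm_swap, mul_neg, neg_smul, sub_neg_eq_add]

end Dat

variable [Fintype F] [CharP F 2]

theorem toPSp_bij : Function.Bijective (toPSp (m := k) (F := F)) := by
  refine ⟨(injective_iff_map_eq_one _).2 fun g hg => ?_, TitsThree.SpIdent.toPSp_surjective⟩
  obtain ⟨a, ha, h⟩ := TitsThree.SpIdent.exists_smul_of_toPSp_eq_one hg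
  have h1 : a = 1 := (sq_eq_one_iff.1 ha).elim id fun h2 => by rw [h2, CharTwo.neg_eq]
  exact Subtype.ext (LinearEquiv.ext fun v => by rw [h, h1, one_smul]; rfl)

open SympAutSemi TitsThree.SpIdent in
/-- the automorphisms of `Sp_{2k}(q)`, `q` even, `k ≥ 3` -/
theorem exists_semi (hk : 3 ≤ k) (φ : MulAut (isos (form k F))) : ∃ (γ : Equiv.Perm (Fin k ⊕ Fin k → F)) (τ : F ≃+* F) (l : F),
    l ≠ 0 ∧ IsSemi γ τ l ∧ ∀ (h : isos (form k F)) w, (φ h).1 (γ w) = γ (h.1 w) := by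
  let e := MulEquiv.ofBijective _ (toPSp_bij (k := k) (F := F))
  let α : MulAut (PSp k F) := (e.symm.trans φ).trans e
  obtain ⟨γ, hγ⟩ := SympAutExists.exists_semi (by omega) α (SympAutOddA.recog (by omega) (Or.inl hk) α)
  obtain ⟨τ, l, hl, hs⟩ := γ.2
  refine ⟨γ.1, τ, l, hl, hs, fun h w => ?_⟩
  obtain ⟨g, hk⟩ := toSp_surjective (SympAutSemi.conjHom k F γ (toSp h))
  have h2 : toPSp g = toPSp (φ h) := by
    have h3 : α (e h) = e (φ h) := by simp [α]
    rw [← hγ] at h3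
    exact (congrArg _ hk).trans h3
  have h3 := DFunLike.congr_fun (rho_conjHom γ (toSp h)) (γ.1 w)
  rwa [← hk, toPSp_bij.1 h2, rho_apply, toSp_mulVec, Equiv.Perm.mul_apply, Equiv.Perm.mul_apply, perm_inv_apply_self,
    rho_apply, toSp_mulVec] at h3

theorem exists_ss [FiniteDimensional F V] {m : ℕ} (h : Pl Q m) (hv : Q v ≠ 0) (τ : F ≃+* F) {l : F} (hl : l ≠ 0) :
    ∃ (δ : Gam Q) (a : F), IsSS Q τ l δ.1 ∧ δ.1 v = a • v := by
  obtain ⟨e, he⟩ := exists_e h
  obtain ⟨M, hM⟩ := OrthSemiForms.plus_exists m τ l hl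
  obtain ⟨a, ha⟩ := isSquare_of_charTwo' (l * τ (Q v) / Q v)
  have h1 : ∀ w, Q (e.symm (M (e w))) = l * τ (Q w) := fun w => by rw [← he, e.apply_symm_apply, hM.form, he]
  have h2 : Q (a • v) = l * τ (Q v) := by rw [QuadraticMap.map_smul, ← ha, smul_eq_mul, div_mul_cancel₀ _ hv]
  have h3 : ∀ w, Q w = l * τ (Q v) → w ≠ 0 := by
    rintro _ h3 rfl
    exact mul_ne_zero hl ((map_ne_zero τ).2 hv) (h3.symm.trans (map_zero Q))
  obtain ⟨g, hg, h4⟩ := h.good.trans_norm (h3 _ (h1 v)) (h3 _ h2) ((h1 v).trans h2.symm)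
  have h5 : IsSS Q τ l (((e.toEquiv.trans M).trans e.symm.toEquiv).trans g.toEquiv) :=
    ⟨hl, fun u w => by simp [hM.add], fun c w => by simp [hM.smul], fun w => (mem_O.1 (E_le_O hg) _).trans (h1 w)⟩
  exact ⟨⟨_, _, _, h5⟩, a, h5, h4⟩

end AvE

open AvE in
/-- **[AVE]** -/
theorem boxAvE : BoxAvE := by
  intro F V _ _ _ _ _ Q m h h2 v hv
  have : CharP F 2 := CharTwo.of_one_ne_zero_of_two_eq_zero one_ne_zero h2
  have h5 := h.five
  obtain ⟨k, rfl⟩ : ∃ k, m = k + 1 := ⟨m - 1, by omega⟩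
  have hd : 7 ≤ finrank F V := by rw [h.dim]; omega
  obtain ⟨j, π, D⟩ := exists_dat h hv
  let e := MulEquiv.ofBijective D.r ⟨D.r_inj h.good, D.r_surj h.good hd⟩
  refine ⟨?_, fun p f hp hq => ⟨hp, ?_, ⟨by omega, by omega⟩, ?_⟩, fun α => ?_⟩
  · have := S0270.result (F := F) k (by omega) (by omega)
    exact (e.trans (MulEquiv.ofBijective _ toPSp_bij)).isSimpleGroup
  · refine Nat.pos_of_ne_zero fun h0 => ?_
    have := Finite.one_lt_card (α := F)
    rw [hq, h0] at this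
    exact lt_irrefl _ this
  · rw [Nat.card_eq_fintype_card] at hq
    have h3 : Even (p ^ f) := hq ▸ Nat.even_iff.2 (FiniteField.even_card_iff_char_two.1 (ringChar.eq F 2))
    have h4 : Nat.gcd 2 (p ^ f - 1) = 1 := Nat.coprime_two_left.2 (Nat.Even.sub_odd (Nat.pow_pos hp.pos) h3 odd_one)
    change Nat.gcd 2 (p ^ f - 1) * _ = _
    rw [h4, one_mul, Nat.card_congr (e.trans (MulEquiv.ofBijective _
      ⟨TitsThree.SpIdent.toSp_injective, TitsThree.SpIdent.toSp_surjective⟩)).toEquiv, S0245.result hq]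
    rfl
  · obtain ⟨γ, τ, l, hl, hs, hγ⟩ := exists_semi (by omega) ((e.symm.trans α).trans e)
    obtain ⟨δ, a, hδ, ha⟩ := exists_ss h hv τ hl
    obtain ⟨b, hb⟩ := inv_of hv ha
    obtain ⟨s, hs'⟩ := e.surjective (ofLin
      { toFun := fun x => γ (π ((δ⁻¹).1 (j x)))
        map_add' := fun x y => by rw [map_add, add_of_mem (δ⁻¹).2, map_add, hs.1]
        map_smul' := fun c x => by
          rw [map_smul, show (δ⁻¹).1 (c • j x) = _ from hδ.inv.smul c _, map_smul, hs.2.1, τ.apply_symm_apply]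
          rfl } fun x y => by
      change sympForm k F (γ _) (γ _) = _
      rw [hs.2.2, D.key (perp_of hv hb (D.jv x)) (perp_of hv hb (D.jv y)), ← hδ.polar, ← D.jj]
      exact congrArg₂ _ (apply_inv _ _) (apply_inv _ _))
    have h3 : (gm s * δ).1 v = a • v := by
      change s.1 (δ.1 v) = _
      rw [ha, map_smul, (Sg_le_St v s.2).2]
    have h4 : ∀ x, π ((gm s * δ).1 (j x)) = γ x := fun x => by
      have h6 := perp_of hv ha (D.jv x)
      refine (D.red (gm_v s) h6).symm.trans ((congrArg (fun g => g.1 (π (δ.1 (j x)))) hs').trans ?_)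
      change γ (π ((δ⁻¹).1 (j (π (δ.1 (j x)))))) = _
      rw [D.red hb h6, show (δ⁻¹).1 (δ.1 (j x)) = j x from inv_apply _ _, D.pj]
    generalize gm s * δ = M at h3 h4
    refine ⟨M, img_of hv h3, fun t => ?_⟩
    have h6 : conjLin M t.1 ∈ Sg Q v := mem_Sg_of_fix h.good.nondeg hd hv (conjLin_mem_E M (Sg_le_E v t.2)) (by
      refine smul_right_injective V (ne_of hv h3) ?_
      change a • _ = a • v
      rw [← map_smul, ← h3, conjLin_apply', (Sg_le_St v t.2).2])
    refine congrArg Subtype.val (e.injective (Subtype.ext (LinearEquiv.ext fun x => ?_)) : (⟨_, h6⟩ : Sg Q v) = α t)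
    obtain ⟨x, rfl⟩ := γ.surjective x
    have h7 := hγ (e t) x
    rw [MulEquiv.trans_apply, MulEquiv.trans_apply, e.symm_apply_apply] at h7
    rw [h7, ← h4, ← h4]
    refine (D.red (gm_v ⟨_, h6⟩) (perp_of hv h3 (D.jv x))).trans ?_
    exact (congrArg π (conjLin_apply' M t.1 (j x))).trans (D.red h3 (perp_of hv (gm_v t) (D.jv x))).symm

end Cfsg.Agent.SM.Op
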