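import Cfsg.Agent.SM.Op.Defs
import Cfsg.Agent.SM.CSi.Cnt

/-!
# SM (S3570), socle `PΩ⁺_{2m}(q)`: the length of the orbit of a transitive group (helper6)
-/

set_option autoImplicit false
set_option linter.unusedSectionVars false

namespace Cfsg.Agent.SM.Op.Cn

open Module QuadraticMap Cfsg Cfsg.Geo
open Cfsg.Agent.LieClassical.OrthCore Cfsg.Agent.LieClassical.OrthTrans
open Cfsg.Agent.H955 (IsPlus perp res)
open Cfsg.Agent.SM.CS.Ix
open scoped Pointwise

/-- double counting -/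
theorem dc {α β : Type} {s : Set α} {t : Set β} (hs : s.Finite) (ht : t.Finite) (r : α → β → Prop) {a b : ℕ}
    (h1 : ∀ x ∈ s, {y | y ∈ t ∧ r x y}.ncard = a) (h2 : ∀ y ∈ t, {x | x ∈ s ∧ r x y}.ncard = b) :
    s.ncard * a = t.ncard * b := by
  classical
  rw [Set.ncard_eq_toFinset_card s hs, Set.ncard_eq_toFinset_card t ht]
  refine Finset.card_mul_eq_card_mul r (fun x hx => ?_) fun y hy => ?_
  · rw [← h1 x (hs.mem_toFinset.1 hx), ← Set.ncard_coe_finset]
    exact congrArg Set.ncard (Set.ext fun y => by simp)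
  · rw [← h2 y (ht.mem_toFinset.1 hy), ← Set.ncard_coe_finset]
    exact congrArg Set.ncard (Set.ext fun x => by simp)

/-- the possible lengths `n` of the orbit -/
def Nb (q m n : ℕ) : Prop :=
  (q ^ (m - 1) * (q ^ m - 1) = n * 2 ∨ (q ^ (m - 1) * (q ^ m - 1) = n ∧ q ≠ 3)) ∨
    ∃ k, q ^ (m - 1) * (q ^ m - 1) * k = n * (q + 1) ∧
      (q = 3 → k * 2 = 3 ^ (2 * (m - 1)) + 3 ^ (m - 1) ∨ k * 2 + 3 ^ (m - 1) = 3 ^ (2 * (m - 1)))

theorem Nb.dvd {q m n : ℕ} (h : Nb q m n) : q ^ (m - 1) * (q ^ m - 1) ∣ 2 * (q + 1) * n := by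
  rcases h with (h | ⟨h, -⟩) | ⟨k, h, -⟩
  · exact ⟨q + 1, by rw [h]; ring⟩
  · exact ⟨2 * (q + 1), by rw [h]; ring⟩
  · exact ⟨k * 2, by rw [← mul_assoc, h]; ring⟩

variable {F V : Type} [Field F] [Fintype F] [AddCommGroup V] [Module F V] [FiniteDimensional F V] {Q : QuadraticForm F V}
  {m : ℕ} {P : Submodule F V} {g : V ≃ₗ[F] V} {a b : V}

theorem smul_def (g : V ≃ₗ[F] V) (P : Submodule F V) : g • P = P.map (g : V →ₗ[F] V) := rfl

theorem an_smul (hg : g ∈ O Q) (h : An Q P) : An Q (g • P) :=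
  ⟨(LinearEquiv.finrank_map_eq g P).trans h.1, by
    rintro _ ⟨x, hx, rfl⟩ e
    rw [h.2 x hx ((hg x).symm.trans e), map_zero]⟩

theorem finS : Finite (Submodule F V) := by
  have : Finite V := Module.finite_of_finite F
  exact Finite.of_injective _ SetLike.coe_injective

theorem sphere (h : Pl Q m) {c : F} (hc : c ≠ 0) : {x | Q x = c}.ncard = Nat.card F ^ (m - 1) * (Nat.card F ^ m - 1) := by
  have h5 := h.five
  have h1 := card_norm_plus' h.good.nondeg (k := m - 1) (by rw [h.dim]; congr 1; omega) h.plus hc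
  rwa [show m - 1 + 1 = m by omega] at h1

theorem ncard_res (W : Submodule F V) (c : F) : {x | x ∈ W ∧ Q x = c}.ncard = Nat.card {w : W // res Q W w = c} := by
  rw [← Nat.card_coe_set_eq]
  exact Nat.card_congr (Equiv.subtypeSubtypeEquivSubtypeInter (· ∈ W) fun x => Q x = c).symm

theorem in_plane (h : An Q P) (hn : Nondeg (res Q P)) {c : F} (hc : c ≠ 0) : {x | x ∈ P ∧ Q x = c}.ncard = Nat.card F + 1 := by
  rw [ncard_res, card_norm_minus' hn (k := 0) h.1 ?_ hc, pow_zero, one_mul, zero_add, pow_one]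
  rintro ⟨U, h1, h2⟩
  rw [show U = ⊥ from eq_bot_iff.2 fun u hu => Subtype.ext (h.2 u u.2 (h1 u hu)), finrank_bot, h.1] at h2
  omega

theorem ne_of_Q (ha : Q a ≠ 0) : a ≠ 0 := fun e => ha (by rw [e, map_zero])

/-! ### the field with three elements -/

theorem sq3 (h3 : Nat.card F = 3) {x : F} (hx : x ≠ 0) : x * x = 1 := by
  have h := FiniteField.pow_card_sub_one_eq_one x hx
  rwa [← Nat.card_eq_fintype_card, h3, pow_two] at h

theorem two3 (h3 : Nat.card F = 3) : (2 : F) ≠ 0 := two_ne_zero_of_odd (by rw [← Nat.card_eq_fintype_card, h3]; decide)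

theorem Q_pair (hb : polar Q a b = 0) (e : Q b = Q a) (s t : F) : Q (s • a + t • b) = (s * s + t * t) * Q a := by
  rw [Q_add, QuadraticMap.map_smul, QuadraticMap.map_smul, polar_smul_left, polar_smul_right, hb, e, smul_zero, smul_zero,
    smul_eq_mul, smul_eq_mul, add_zero, add_mul]

theorem zero_of (h3 : Nat.card F = 3) (ha : Q a ≠ 0) (hb : polar Q a b = 0) (e : Q b = Q a) {s t : F}
    (h : Q (s • a + t • b) = 0) : s = 0 ∧ t = 0 := by
  rw [Q_pair hb e, mul_eq_zero, or_iff_left ha] at h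
  by_cases hs : s = 0
  · rw [hs, mul_zero, zero_add] at h
    exact ⟨hs, mul_self_eq_zero.1 h⟩
  · by_cases ht : t = 0
    · rw [ht, mul_zero, add_zero] at h
      exact absurd (mul_self_eq_zero.1 h) hs
    · rw [sq3 h3 hs, sq3 h3 ht, one_add_one_eq_two] at h
      exact absurd h (two3 h3)

theorem an_pair (h3 : Nat.card F = 3) (ha : Q a ≠ 0) (hb : polar Q a b = 0) (e : Q b = Q a) :
    An Q (Submodule.span F {a, b}) := by
  refine ⟨?_, fun x hx h => ?_⟩
  · have h1 := finrank_span_eq_card (LinearIndependent.pair_iff.2 fun s t h => zero_of h3 ha hb e (by rw [h, map_zero]))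
    rwa [Matrix.range_cons_cons_empty] at h1
  · obtain ⟨s, t, rfl⟩ := Submodule.mem_span_pair.1 hx
    obtain ⟨rfl, rfl⟩ := zero_of h3 ha hb e h
    rw [zero_smul, zero_smul, add_zero]

theorem eq_pair (h3 : Nat.card F = 3) (ha : Q a ≠ 0) (hb : polar Q a b = 0) (e : Q b = Q a) (h : An Q P) (h1 : a ∈ P)
    (h2 : b ∈ P) : Submodule.span F {a, b} = P :=
  Submodule.eq_of_le_of_finrank_eq (Submodule.span_le.2 (Set.pair_subset h1 h2)) ((an_pair h3 ha hb e).1.trans h.1.symm)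

theorem exists_pair (h3 : Nat.card F = 3) (ha : Q a ≠ 0) (h : An Q P) (h1 : a ∈ P) :
    ∃ b ∈ P, polar Q a b = 0 ∧ Q b = Q a := by
  have h2 : polar Q a a ≠ 0 := by
    rw [polar_self']
    exact mul_ne_zero (two3 h3) ha
  obtain ⟨y, hy, h4⟩ : ∃ y ∈ P, y ∉ F ∙ a := SetLike.not_le_iff_exists.1 fun k => by
    have := Submodule.finrank_mono k
    rw [finrank_span_singleton (ne_of_Q ha), h.1] at this
    omega
  have h5 : polar Q a (y - (polar Q a y / polar Q a a) • a) = 0 := by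
    rw [polar_sub_right, polar_smul_right, smul_eq_mul, div_mul_cancel₀ _ h2, sub_self]
  have h6 := P.sub_mem hy (P.smul_mem (polar Q a y / polar Q a a) h1)
  have h7 : y - (polar Q a y / polar Q a a) • a ≠ 0 := fun k =>
    h4 (sub_eq_zero.1 k ▸ Submodule.smul_mem _ _ (Submodule.mem_span_singleton_self a))
  generalize y - (polar Q a y / polar Q a a) • a = b at h5 h6 h7
  refine ⟨b, h6, h5, (mul_self_eq_mul_self_iff.1 ((sq3 h3 fun k => h7 (h.2 b h6 k)).trans (sq3 h3 ha).symm)).resolve_right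
    fun k => h2 ?_⟩
  have h8 := h.2 _ (P.add_mem h1 h6) (by rw [Q_add, h5, k, add_neg_cancel, add_zero])
  have h9 := polar_add_right Q a a b
  rw [h8, polar_zero_right, h5, add_zero] at h9
  exact h9.symm

theorem mem_perp_pt : b ∈ perp Q (F ∙ a) ↔ polar Q a b = 0 :=
  ⟨fun h => h a (Submodule.mem_span_singleton_self a), fun h w hw => by
    obtain ⟨c, rfl⟩ := Submodule.mem_span_singleton.1 hw
    rw [polar_smul_left, h, smul_zero]⟩

/-- the planes through a point, `q = 3` -/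
theorem through3 (h : Pl Q m) (h3 : Nat.card F = 3) (ha : Q a ≠ 0) (hP : An Q P) (h1 : a ∈ P) :
    {P | An Q P ∧ a ∈ P}.ncard * 2 = 3 ^ (2 * (m - 1)) + 3 ^ (m - 1) ∨
      {P | An Q P ∧ a ∈ P}.ncard * 2 + 3 ^ (m - 1) = 3 ^ (2 * (m - 1)) := by
  have : Finite V := Module.finite_of_finite F
  have := finS (F := F) (V := V)
  have h2 := two3 h3
  have h4 := dc (s := {P | An Q P ∧ a ∈ P}) (t := {x | x ∈ perp Q (F ∙ a) ∧ Q x = Q a}) (Set.toFinite _) (Set.toFinite _)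
    (fun P x => x ∈ P) (a := 2) (b := 1) (fun P hP => by
      obtain ⟨b, k1, k2, k3⟩ := exists_pair h3 ha hP.1 hP.2
      refine Set.ncard_eq_two.2 ⟨b, -b, fun k => ne_of_Q (k3 ▸ ha) ((smul_eq_zero.1 ?_).resolve_left h2), Set.ext fun x => ⟨?_, ?_⟩⟩
      · rw [two_smul, add_eq_zero_iff_eq_neg, ← k]
      · rintro ⟨⟨k4, k5⟩, k6⟩
        obtain ⟨s, t, rfl⟩ := Submodule.mem_span_pair.1 (eq_pair h3 ha k2 k3 hP.1 hP.2 k1 ▸ k6)
        have k7 := mem_perp_pt.1 k4
        rw [polar_add_right, polar_smul_right, polar_smul_right, k2, smul_zero, add_zero, polar_self', smul_eq_mul,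
          mul_eq_zero, or_iff_left (mul_ne_zero h2 ha)] at k7
        rw [Q_pair k2 k3, k7, mul_zero, zero_add, mul_eq_right₀ ha] at k5
        rcases mul_self_eq_one_iff.1 k5 with rfl | rfl <;> simp [k7]
      · rintro (rfl | rfl)
        · exact ⟨⟨mem_perp_pt.2 k2, k3⟩, k1⟩
        · exact ⟨⟨neg_mem (mem_perp_pt.2 k2), (QuadraticMap.map_neg Q b).trans k3⟩, neg_mem k1⟩)
    fun b hb => Set.ncard_eq_one.2 ⟨Submodule.span F {a, b}, Set.ext fun P =>
      ⟨fun k => (eq_pair h3 ha (mem_perp_pt.1 hb.1) hb.2 k.1.1 k.1.2 k.2).symm, by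
        rintro rfl
        exact ⟨⟨an_pair h3 ha (mem_perp_pt.1 hb.1) hb.2, Submodule.subset_span (Set.mem_insert _ _)⟩,
          Submodule.subset_span (Set.mem_insert_of_mem _ rfl)⟩⟩⟩
  obtain ⟨b, -, k2, k3⟩ := exists_pair h3 ha hP h1
  obtain ⟨h5, h6⟩ := perp_props h2 h.good.nondeg ha
  have h7 : finrank F (perp Q (F ∙ a)) = 2 * (m - 1) + 1 := by have := h.dim; have := h.five; omega
  rw [h4, mul_one, ncard_res, ← k3, ← h3]
  by_cases hp : IsPlus (res (res Q (perp Q (F ∙ a))) (perp (res Q (perp Q (F ∙ a))) (F ∙ ⟨b, mem_perp_pt.2 k2⟩)))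
  · exact Or.inl (card_norm_odd_plus h2 h5 h7 (v := ⟨b, mem_perp_pt.2 k2⟩) (k3 ▸ ha :) hp)
  · exact Or.inr (card_norm_odd_minus h2 h5 h7 (v := ⟨b, mem_perp_pt.2 k2⟩) (k3 ▸ ha :) hp)

/-! ### the orbit -/

theorem lines (h : Pl Q m) {c : F} (hc : c ≠ 0) : Nb (Nat.card F) m {W : Submodule F V | ∃ x, Q x = c ∧ W = F ∙ x}.ncard := by
  have : Finite V := Module.finite_of_finite F
  have := finS (F := F) (V := V)
  have h1 := dc (s := {x | Q x = c}) (t := {W : Submodule F V | ∃ x, Q x = c ∧ W = F ∙ x}) (Set.toFinite _) (Set.toFinite _)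
    (fun x W => x ∈ W) (a := 1) (b := ({1, -1} : Set F).ncard) (fun x hx => Set.ncard_eq_one.2 ⟨F ∙ x, Set.ext fun W => ⟨by
      rintro ⟨⟨y, hy, rfl⟩, k⟩
      exact (Submodule.eq_of_le_of_finrank_eq ((Submodule.span_singleton_le_iff_mem _ _).2 k) (by
        rw [finrank_span_singleton (ne_of_Q (hy.trans_ne hc)), finrank_span_singleton (ne_of_Q (Eq.trans_ne hx hc))])).symm, by
      rintro rfl
      exact ⟨⟨x, hx, rfl⟩, Submodule.mem_span_singleton_self x⟩⟩⟩) (by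
      rintro _ ⟨x, hx, rfl⟩
      rw [← Set.ncard_image_of_injective ({1, -1} : Set F) (smul_left_injective F (ne_of_Q (hx.trans_ne hc)))]
      refine congrArg Set.ncard (Set.ext fun y => ⟨fun ⟨k1, k2⟩ => ?_, ?_⟩)
      · obtain ⟨t, rfl⟩ := Submodule.mem_span_singleton.1 k2
        have k3 : Q (t • x) = c := k1
        rw [QuadraticMap.map_smul, hx, smul_eq_mul, mul_eq_right₀ hc] at k3
        exact ⟨t, mul_self_eq_one_iff.1 k3, rfl⟩
      · rintro ⟨t, ht, rfl⟩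
        refine ⟨?_, Submodule.smul_mem _ _ (Submodule.mem_span_singleton_self x)⟩
        show Q (t • x) = c
        rw [QuadraticMap.map_smul, hx, mul_self_eq_one_iff.2 ht, one_smul])
  rw [mul_one, sphere h hc] at h1
  by_cases h2 : (1 : F) = -1
  · rw [← h2, Set.pair_eq_singleton, Set.ncard_singleton, mul_one] at h1
    exact Or.inl (Or.inr ⟨h1, fun k => two3 k (by linear_combination h2)⟩)
  · exact Or.inl (Or.inl (Set.ncard_pair h2 ▸ h1))

theorem planes (hPl : BoxPl) (h : Pl Q m) : (∃ P, An Q P) ∧ Nb (Nat.card F) m {P | An Q P}.ncard := by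
  have : Finite V := Module.finite_of_finite F
  have := finS (F := F) (V := V)
  obtain ⟨-, p2, p3, -, p5, -⟩ := hPl F V Q m h
  obtain ⟨P, hP, -⟩ := p5 ⊥ (by rw [finrank_bot]; omega)
  obtain ⟨a, h1, -, -, -, ha, -⟩ := p2 P hP
  refine ⟨⟨P, hP⟩, Or.inr ⟨_, ?_, fun h3 => through3 h h3 ha hP h1⟩⟩
  rw [← sphere h ha]
  refine dc (Set.toFinite _) (Set.toFinite _) (fun x P => x ∈ P) (fun x hx => ?_) fun P hP => ?_
  · obtain ⟨g, hg, rfl⟩ := h.good.trans_norm (ne_of_Q ha) (ne_of_Q (hx.symm ▸ ha)) hx.symm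
    rw [← Set.ncard_image_of_injective {P | An Q P ∧ a ∈ P} (MulAction.injective g)]
    refine congrArg Set.ncard (Set.ext fun P => ⟨fun k => ⟨g⁻¹ • P, ⟨an_smul (inv_mem (E_le_O hg)) k.1,
      g a, k.2, g.symm_apply_apply a⟩, smul_inv_smul g P⟩, ?_⟩)
    rintro ⟨P, k, rfl⟩
    exact ⟨an_smul (E_le_O hg) k.1, a, k.2, rfl⟩
  · rw [← in_plane hP (p3 P hP) ha]
    exact congrArg Set.ncard (Set.ext fun x => and_comm)

/-- **the orbit** -/
theorem exists_orb (hPl : BoxPl) (h : Pl Q m) {Y : Subgroup (V ≃ₗ[F] V)} (hY : Y ≤ O Q) (ht : Tr Q Y) :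
    ∃ W : Submodule F V, Nb (Nat.card F) m ((MulAction.stabilizer (V ≃ₗ[F] V) W).relIndex Y) := by
  rcases ht with ⟨c, hc, ht⟩ | ht
  · have h5 := h.five
    obtain ⟨v, hv⟩ : {x | Q x = c}.Nonempty := Set.nonempty_of_ncard_ne_zero (by
      have h1 : 1 < Nat.card F ^ m := Nat.one_lt_pow (by omega) Finite.one_lt_card
      rw [sphere h hc]
      exact mul_ne_zero (pow_ne_zero _ Nat.card_pos.ne') (by omega))
    have k : ∀ g : V ≃ₗ[F] V, g • (F ∙ v) = F ∙ g v := fun g => by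
      rw [smul_def, Submodule.map_span, Set.image_singleton]
      rfl
    refine ⟨F ∙ v, ?_⟩
    rw [relIndex_stabilizer]
    refine (congrArg Set.ncard (Set.ext fun W => ⟨?_, ?_⟩)) ▸ lines h hc
    · rintro ⟨x, hx, rfl⟩
      obtain ⟨g, hg, e | e⟩ := ht v x hv hx
      · exact ⟨g, hg, by rw [k, e]⟩
      · exact ⟨g, hg, by rw [k, e, ← Set.neg_singleton, Submodule.span_neg]⟩
    · rintro ⟨g, hg, rfl⟩
      exact ⟨g v, (hY hg v).trans hv, k g⟩
  · obtain ⟨⟨P, hP⟩, h1⟩ := planes hPl h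
    refine ⟨P, ?_⟩
    rw [relIndex_stabilizer]
    refine (congrArg Set.ncard (Set.ext fun W => ⟨fun k => ht P W hP k, ?_⟩)) ▸ h1
    rintro ⟨g, hg, rfl⟩
    exact an_smul (hY hg) hP

end Cfsg.Agent.SM.Op.Cn
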