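import Cfsg.Agent.SM.Op.Fr
import Cfsg.Agent.SM.Op.AvE
import Cfsg.Agent.SM.Op.CnA
import Cfsg.Agent.H900.SU4.Base
import Cfsg.Agent.H915.LD
import Cfsg.Agent.S2069
import Cfsg.Agent.S0399

/-!
# SM / Op: the numbers of the row `Co` (helper40)

`Fr.rowC`.
-/

set_option autoImplicit false
set_option linter.unusedSectionVars false

namespace Cfsg.Agent.SM.Op

open Module QuadraticMap Cfsg Cfsg.Geo Subgroup
open Cfsg.Agent.LieClassical.OrthCore Cfsg.Agent.LieClassical.OrthTrans Cfsg.Agent.ClassicalGeometry.OrthSemi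
open Cfsg.Agent.LieClassical.OrthFinite (glEquiv)
open Cfsg.Agent.H826.Rg (Sg Sg_le_E Sg_le_St mem_Sg_of_fix)
open scoped MatrixGroups Matrix

namespace RC

theorem card_co1 : Nat.card Spor.Co1 = 4157776806543360000 := Cfsg.Agent.S0399.result.2

theorem aut_le : Nat.card (MulAut Spor.Co1) ∣ 4157776806543360000 := by
  have h : (MulAut.conj : Spor.Co1 →* MulAut Spor.Co1).range = ⊤ := Subgroup.index_eq_one.1 S2069.result
  rw [← card_co1]
  exact Subgroup.card_dvd_of_surjective _ (MonoidHom.range_eq_top.1 h)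

theorem zero_one {F : Type} [Field F] [Fintype F] (hq : Nat.card F = 2) (c : F) : c = 0 ∨ c = 1 := by
  by_cases h : c = 0
  · exact Or.inl h
  · have h1 := FiniteField.pow_card_sub_one_eq_one c h
    rw [← Nat.card_eq_fintype_card, hq] at h1
    exact Or.inr (by simpa using h1)

theorem two_zero {F : Type} [Field F] [Fintype F] (hq : Nat.card F = 2) : (2 : F) = 0 := by
  rcases zero_one hq 2 with h | h
  · exact h
  · exact absurd (by linear_combination h : (1 : F) = 0) one_ne_zero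

theorem neg_eq {F V : Type} [Field F] [Fintype F] [AddCommGroup V] [Module F V] (hq : Nat.card F = 2) (x : V) : -x = x := by
  rw [neg_eq_iff_add_eq_zero, ← two_smul F x, two_zero hq, zero_smul]

section lin

variable {F V : Type} [Field F] [Fintype F] [AddCommGroup V] [Module F V] {Q : QuadraticForm F V}

theorem ps_inj (hG : Good Q) (hq : Nat.card F = 2) : Function.Injective (ps Q) := by
  rw [injective_iff_map_eq_one]
  intro g hg
  refine Subtype.ext (LinearEquiv.ext fun x => ?_)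
  rcases (ps_eq_one_iff hG).1 hg with h | h
  · exact h x
  · exact (h x).trans (neg_eq hq x)

/-- for `q = 2` a subgroup of `Ω` is isomorphic to its image -/
noncomputable def eI (hG : Good Q) (hq : Nat.card F = 2) {N : Subgroup (V ≃ₗ[F] V)} (h : N ≤ E Q) : N ≃* i0 Q N :=
  (Subgroup.subgroupOfEquivOfLe h).symm.trans (Subgroup.equivMapOfInjective _ _ (ps_inj hG hq))

end lin

theorem card_core {ι F : Type} [Fintype ι] [DecidableEq ι] [Field F] [Fintype F] (hq : Nat.card F = 2)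
    {K P : Subgroup (GL ι F)} (hP : IsResidualCore K P) (hC : Spor.IsoCo1 (H915.LD.Soc P)) :
    Nat.card K = 4157776806543360000 := by
  obtain ⟨e⟩ := hC
  refine Nat.dvd_antisymm ?_ ?_
  · refine (H900.SU4.card_dvd_of_core hP K.subtype (fun b => b.2) fun b hb => ?_).trans ?_
    · obtain ⟨c, hc⟩ := (mem_scalars_iff _).1 hb
      rw [(zero_one hq (c : F)).resolve_left c.ne_zero, one_smul] at hc
      exact Subtype.ext (Units.ext hc)
    · rw [Nat.card_congr (MulAut.congr e).toEquiv]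
      exact aut_le
  · rw [← card_co1, ← Nat.card_congr e.toEquiv]
    exact (Subgroup.card_quotient_dvd_card _).trans (Subgroup.card_dvd_of_le hP.le)

theorem card_mx {ι F : Type} [Fintype ι] [DecidableEq ι] [Field F] (Y : Subgroup ((ι → F) ≃ₗ[F] (ι → F))) :
    Nat.card (mx Y) = Nat.card Y :=
  Nat.card_congr ((glEquiv ι F).toEquiv.subtypeEquiv fun _ => Iff.rfl)

end RC

/-- **the numbers of the row `Co`** -/
theorem Fr.rowC {ι F : Type} [Fintype ι] [DecidableEq ι] [Field F] [Fintype F] {Q : QuadraticForm F (ι → F)}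
    {M H T B : Subgroup (Au Q)} (f : Fr Q 12 M H T B) (hq : Nat.card F = 2) {v : ι → F} (hv : Q v ≠ 0) (hH : Fx H (F ∙ v))
    {P : Subgroup (GL ι F)} (hP : IsResidualCore (mx (l0 B)) P) (hC : Spor.IsoCo1 (H915.LD.Soc P)) :
    RowC (Nat.card T) (B.relIndex T) := by
  obtain ⟨a1, a2, -⟩ := boxAvE F (ι → F) Q 12 f.toPl (RC.two_zero hq) v hv
  have e1 := RC.eI f.good hq (Sg_le_E (Q := Q) v)
  have hT : T = i0 Q (Sg Q v) := f.T_eq (f.Sg_le_H hv hH) (f.T_le_Sg hv hH) (e1.symm.isSimpleGroup)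
  have hB : Nat.card (l0 B) = 4157776806543360000 := (RC.card_mx _).symm.trans (RC.card_core hq hP hC)
  have h1 : T ⊓ B = i0 Q (Sg Q v ⊓ l0 B) := by
    refine le_antisymm (fun x hx => ?_) (le_inf (hT ▸ i0_mono inf_le_left) (i0_le inf_le_right))
    obtain ⟨g, hg, rfl⟩ := mem_i0.1 (hT.le hx.1)
    exact ps_mem_i0 ⟨hg, mem_l0'.2 hx.2⟩
  have h2 : MulAction.stabilizer (l0 B) v = (Sg Q v ⊓ l0 B).subgroupOf (l0 B) := by
    ext g
    refine ⟨fun h => ⟨mem_Sg_of_fix f.good.nondeg (by rw [f.dim]; norm_num) hv (l0_le_E g.2) h, g.2⟩, fun h => (Sg_le_St v h.1).2⟩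
  have h3 : MulAction.orbit (l0 B) v = {x | Q x = Q v} := by
    ext x
    refine ⟨?_, fun hx => ?_⟩
    · rintro ⟨g, rfl⟩
      exact l0_le_O g.2 v
    · obtain ⟨g, hg, h⟩ := f.pd.symm.trS f.good hv (hH.mono f.TH).iv v x rfl hx
      exact ⟨⟨g, hg⟩, h.elim id fun h => h.trans (RC.neg_eq hq x)⟩
  have h4 := (MulAction.stabilizer (l0 B) v).card_mul_index
  rw [MulAction.index_stabilizer, h3, Cn.sphere f.toPl hv, hq, hB, h2,
    Nat.card_congr (Subgroup.subgroupOfEquivOfLe inf_le_right).toEquiv,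
    Nat.card_congr (RC.eI f.good hq (inf_le_left.trans (Sg_le_E v))).toEquiv, ← h1] at h4
  have := fin_au Q
  have h5 := Fac.card_mul T B
  refine ⟨?_, ?_⟩
  · rw [hT, ← Nat.card_congr e1.toEquiv]
    exact a2 2 1 Nat.prime_two hq
  · rw [← h5, show Nat.card ↥(T ⊓ B) = 495766656000 by omega, mul_comm]

end Cfsg.Agent.SM.Op
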