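import Cfsg.Agent.SM.Op.Two
import Cfsg.Agent.SM.Op.Excl
import Cfsg.Agent.SM.Op.RowC

/-!
# SM / Op: the assembly `bndP5_of` (helper57)
-/

set_option autoImplicit false
set_option linter.unusedSectionVars false

namespace Cfsg.Agent.SM.Op

open Module QuadraticMap Cfsg Cfsg.Geo Subgroup
open Cfsg.Agent.LieClassical.OrthCore Cfsg.Agent.LieClassical.OrthTrans Cfsg.Agent.ClassicalGeometry.OrthSemi
open Cfsg.Agent.LieClassical.OrthForms (plusForm)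
open scoped MatrixGroups

/-- the linear reduction in all cases -/
def BoxLRA : Prop := All fun {_} {_} _ _ _ _ _ Q _ => ∀ X Y, Pd Q X Y → LR Q X Y

theorem boxLRA_of (h : BoxLR) (h10 : BoxLR10) (h12 : BoxLR12) (h14 : BoxLR14) : BoxLRA := fun F V _ _ _ _ _ Q m hp => by
  have h2 := two_le_card F
  have h5 := hp.five
  by_cases k1 : m = 5 ∧ Nat.card F ≤ 4
  · exact h10 F V Q m hp k1.1 k1.2
  by_cases k2 : m = 6 ∧ Nat.card F = 2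
  · exact h12 F V Q m hp k2.1 k2.2
  by_cases k3 : m = 7 ∧ Nat.card F = 2
  · exact h14 F V Q m hp k3.1 k3.2
  exact h F V Q m hp (by omega) (by omega)

/-- **the rows of a frame** -/
theorem Fr.rows {ι F : Type} [Fintype ι] [DecidableEq ι] [Field F] [Fintype F] {Q : QuadraticForm F (ι → F)} {m : ℕ}
    {M H T B : Subgroup (Au Q)} (f : Fr Q m M H T B) (b : Bx) (hL : BoxLRA)
    (hq : Nat.card F = 2 → ∀ v, Q v ≠ 0 → Fx B (F ∙ v) → False) :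
    (∃ v W, RE Q m H B v W) ∨ (∃ v W W', RJ Q m H T B v W W') ∨
      (Nat.card F = 2 ∧ m = 12 ∧ ∃ v P, Q v ≠ 0 ∧ Fx H (F ∙ v) ∧ IsResidualCore (mx (l0 B)) P ∧
        Spor.IsoCo1 (H915.LD.Soc P)) := by
  rcases f.red b.pl b.j b.k (hL F _ Q m f.toPl _ _ f.pd) with ⟨v, hv, h⟩ | ⟨v, hv, h⟩ | ⟨P, hP, h⟩
  · rcases f.one b hv h with ⟨W, k⟩ | ⟨h1, h2, P, h3, h4⟩
    · exact Or.inl ⟨v, W, k⟩
    · exact Or.inr (Or.inr ⟨h1, h2, v, P, hv, h, h3, h4⟩)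
  · have h2 := two_le_card F
    have h3 : Nat.card F ≠ 2 := fun k => hq k v hv h
    exact Or.inr (Or.inl (f.two b (Or.inl ⟨by omega, v, hv, rfl⟩) h))
  · exact Or.inr (Or.inl (f.two b (Or.inr hP) h))

theorem cover (b : Bx) (hL : BoxLRA) (hQ : BoxQ2) {Ω : Type} [Fintype Ω] [DecidableEq Ω] {X H T M : Subgroup (Equiv.Perm Ω)}
    (hM : M ∈ OvP fP5 X H T) :
    M ∈ OE X H T ∨ M ∈ OJ X H T ∨ (CS.CoRow X H T M ∧ RowC (Nat.card T) (Fintype.card Ω)) := by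
  obtain ⟨S, u, F, _, _, m, hm, e⟩ := hM
  by_cases h1 : M ∈ OE X H T
  · exact Or.inl h1
  by_cases h2 : M ∈ OJ X H T
  · exact Or.inr (Or.inl h2)
  have h3 : ∀ a : Ω, (∃ (ι : Type) (_ : Fintype ι) (_ : DecidableEq ι) (K : Type) (_ : Field K) (_ : Fintype K)
      (f : (ι → K) → (ι → K) → K) (Sg : (ι → K) → Prop) (G X' P : Subgroup (GL ι K)) (π : G →* Equiv.Perm Ω),
      CS.Sph 2 12 .p1 f Sg G X' ∧ CS.Cov G π S ∧ CS.pre π H = G ⊓ X' ∧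
        IsResidualCore (CS.pre π (M ⊓ MulAction.stabilizer (Equiv.Perm Ω) a)) P ∧ Spor.IsoCo1 (H915.LD.Soc P)) ∧
      RowC (Nat.card T) (Fintype.card Ω) := fun a => by
    obtain ⟨M', H', T', B', ρ, p⟩ := exists_pf u hm e a
    rcases p.fr.rows b hL (fun hq v hv h => hQ Ω X H T M S a F _ _ m M' H' T' B' ρ v p hq hv h) with
      ⟨v, W, k⟩ | ⟨v, W, W', k⟩ | ⟨hq, rfl, v, P, hv, h, hP, hC⟩
    · exact (h1 ⟨S, a, F, inferInstance, inferInstance, m, M', H', T', B', ρ, v, W, p, k⟩).elim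
    · exact (h2 ⟨S, a, F, inferInstance, inferInstance, m, M', H', T', B', ρ, v, W, W', p, k⟩).elim
    · exact ⟨p.co hq hv h hP hC, p.card_T ▸ p.relIndex ▸ p.fr.rowC hq hv h hP hC⟩
  obtain ⟨a⟩ : Nonempty Ω := Fintype.card_pos_iff.1 (by have := u.two; omega)
  exact Or.inr (Or.inr ⟨⟨S, u, fun a => (h3 a).1⟩, (h3 a).2⟩)

/-- **the family `PΩ⁺_{2m}(q)`, `m ≥ 5`** -/
theorem bndP5_of (b : Bx) (hL : BoxLRA) (hQ : BoxQ2) (hE : BoxRE) (hJ : BoxRJ) (hC : CS.BoxCo 8) : Bnd fP5 tabP5 := by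
  intro Ω _ _ X H T ⟨M₀, h₀⟩
  obtain ⟨e1, e2⟩ := hE Ω X H T
  obtain ⟨j1, j2⟩ := hJ Ω X H T
  rcases cover b hL hQ h₀ with k | k | k
  · refine ⟨1, Or.inl ⟨rfl, Or.inl (e2 ⟨_, k⟩)⟩, Set.ncard_le_one_iff_subsingleton.2 (e1.anti fun M hM => ?_)⟩
    rcases cover b hL hQ hM with k' | k' | k'
    exacts [k', (excl_EJ (e2 ⟨_, k⟩) (j2 ⟨_, k'⟩)).elim, (excl_EC (e2 ⟨_, k⟩) k'.2).elim]
  · refine ⟨1, Or.inl ⟨rfl, Or.inr (j2 ⟨_, k⟩)⟩, Set.ncard_le_one_iff_subsingleton.2 (j1.anti fun M hM => ?_)⟩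
    rcases cover b hL hQ hM with k' | k' | k'
    exacts [(excl_EJ (e2 ⟨_, k'⟩) (j2 ⟨_, k⟩)).elim, k', (excl_JC (j2 ⟨_, k⟩) k'.2).elim]
  · refine ⟨8, Or.inr ⟨rfl, k.2⟩, (Set.ncard_le_ncard (fun M hM => ?_)).trans (hC Ω X H T)⟩
    rcases cover b hL hQ hM with k' | k' | k'
    exacts [(excl_EC (e2 ⟨_, k'⟩) k.2).elim, (excl_JC (j2 ⟨_, k'⟩) k.2).elim, k'.1]

end Cfsg.Agent.SM.Op
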