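import Cfsg.Agent.SM.Op.Defs
import Cfsg.Agent.S2690
import Cfsg.Agent.LieClassical.SLGen
import Cfsg.Agent.H616.ExtPSL

/-!
# SM (S3570), socle `PΩ⁺_{2m}(q)`: the box `BoxAw`, `L_m(3)` in `PΩ⁺_{2m}(3)` (helper10)
-/

set_option autoImplicit false
set_option linter.unusedSectionVars false

namespace Cfsg.Agent.SM.Op

open Module QuadraticMap Cfsg Subgroup Matrix
open Cfsg.Agent.LieClassical.OrthCore Cfsg.Agent.LieClassical.OrthTrans Cfsg.Agent.ClassicalGeometry.OrthSemi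
open Cfsg.Agent.H449.Reg (img lg mem_img)
open Cfsg.Agent.H826.Rg (lgH)
open Cfsg.Agent.H902

namespace Aw

variable {F V : Type} [Field F] [AddCommGroup V] [Module F V] {Q : QuadraticForm F V} {m : ℕ} {W W' : Submodule F V}

/-- coordinates adapted to a pair of complementary totally singular subspaces -/
structure Co (Q : QuadraticForm F V) (W W' : Submodule F V) (e : ((Fin m → F) × (Fin m → F)) ≃ₗ[F] V) : Prop where
  form : ∀ x y, Q (e (x, y)) = x ⬝ᵥ y
  mem : ∀ x y, e (x, y) ∈ W ↔ y = 0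
  mem' : ∀ x y, e (x, y) ∈ W' ↔ x = 0

theorem polar_ts (h : Ts Q W) {u v : V} (hu : u ∈ W) (hv : v ∈ W) : polar Q u v = 0 := by
  have h1 := Q_add (Q := Q) u v
  rwa [h _ (W.add_mem hu hv), h u hu, h v hv, zero_add, zero_add, eq_comm] at h1

theorem exists_co [FiniteDimensional F V] (hP : Pl Q m) (h : Hf Q m W W') : ∃ e, Co (m := m) Q W W' e := by
  have hX : finrank F (Fin m → F) = m := by simp
  let b : (Fin m → F) ≃ₗ[F] W := LinearEquiv.ofFinrankEq _ _ (hX.trans h.dim.symm)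
  let φ : W' →ₗ[F] (Fin m → F) := LinearMap.pi fun i => (polarBilin Q (b (Pi.single i 1) : V)).comp W'.subtype
  have hφ : ∀ (x : Fin m → F) (w : W'), polar Q (b x : V) w = x ⬝ᵥ φ w := by
    intro x w
    let l : (Fin m → F) →ₗ[F] F := ((polarBilin Q).flip (w : V)).comp (W.subtype.comp b.toLinearMap)
    have h1 : l x = ∑ i, x i • l (Pi.single i 1) := by
      conv_lhs => rw [← Finset.univ_sum_single x, map_sum]
      refine Finset.sum_congr rfl fun i _ => ?_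
      rw [← map_smul, ← Pi.single_smul, smul_eq_mul, mul_one]
    exact h1
  have hsup : W ⊔ W' = ⊤ := by
    apply Submodule.eq_top_of_finrank_eq
    have h1 := Submodule.finrank_sup_add_finrank_inf_eq W W'
    rw [h.inf, finrank_bot, h.dim, h.dim'] at h1
    rw [hP.dim]
    omega
  have hinj : Function.Injective φ := by
    rw [injective_iff_map_eq_zero]
    intro w hw
    refine Subtype.ext (hP.good.nondeg _ fun v => ?_)
    obtain ⟨u, hu, u', hu', rfl⟩ := Submodule.mem_sup.1 (hsup ▸ Submodule.mem_top : v ∈ W ⊔ W')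
    obtain ⟨x, hx⟩ := b.surjective ⟨u, hu⟩
    have h1 := hφ x w
    rw [hx, hw, dotProduct_zero] at h1
    rw [polar_add_right, polar_ts h.ts' w.2 hu', polar_comm, add_zero]
    exact h1
  let c : W' ≃ₗ[F] (Fin m → F) := φ.linearEquivOfInjective hinj (h.dim'.trans hX.symm)
  have hc : ∀ y, φ (c.symm y) = y := c.apply_symm_apply
  let f : ((Fin m → F) × (Fin m → F)) →ₗ[F] V :=
    (W.subtype.comp b.toLinearMap).coprod (W'.subtype.comp c.symm.toLinearMap)
  have hf : ∀ x y, f (x, y) = (b x : V) + (c.symm y : V) := fun _ _ => rfl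
  have h0 : ∀ v, v ∈ W → v ∈ W' → v = 0 := fun v h1 h2 => by
    have h3 : v ∈ W ⊓ W' := ⟨h1, h2⟩
    rwa [h.inf] at h3
  have m1 : ∀ x y, f (x, y) ∈ W ↔ y = 0 := fun x y => by
    rw [hf, W.add_mem_iff_right (b x).2]
    refine ⟨fun h1 => c.symm.map_eq_zero_iff.1 (Subtype.ext (h0 _ h1 (c.symm y).2)), ?_⟩
    rintro rfl
    rw [map_zero]
    exact W.zero_mem
  have m2 : ∀ x y, f (x, y) ∈ W' ↔ x = 0 := fun x y => by
    rw [hf, W'.add_mem_iff_left (c.symm y).2]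
    refine ⟨fun h1 => b.map_eq_zero_iff.1 (Subtype.ext (h0 _ (b x).2 h1)), ?_⟩
    rintro rfl
    rw [map_zero]
    exact W'.zero_mem
  have hfi : Function.Injective f := by
    rw [injective_iff_map_eq_zero]
    rintro ⟨x, y⟩ h1
    exact Prod.ext ((m2 x y).1 (h1 ▸ W'.zero_mem)) ((m1 x y).1 (h1 ▸ W.zero_mem))
  refine ⟨f.linearEquivOfInjective hfi (by rw [finrank_prod, hX, hP.dim, two_mul]), fun x y => ?_, m1, m2⟩
  show Q (f (x, y)) = _
  rw [hf, Q_add, h.ts _ (b x).2, h.ts' _ (c.symm y).2, hφ, hc, zero_add, zero_add]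

variable {e : ((Fin m → F) × (Fin m → F)) ≃ₗ[F] V}

theorem Co.polar (h : Co Q W W' e) (x y x' y' : Fin m → F) : polar Q (e (x, y)) (e (x', y')) = x ⬝ᵥ y' + x' ⬝ᵥ y := by
  have h1 := Q_add (Q := Q) (e (x, y)) (e (x', y'))
  rw [← map_add, Prod.mk_add_mk, h.form, h.form, h.form, add_dotProduct, dotProduct_add, dotProduct_add] at h1
  linear_combination -h1

/-- `g ⊕ g⁻ᵀ` in coordinates -/
def pl (g : GL (Fin m) F) : ((Fin m → F) × (Fin m → F)) ≃ₗ[F] ((Fin m → F) × (Fin m → F)) where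
  toFun p := (g.1 *ᵥ p.1, (g⁻¹).1ᵀ *ᵥ p.2)
  invFun p := ((g⁻¹).1 *ᵥ p.1, g.1ᵀ *ᵥ p.2)
  map_add' p r := by simp only [Prod.fst_add, Prod.snd_add, mulVec_add, Prod.mk_add_mk]
  map_smul' a p := by simp only [Prod.smul_fst, Prod.smul_snd, mulVec_smul, Prod.smul_mk, RingHom.id_apply]
  left_inv p := by
    simp only [mulVec_mulVec, ← transpose_mul, Units.inv_mul, transpose_one, one_mulVec]
  right_inv p := by
    simp only [mulVec_mulVec, ← transpose_mul, Units.mul_inv, transpose_one, one_mulVec]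

/-- `GL(W) → GL(V)` -/
def up (e : ((Fin m → F) × (Fin m → F)) ≃ₗ[F] V) : GL (Fin m) F →* (V ≃ₗ[F] V) :=
  MonoidHom.mk' (fun g => e.symm.trans ((pl g).trans e)) fun g k => by
    ext v
    obtain ⟨⟨x, y⟩, rfl⟩ := e.surjective v
    show e (pl (g * k) (e.symm (e (x, y)))) = e (pl g (e.symm (e (pl k (e.symm (e (x, y)))))))
    rw [e.symm_apply_apply, e.symm_apply_apply]
    show e ((g * k).1 *ᵥ x, ((g * k)⁻¹).1ᵀ *ᵥ y) = e (g.1 *ᵥ (k.1 *ᵥ x), (g⁻¹).1ᵀ *ᵥ ((k⁻¹).1ᵀ *ᵥ y))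
    rw [mulVec_mulVec, mulVec_mulVec, ← transpose_mul, _root_.mul_inv_rev, Units.val_mul, Units.val_mul]

theorem up_apply (g : GL (Fin m) F) (x y : Fin m → F) : up e g (e (x, y)) = e (g.1 *ᵥ x, (g⁻¹).1ᵀ *ᵥ y) := by
  show e (pl g (e.symm (e (x, y)))) = _
  rw [e.symm_apply_apply]
  rfl

theorem Co.up_mem (h : Co Q W W' e) (g : GL (Fin m) F) : up e g ∈ O Q := by
  intro v
  obtain ⟨⟨x, y⟩, rfl⟩ := e.surjective v
  rw [up_apply, h.form, h.form, mulVec_transpose, dotProduct_comm, ← dotProduct_mulVec, mulVec_mulVec, Units.inv_mul,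
    one_mulVec, dotProduct_comm]

/-- the exchange of the two halves -/
def sw (e : ((Fin m → F) × (Fin m → F)) ≃ₗ[F] V) : V ≃ₗ[F] V := e.symm.trans ((LinearEquiv.prodComm F _ _).trans e)

theorem sw_apply (x y : Fin m → F) : sw e (e (x, y)) = e (y, x) := by
  show e (LinearEquiv.prodComm F _ _ (e.symm (e (x, y)))) = _
  rw [e.symm_apply_apply]
  rfl

theorem Co.sw_mem (h : Co Q W W' e) : sw e ∈ O Q := by
  intro v
  obtain ⟨⟨x, y⟩, rfl⟩ := e.surjective v
  rw [sw_apply, h.form, h.form, dotProduct_comm]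

/-- `SL(W) → GL(V)` -/
def us (e : ((Fin m → F) × (Fin m → F)) ≃ₗ[F] V) : SpecialLinearGroup (Fin m) F →* (V ≃ₗ[F] V) :=
  (up e).comp SpecialLinearGroup.toGL

theorem us_apply (s : SpecialLinearGroup (Fin m) F) (x y : Fin m → F) :
    us e s (e (x, y)) = e (s.1 *ᵥ x, (s⁻¹).1ᵀ *ᵥ y) := by
  show up e (SpecialLinearGroup.toGL s) _ = _
  rw [up_apply, ← map_inv]
  rfl

theorem sl_mul (a b : SpecialLinearGroup (Fin m) F) : (a * b).1 = a.1 * b.1 := rfl

theorem sl_one : (1 : SpecialLinearGroup (Fin m) F).1 = 1 := rfl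

theorem sq_zero {x y : Fin m → F} (h : x ⬝ᵥ y = 0) : vecMulVec x y * vecMulVec x y = 0 := by
  rw [vecMulVec_mul_vecMulVec, dotProduct_comm, h]
  simp

/-- the transvection `a ↦ a - (a ⬝ y) x` -/
def tv (x y : Fin m → F) (h : x ⬝ᵥ y = 0) : SpecialLinearGroup (Fin m) F :=
  ⟨1 - vecMulVec x y, by
    rw [vecMulVec_eq Unit, det_one_sub_mul_comm, det_unique]
    simp [mul_apply, ← dotProduct.eq_def, dotProduct_comm y x, h]⟩

theorem tv_inv {x y : Fin m → F} (h : x ⬝ᵥ y = 0) : ((tv x y h)⁻¹).1 = 1 + vecMulVec x y := by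
  have h1 : ((tv x y h)⁻¹).1 * (tv x y h).1 = 1 := by
    rw [← sl_mul, inv_mul_cancel, sl_one]
  have h2 : (tv x y h).1 * (1 + vecMulVec x y) = 1 := by
    show (1 - vecMulVec x y) * (1 + vecMulVec x y) = 1
    rw [sub_mul, mul_add, mul_add, sq_zero h]
    simp
  calc ((tv x y h)⁻¹).1 = ((tv x y h)⁻¹).1 * ((tv x y h).1 * (1 + vecMulVec x y)) := by rw [h2, mul_one]
    _ = _ := by rw [← mul_assoc, h1, one_mul]

theorem Co.siegel (h : Co Q W W' e) {x y : Fin m → F} (hxy : x ⬝ᵥ y = 0) (hu : Q (e (x, 0)) = 0)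
    (hw : QuadraticMap.polar Q (e (x, 0)) (e (0, y)) = 0) : siegel Q (e (x, 0)) (e (0, y)) hu hw = us e (tv x y hxy) := by
  ext v
  obtain ⟨⟨a, b⟩, rfl⟩ := e.surjective v
  rw [siegel_apply, us_apply, tv_inv, h.polar, h.polar, h.form, ← map_smul, ← map_smul, ← map_smul, ← map_add, ← map_sub,
    ← map_sub]
  congr 1
  refine Prod.ext ?_ ?_
  · show _ = (1 - vecMulVec x y) *ᵥ a
    simp [sub_mulVec, vecMulVec_mulVec, dotProduct_comm]
  · simp [add_mulVec, vecMulVec_mulVec, dotProduct_comm]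

theorem Co.range (h : Co Q W W' e) (hm : 2 ≤ m) : (us e).range = Sw Q W W' := by
  haveI : Nontrivial (Fin m) := Fin.nontrivial_iff_two_le.2 hm
  apply le_antisymm
  · rintro _ ⟨s, rfl⟩
    refine LieClassical.SLGen.transvection_induction (fun s => us e s ∈ Sw Q W W') (fun i j hij c => ?_)
      (fun a b ha hb => by rw [map_mul]; exact mul_mem ha hb) s
    have h1 : (Pi.single i (1 : F) : Fin m → F) ⬝ᵥ Pi.single j (-c) = 0 := by simp [hij]
    have h2 : SpecialLinearGroup.transvection hij c = tv _ _ h1 := by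
      apply Subtype.ext
      ext a b
      show (1 + single i j c : Matrix (Fin m) (Fin m) F) a b = (1 - vecMulVec (Pi.single i (1 : F)) (Pi.single j (-c))) a b
      rw [Matrix.add_apply, Matrix.sub_apply, vecMulVec_apply, single_apply, Pi.single_apply, Pi.single_apply]
      by_cases h3 : a = i <;> by_cases h4 : b = j
      · simp [h3, h4]
      · simp [h4, Ne.symm h4]
      · simp [h3, Ne.symm h3]
      · simp [h3, Ne.symm h3]
    have hu : Q (e (Pi.single i 1, 0)) = 0 := by rw [h.form, dotProduct_zero]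
    have hw : QuadraticMap.polar Q (e (Pi.single i 1, 0)) (e (0, Pi.single j (-c))) = 0 := by
      rw [h.polar, h1, dotProduct_zero, add_zero]
    rw [h2, ← h.siegel h1 hu hw]
    exact subset_closure ⟨_, _, hu, hw, (h.mem _ _).2 rfl, (h.mem' _ _).2 rfl, rfl⟩
  · rw [Sw, closure_le]
    rintro _ ⟨u, w, hu, hw, h1, h2, rfl⟩
    obtain ⟨⟨x, y'⟩, rfl⟩ := e.surjective u
    obtain ⟨⟨x', y⟩, rfl⟩ := e.surjective w
    obtain rfl := (h.mem _ _).1 h1
    obtain rfl := (h.mem' _ _).1 h2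
    have h3 : x ⬝ᵥ y = 0 := by
      have h4 := hw
      rwa [h.polar, dotProduct_zero, add_zero] at h4
    exact ⟨tv x y h3, (h.siegel h3 hu hw).symm⟩

theorem Sw_le : Sw Q W W' ≤ E Q := by
  rw [Sw, closure_le]
  rintro _ ⟨u, w, hu, hw, -, -, rfl⟩
  exact siegel_mem_E hu hw

theorem Co.us_mem (h : Co Q W W' e) (hm : 2 ≤ m) (s : SpecialLinearGroup (Fin m) F) : us e s ∈ E Q :=
  Sw_le ((h.range hm).le ⟨s, rfl⟩)

/-- `SL(W) → Aut (PΩ)` -/
def Co.π (h : Co Q W W' e) (hm : 2 ≤ m) : SpecialLinearGroup (Fin m) F →* Au Q :=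
  (ps Q).comp ((us e).codRestrict (E Q) (h.us_mem hm))

theorem Co.π_apply (h : Co Q W W' e) (hm : 2 ≤ m) (s : SpecialLinearGroup (Fin m) F) :
    h.π hm s = Psi Q (lg ⟨us e s, h.us_mem hm s⟩) := rfl

theorem Co.range_π (h : Co Q W W' e) (hm : 2 ≤ m) : (h.π hm).range = i0 Q (Sw Q W W') := by
  ext a
  constructor
  · rintro ⟨s, rfl⟩
    exact ⟨⟨us e s, h.us_mem hm s⟩, (h.range hm).le ⟨s, rfl⟩, rfl⟩
  · rintro ⟨⟨g, hg⟩, h1, rfl⟩
    obtain ⟨s, rfl⟩ := (h.range hm).ge h1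
    exact ⟨s, rfl⟩

theorem sq_one [Fintype F] (h3 : Nat.card F = 3) {a : F} (ha : a ≠ 0) : a * a = 1 := by
  have h1 := FiniteField.pow_card_sub_one_eq_one a ha
  rwa [← Nat.card_eq_fintype_card, h3, pow_two] at h1

theorem aut_eq [Fintype F] (h3 : Nat.card F = 3) (σ : F ≃+* F) (a : F) : σ a = a := by
  by_cases ha : a = 0
  · rw [ha, map_zero]
  · rcases mul_self_eq_one_iff.1 (sq_one h3 ha) with h | h
    · rw [h, map_one]
    · rw [h, map_neg, map_one]

theorem Co.ker_π [Fintype F] (h : Co Q W W' e) (hG : Good Q) (h3 : Nat.card F = 3) (hm : 2 ≤ m) :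
    center (SpecialLinearGroup (Fin m) F) = (h.π hm).ker := by
  ext s
  rw [MonoidHom.mem_ker, h.π_apply, ← MonoidHom.mem_ker, ker_Psi hG]
  constructor
  · intro hs
    obtain ⟨r, hr, h1⟩ := Matrix.SpecialLinearGroup.mem_center_iff.1 hs
    have h0 : r ≠ 0 := by
      rintro rfl
      rw [Fintype.card_fin, zero_pow (by omega)] at hr
      exact zero_ne_one hr
    have h2 : s⁻¹ = s := by
      rw [inv_eq_iff_mul_eq_one]
      apply Subtype.ext
      rw [sl_mul, ← h1, ← map_mul, sq_one h3 h0, map_one, sl_one]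
    refine ⟨Units.mk0 r h0, Subtype.ext (Equiv.ext fun v => ?_)⟩
    obtain ⟨⟨x, y⟩, rfl⟩ := e.surjective v
    show r • e (x, y) = us e s (e (x, y))
    rw [us_apply, h2, ← h1, ← map_smul]
    simp [Matrix.scalar_apply, ← Matrix.smul_one_eq_diagonal, smul_mulVec]
  · rintro ⟨a, ha⟩
    have h1 : ∀ x, s.1 *ᵥ x = (a : F) • x := fun x => by
      have h2 : (a : F) • e (x, 0) = us e s (e (x, 0)) := congrArg (fun g : Gam Q => g.1 (e (x, 0))) ha
      rw [us_apply, ← map_smul] at h2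
      exact (congrArg Prod.fst (e.injective h2)).symm
    rw [mem_center_iff]
    intro t
    apply Subtype.ext
    rw [sl_mul, sl_mul]
    refine Matrix.ext_iff_mulVec.2 fun x => ?_
    rw [← mulVec_mulVec, ← mulVec_mulVec, h1, h1, mulVec_smul]

/-- an isometry as a semisimilitude -/
def og (g : V ≃ₗ[F] V) (hg : g ∈ O Q) : Gam Q :=
  ⟨g.toEquiv, RingEquiv.refl F, 1, ⟨one_ne_zero, map_add g, map_smul g, fun v => by
    rw [one_mul]
    exact hg v⟩⟩

theorem img_og {g : V ≃ₗ[F] V} (hg : g ∈ O Q) {U U' : Submodule F V} (h : ∀ v, g v ∈ U' ↔ v ∈ U) : img (og g hg) U = U' := by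
  ext w
  obtain ⟨v, rfl⟩ := g.surjective w
  rw [mem_img, h]
  exact ⟨fun ⟨u, hu, h1⟩ => g.injective h1 ▸ hu, fun hv => ⟨v, hv, rfl⟩⟩

theorem Co.conj (h : Co Q W W' e) (hm : 2 ≤ m) {g : V ≃ₗ[F] V} (hg : g ∈ O Q) {s s' : SpecialLinearGroup (Fin m) F}
    (H : g * us e s = us e s' * g) : Psi Q (og g hg) * h.π hm s * (Psi Q (og g hg))⁻¹ = h.π hm s' := by
  rw [mul_inv_eq_iff_eq_mul, h.π_apply, h.π_apply, ← map_mul, ← map_mul]
  congr 1
  exact Subtype.ext (Equiv.ext fun v => LinearEquiv.congr_fun H v)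

theorem mv_zero (g : GL (Fin m) F) {x : Fin m → F} : g.1 *ᵥ x = 0 ↔ x = 0 := by
  refine ⟨fun h => ?_, fun h => by rw [h, mulVec_zero]⟩
  rw [← one_mulVec x, ← g.inv_mul, ← mulVec_mulVec, h, mulVec_zero]

theorem mv_zero' (g : GL (Fin m) F) {x : Fin m → F} : g.1ᵀ *ᵥ x = 0 ↔ x = 0 := by
  refine ⟨fun h => ?_, fun h => by rw [h, mulVec_zero]⟩
  rw [← one_mulVec x, ← transpose_one, ← g.mul_inv, transpose_mul, ← mulVec_mulVec, h, mulVec_zero]

/-- the conjugate by an invertible matrix -/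
theorem exists_cj (g : GL (Fin m) F) (s : SpecialLinearGroup (Fin m) F) :
    ∃ s' : SpecialLinearGroup (Fin m) F, s'.1 = g.1 * s.1 * (g⁻¹).1 ∧ up e g * us e s = us e s' * up e g := by
  have h1 : (g.1 * s.1 * (g⁻¹).1).det = 1 := by
    rw [det_mul, det_mul, s.2, mul_one, ← det_mul, Units.mul_inv, det_one]
  refine ⟨⟨_, h1⟩, rfl, ?_⟩
  show up e g * up e _ = up e _ * up e g
  rw [← map_mul, ← map_mul]
  congr 1
  apply Units.ext
  show g.1 * s.1 = g.1 * s.1 * (g⁻¹).1 * g.1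
  rw [mul_assoc, Units.inv_mul, mul_one]

/-- the inverse transpose -/
theorem exists_tr (s : SpecialLinearGroup (Fin m) F) :
    ∃ s' : SpecialLinearGroup (Fin m) F, s'.1 = (s⁻¹).1ᵀ ∧ sw e * us e s = us e s' * sw e := by
  refine ⟨(s⁻¹).transpose, rfl, ?_⟩
  have h1 : ((s⁻¹).transpose⁻¹).1ᵀ = s.1 := by
    have h2 : (s⁻¹).transpose⁻¹ = s.transpose := by
      rw [inv_eq_iff_mul_eq_one]
      apply Subtype.ext
      show (s⁻¹).1ᵀ * s.1ᵀ = 1
      rw [← transpose_mul, ← sl_mul, mul_inv_cancel, sl_one, transpose_one]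
    rw [h2]
    exact transpose_transpose _
  ext v
  obtain ⟨⟨x, y⟩, rfl⟩ := e.surjective v
  show sw e (us e s (e (x, y))) = us e _ (sw e (e (x, y)))
  rw [us_apply, sw_apply, sw_apply, us_apply, h1]
  rfl

end Aw

open Aw in
/-- **`L_m(3)` in `PΩ⁺_{2m}(3)`** -/
theorem boxAw : BoxAw := by
  intro F V _ _ _ _ _ Q m hP h3 W W' hf
  obtain ⟨e, h⟩ := exists_co hP hf
  have h5 := hP.five
  have hm : 2 ≤ m := by omega
  have hF : Fintype.card F = 3 ^ 1 := by rw [← Nat.card_eq_fintype_card, h3, pow_one]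
  let φ : ProjectiveSpecialLinearGroup (Fin m) F ≃* i0 Q (Sw Q W W') :=
    ((QuotientGroup.quotientMulEquivOfEq (h.ker_π hP.good h3 hm)).trans
      (QuotientGroup.quotientKerEquivRange (h.π hm))).trans (MulEquiv.subgroupCongr (h.range_π hm))
  have hφ : ∀ s, (φ (QuotientGroup.mk s)).1 = h.π hm s := fun _ => rfl
  refine ⟨?_, ⟨Nat.prime_three, le_rfl, ⟨hm, by omega⟩, ?_⟩, fun α => ?_⟩
  · haveI := LieClassical.SLGen.psl_isSimpleGroup (ι := Fin m) (F := F) (by rw [Fintype.card_fin]; omega)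
    exact φ.symm.isSimpleGroup
  · have h1 := H616.ExtPSL.card_eq (F := F) hm
    rwa [hF, Nat.card_congr φ.toEquiv] at h1
  · haveI : Fact (Nat.Prime 3) := ⟨Nat.prime_three⟩
    obtain ⟨δ, ψ, γ, σ, ⟨g, hδ⟩, hψ, hγ, hβ⟩ := S2690.result hF le_rfl hm (by omega) ((φ.trans α).trans φ.symm)
    have h1 : ∀ s, ψ (QuotientGroup.mk s) = QuotientGroup.mk s := fun s => hψ s s (by
      ext i j
      exact (aut_eq h3 σ _).symm)
    have h2 : ∀ x, α (φ x) = φ (δ (ψ (γ x))) := fun x => by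
      have h4 : φ.symm (α (φ x)) = δ (ψ (γ x)) := DFunLike.congr_fun hβ x
      rw [← h4, φ.apply_symm_apply]
    rcases hγ with rfl | hγ
    · refine ⟨og _ (h.up_mem g), .inl ⟨img_og _ fun v => ?_, img_og _ fun v => ?_⟩, fun t => ?_⟩
      · obtain ⟨⟨x, y⟩, rfl⟩ := e.surjective v
        rw [up_apply, h.mem, h.mem, mv_zero']
      · obtain ⟨⟨x, y⟩, rfl⟩ := e.surjective v
        rw [up_apply, h.mem', h.mem', mv_zero]
      · obtain ⟨x, rfl⟩ := φ.surjective t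
        obtain ⟨s, rfl⟩ := QuotientGroup.mk_surjective x
        obtain ⟨s', h6, h7⟩ := exists_cj (e := e) g s
        rw [h2, MulAut.one_apply, h1, hδ s s' h6, hφ, hφ]
        exact h.conj hm _ h7
    · refine ⟨og _ (mul_mem (h.up_mem g) h.sw_mem), .inr ⟨img_og _ fun v => ?_, img_og _ fun v => ?_⟩, fun t => ?_⟩
      · obtain ⟨⟨x, y⟩, rfl⟩ := e.surjective v
        rw [LinearEquiv.mul_apply, sw_apply, up_apply, h.mem, h.mem', mv_zero]
      · obtain ⟨⟨x, y⟩, rfl⟩ := e.surjective v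
        rw [LinearEquiv.mul_apply, sw_apply, up_apply, h.mem, h.mem', mv_zero']
      · obtain ⟨x, rfl⟩ := φ.surjective t
        obtain ⟨s, rfl⟩ := QuotientGroup.mk_surjective x
        obtain ⟨s₁, h8, h9⟩ := exists_tr (e := e) s
        obtain ⟨s', h6, h7⟩ := exists_cj (e := e) g s₁
        rw [h2, hγ s s₁ h8, h1, hδ s₁ s' h6, hφ, hφ]
        exact h.conj hm _ (by rw [mul_assoc, h9, ← mul_assoc, h7, mul_assoc])

end Cfsg.Agent.SM.Op
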