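import Cfsg.Agent.SM.Op.CnA
import Cfsg.Agent.SM.Om.Alt
import Cfsg.Agent.SM.Oo.S
import Cfsg.Agent.H982.EP.Trans
import Cfsg.Agent.H884.OmegaGL
import Cfsg.Agent.H884.ElRows
import Cfsg.Agent.H918.UProperTwo
import Cfsg.Agent.H918.Transv
import Cfsg.Agent.H906.TraceField
import Cfsg.Agent.H793.EP.SLC4
import Cfsg.Agent.H108.TK.Kill

/-!
# SM (S3570), socle `PΩ⁺_{2m}(q)`: overgroups of a group in class `S`, common tools (helper6)
-/

set_option autoImplicit false
set_option linter.unusedSectionVars false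

namespace Cfsg.Agent.SM.Op.Cn

open Module QuadraticMap Cfsg Cfsg.Geo
open Cfsg.Agent.LieClassical.OrthCore Cfsg.Agent.LieClassical.OrthTrans
open Cfsg.Agent.LieClassical.OrthFinite (glEquiv glEquiv_apply good_of_finite)
open Cfsg.Agent.H955 (IsPlus perp res)
open Cfsg.Agent.H884.El (PP)
open Cfsg.Agent.H982.EP (glT glT_mulVec reLin core_map map_omegaGL mem_map_glT)
open Cfsg.Agent.H793.EP (kp mem_tensor kp_scalar_iff scalar_of_kron)
open scoped Pointwise MatrixGroups Matrix commutatorElement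

variable {ι κ : Type} [Fintype ι] [DecidableEq ι] [Fintype κ] [DecidableEq κ] {F : Type} [Field F] [Fintype F]
  {H L P : Subgroup (GL ι F)} {Q : QuadraticForm F (ι → F)} {m : ℕ} {Y : Subgroup ((ι → F) ≃ₗ[F] (ι → F))}

/-! ### the geometric classes -/

theorem k_red (h : IsResidualCore H P) {W : Submodule F (ι → F)} (h0 : W ≠ ⊥) (h1 : W ≠ ⊤) (hW : P ≤ subspaceStabilizer W) :
    False := by
  rcases h.absIrred.1 W (by
    rintro _ ⟨g, hg, rfl⟩ _ ⟨v, hv, rfl⟩
    exact (hW hg v).1 hv) with k | k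
  · exact h0 k
  · exact h1 k

theorem k_dim (h : IsResidualCore H P) {W : Submodule F (ι → F)} {d : ℕ} (hd : finrank F W = d) (h0 : 0 < d)
    (h1 : d < Fintype.card ι) (hW : P ≤ subspaceStabilizer W) : False :=
  k_red h (fun e => by rw [e, finrank_bot] at hd; omega)
    (fun e => by rw [e, finrank_top, Module.finrank_fintype_fun_eq_card] at hd; omega) hW

theorem k_pair (h : IsResidualCore H P) {D : Fin 2 → Submodule F (ι → F)} {d : ℕ} (hD : IsMDecomposition d D)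
    (h1 : d < Fintype.card ι) (hle : P ≤ decompositionStabilizer D) : False := by
  refine k_dim h (hD.finrank_eq 0) hD.pos h1 ?_
  rw [← h.perfect, Subgroup.commutator_le]
  intro g hg k hk
  obtain ⟨σ, hσ⟩ := hle hg
  obtain ⟨τ, hτ⟩ := hle hk
  obtain ⟨σ', hσ'⟩ := hle (P.inv_mem hg)
  obtain ⟨τ', hτ'⟩ := hle (P.inv_mem hk)
  have h2 : ∀ {a : GL ι F} {s s' : Equiv.Perm (Fin 2)}, (∀ i, (D i).map (Matrix.toLin' (a : Matrix ι ι F)) = D (s i)) →
      (∀ i, (D i).map (Matrix.toLin' ((a⁻¹ : GL ι F) : Matrix ι ι F)) = D (s' i)) → ∀ j, D (s (s' j)) = D j :=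
    fun {a s s'} k1 k2 j => by
      rw [← k1, ← k2, ← Submodule.map_comp, ← Matrix.toLin'_mul, ← Units.val_mul, mul_inv_cancel, Units.val_one,
        Matrix.toLin'_one, Submodule.map_id]
  have h3 : (D 0).map (Matrix.toLin' ((⁅g, k⁆ : GL ι F) : Matrix ι ι F)) = D 0 := by
    rw [commutatorElement_def, Units.val_mul, Units.val_mul, Units.val_mul, Matrix.toLin'_mul, Matrix.toLin'_mul,
      Matrix.toLin'_mul, Submodule.map_comp, Submodule.map_comp, Submodule.map_comp, hτ', hσ', hτ, hσ,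
      (by decide : ∀ (a b : Equiv.Perm (Fin 2)) j, a (b j) = b (a j)) τ σ', h2 hσ hσ', h2 hτ hτ']
  exact CS.Ix.mem_stab_iff.2 fun w hw => h3 ▸ ⟨w, hw, rfl⟩

theorem k_sub (h : IsResidualCore H P) {F₀ : Subfield F} {r : ℕ} {B : GL ι F} (hr : r.Prime)
    (hc : Fintype.card F = Nat.card F₀ ^ r) (hle : P ≤ subfieldSubgroup F₀ B) : False := by
  refine h.no_subfield F₀ ?_ (H906.realisable_of_trace h.absIrred F₀ fun g hg => H918.trace_mem_of_mem_map (P := B)
    (H918.commutator_subfieldSubgroup_le F₀ B (Subgroup.commutator_mono hle hle (h.perfect.symm ▸ hg))))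
  rintro rfl
  rw [Nat.card_congr Subfield.topEquiv.toEquiv, Nat.card_eq_fintype_card] at hc
  exact (Nat.pow_lt_pow_right Fintype.one_lt_card hr.one_lt).ne ((pow_one _).trans hc)

theorem k_tens (h : IsResidualCore H P) {n : ℕ} (hn : 0 < n) {e : ι ≃ Fin 2 × Fin n} {B : GL ι F}
    (hle : H ≤ tensorProductSubgroup 2 n e B) {d r : ℕ} (hr : PP (Nat.card F) d r) (hd : 3 ≤ d) {y : GL ι F} (hy : y ∈ H)
    (ho : orderOf y = r) : False := by
  have hq : 1 < Nat.card F := Finite.one_lt_card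
  have h0 : ∀ i, 0 < i → i ≤ 2 → ¬ r ∣ Nat.card F ^ i - 1 := fun i h1 h2 k => by
    have := Nat.le_of_dvd h1 ((hr.dvd_iff hq.le i).1 k)
    omega
  let X := ((kp e B).comp (MonoidHom.inr _ _)).range
  have hX : ∀ x ∈ H, ∀ z ∈ X, x * z * x⁻¹ ∈ X := by
    rintro x hx _ ⟨b, rfl⟩
    obtain ⟨c, d, rfl⟩ := (mem_tensor e B).1 (hle hx)
    refine ⟨d * b * d⁻¹, ?_⟩
    show kp e B (1, d * b * d⁻¹) = kp e B (c, d) * kp e B (1, b) * (kp e B (c, d))⁻¹
    rw [← map_inv, ← map_mul, ← map_mul, Prod.inv_mk, Prod.mk_mul_mk, Prod.mk_mul_mk, mul_one, mul_inv_cancel]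
  have hyX : y ∈ X := by
    have h1 : (orderOf y).Coprime (Nat.card (GL (Fin 2) F)) := by
      rw [ho, hr.prime.coprime_iff_not_dvd, Matrix.card_GL_field, Fin.prod_univ_two, ← Nat.card_eq_fintype_card,
        hr.prime.dvd_mul, Fin.val_zero, Fin.val_one, pow_zero, pow_one, pow_two (Nat.card F), ← Nat.mul_sub_one,
        hr.prime.dvd_mul, ← pow_two]
      rintro (k | k | k)
      · exact h0 2 two_pos le_rfl k
      · exact hr.not_dvd (by omega) k
      · exact h0 1 one_pos one_le_two (by rwa [pow_one])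
    obtain ⟨k, hk⟩ := exists_pow_eq_self_of_coprime h1.symm
    obtain ⟨c, d, rfl⟩ := (mem_tensor e B).1 (hle hy)
    rw [← hk, ← map_pow, Prod.pow_mk, pow_card_eq_one']
    exact X.pow_mem ⟨_, rfl⟩ k
  rcases H108.TK.le_or_cover h (X := X) (fun p hp => hX p (h.le hp)) with k | k
  · obtain ⟨c, hc⟩ := (mem_scalars_iff y).1 (h.centralizer_scalar y hy fun x hx =>
      k _ (P.mul_mem (h.normal y hy x hx) (P.inv_mem hx)) (by
        rw [mul_assoc, mul_assoc, ← mul_assoc x]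
        exact X.mul_mem hyX (hX x (h.le hx) _ (X.inv_mem hyX))))
    refine h0 1 one_pos one_le_two (ho ▸ orderOf_dvd_of_pow_eq_one (Units.ext ?_))
    rw [Units.val_pow_eq_pow_val, hc, smul_pow, one_pow, pow_one, Nat.card_eq_fintype_card,
      FiniteField.pow_card_sub_one_eq_one _ c.ne_zero, one_smul, Units.val_one]
  · let c : GL (Fin 2) F := ⟨!![1, 1; 0, 1], !![1, -1; 0, 1], by simp [← Matrix.one_fin_two], by simp [← Matrix.one_fin_two]⟩
    obtain ⟨a, ha⟩ := h.absIrred.2 (kp e B (c, 1) : GL ι F) (by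
      rintro _ ⟨x, hx, rfl⟩
      obtain ⟨_, ⟨b, rfl⟩, s, hs, rfl⟩ := k x hx
      have h1 : kp e B (c, 1) * kp e B (1, b) = kp e B (1, b) * kp e B (c, 1) := by
        rw [← map_mul, ← map_mul, Prod.mk_mul_mk, Prod.mk_mul_mk, mul_one, one_mul, mul_one, one_mul]
      have h2 : kp e B (c, 1) * (kp e B (1, b) * s) = kp e B (1, b) * s * kp e B (c, 1) := by
        rw [← mul_assoc, h1, mul_assoc, mul_assoc, H918.commute_of_mem_scalars hs]
      exact congrArg Units.val h2)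
    have : Nonempty ι := ⟨e.symm (0, ⟨0, hn⟩)⟩
    have h1 : a ≠ 0 := fun k => (kp e B (c, 1)).ne_zero (by rw [ha, k, zero_smul])
    obtain ⟨s, hs⟩ := (mem_scalars_iff c).1 (scalar_of_kron two_pos hn ((kp_scalar_iff e B c 1).1
      ((mem_scalars_iff _).2 ⟨Units.mk0 a h1, ha⟩))).1
    have h2 := congrFun (congrFun hs 0) 1
    simp [c] at h2

/-! ### the residual class -/

theorem exists_U (hPl : BoxPl) (h : Pl Q m) (hY : Y ≤ O Q) (ht : Tr Q Y) (hP : IsResidualCore (mx Y) P) {G : Type} [Group G]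
    (e : (P ⧸ (scalars ι F).subgroupOf P) ≃* G) : ∃ (n : ℕ) (U R : Subgroup (MulAut G)), Nb (Nat.card F) m n ∧
      U.index = n * R.index ∧ Nat.card G ≤ Nat.card R := by
  obtain ⟨W, hW⟩ := exists_orb hPl h hY ht
  obtain ⟨φ, hφ⟩ := H900.SU4.exists_core_inj hP
  have hψ : Function.Injective ((MulAut.congr e).toMonoidHom.comp φ) := (MulAut.congr e).injective.comp hφ
  let A := ((MulAction.stabilizer _ W).comap (glEquiv ι F).toMonoidHom).subgroupOf (mx Y)
  refine ⟨_, (A.map (QuotientGroup.mk' _)).map ((MulAut.congr e).toMonoidHom.comp φ),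
    ((MulAut.congr e).toMonoidHom.comp φ).range, hW, (Subgroup.index_map_of_injective _ hψ).trans ?_, ?_⟩
  · congr 1
    rw [Subgroup.index_map_eq _ (QuotientGroup.mk'_surjective _)]
    · exact (Subgroup.relIndex_comap _ _ _).trans (congrArg _ (Subgroup.map_comap_eq_self_of_surjective (glEquiv ι F).surjective Y))
    · intro g hg
      obtain ⟨c, hc⟩ := (mem_scalars_iff _).1 ((QuotientGroup.eq_one_iff g).1 hg)
      refine Submodule.eq_of_le_of_finrank_eq ?_ (LinearEquiv.finrank_map_eq (glEquiv ι F g) W)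
      rintro _ ⟨w, hw, rfl⟩
      show ((g : GL ι F) : Matrix ι ι F) *ᵥ w ∈ W
      rw [show ((g : GL ι F) : Matrix ι ι F) = _ from hc, Matrix.smul_mulVec, Matrix.one_mulVec]
      exact W.smul_mem _ hw
  · rw [← Nat.card_congr (MonoidHom.ofInjective hψ).toEquiv, ← Nat.card_congr e.toEquiv,
      Nat.card_congr (H917.coreEquiv hP.le).toEquiv]
    exact Subgroup.card_le_card_group _

theorem dvd_aut (hPl : BoxPl) (h : Pl Q m) (hY : Y ≤ O Q) (ht : Tr Q Y) (hP : IsResidualCore (mx Y) P) {G : Type} [Group G]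
    (e : (P ⧸ (scalars ι F).subgroupOf P) ≃* G) {C : ℕ} (hC : Nat.card (MulAut G) ∣ C) :
    Nat.card F ^ (m - 1) * (Nat.card F ^ m - 1) ∣ 2 * (Nat.card F + 1) * C := by
  obtain ⟨n, U, R, h1, h2, -⟩ := exists_U hPl h hY ht hP e
  exact h1.dvd.trans (mul_dvd_mul_left _ (((Dvd.intro _ h2.symm).trans U.index_dvd_card).trans hC))

theorem pow_dvd {q k a C : ℕ} (h : q ^ k * a ∣ 2 * (q + 1) * C) : q ^ k ∣ 2 * C :=
  Nat.Coprime.dvd_of_dvd_mul_left (m := q + 1) (Nat.Coprime.pow_left k (by simp))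
    (by rw [← mul_assoc, mul_comm (q + 1)]; exact (Dvd.intro _ rfl).trans h)

theorem small {q k C b : ℕ} {l : List ℕ} (h : q ^ k ∣ C) (h0 : 0 < C) (hb : C < b ^ k) (hl : ∀ x < b, x ^ k ∣ C → x ∈ l) :
    q ∈ l := hl q (lt_of_pow_lt_pow_left₀ k b.zero_le ((Nat.le_of_dvd h0 h).trans_lt hb)) h

/-! ### the setting -/

theorem card_eq (h : Pl Q m) : Fintype.card ι = 2 * m := (Module.finrank_fintype_fun_eq_card F).symm.trans h.dim

theorem mem_og (h : Pl Q m) {g : GL ι F} : g ∈ omegaGL (⇑Q) ↔ glEquiv ι F g ∈ E Q := by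
  have h5 := h.five
  have h1 := H884.OmegaGL.mem_omegaGL (⇑Q) (H925.isND_of_nondeg h.good.nondeg) (by rw [card_eq h]; omega) g
  rwa [show H884.OmegaGL.bundle (⇑Q) _ = Q from QuadraticMap.ext fun _ => rfl] at h1

theorem plus' (h : Pl Q m) : IsPlusTypeOn (⇑Q) ⊤ :=
  let ⟨U, h1, h2⟩ := h.plus
  ⟨U, le_top, h1, by rw [h2, finrank_top]⟩

theorem ne_top (h : Pl Q m) {W : Submodule F (ι → F)} (hW : IsTotallySingularQuad (⇑Q) W) : W ≠ ⊤ := by
  rintro rfl
  obtain ⟨x, y, k⟩ := h.good.exists_hyp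
  have h1 := hW (x + y) trivial
  rw [Q_add, k.left, k.right, k.pair, add_zero, zero_add] at h1
  exact one_ne_zero h1

theorem tr_mono {Y' : Subgroup ((ι → F) ≃ₗ[F] (ι → F))} (h : Tr Q Y) (hle : Y ≤ Y') : Tr Q Y' :=
  h.imp (fun ⟨c, hc, k⟩ => ⟨c, hc, fun x y hx hy => let ⟨g, hg, e⟩ := k x y hx hy; ⟨g, hle hg, e⟩⟩)
    fun k A B hA hB => let ⟨g, hg, e⟩ := k A B hA hB; ⟨g, hle hg, e⟩

theorem exists_max (h : Pl Q m) (h1 : Y ≤ E Q) (h2 : ¬ E Q ≤ Y) (ht : Tr Q Y) :
    ∃ Z, Z ≤ O Q ∧ Tr Q Z ∧ mx Y ≤ mx Z ∧ IsMaximalIn (omegaGL (⇑Q)) (mx Z) := by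
  obtain ⟨L, k1, k3⟩ := exists_le_covBy_of_lt (show mx Y < omegaGL (⇑Q) from
    ⟨fun g hg => (mem_og h).2 (h1 hg), fun k => h2 fun g hg => by
      obtain ⟨g, rfl⟩ := (glEquiv ι F).surjective g
      exact k ((mem_og h).2 hg)⟩)
  have e : mx (L.map (glEquiv ι F).toMonoidHom) = L := Subgroup.comap_map_eq_self_of_injective (glEquiv ι F).injective L
  refine ⟨L.map (glEquiv ι F).toMonoidHom, ?_, tr_mono ht fun g hg => ?_, e.symm ▸ k1,
    e.symm ▸ ⟨k3.lt, fun _ k4 k5 => k3.eq_or_eq k4 k5⟩⟩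
  · rintro _ ⟨g, hg, rfl⟩
    exact E_le_O ((mem_og h).1 (k3.le hg))
  · obtain ⟨g, rfl⟩ := (glEquiv ι F).surjective g
    exact ⟨g, k1 hg, rfl⟩

/-- the box on `Fin n → F` -/
def CF (n k : ℕ) : Prop := ∀ (F : Type) [Field F] [Fintype F] (Q : QuadraticForm F (Fin n → F))
  (Y : Subgroup ((Fin n → F) ≃ₗ[F] (Fin n → F))) (P : Subgroup (GL (Fin n) F)), Pl Q k → Y ≤ E Q → ¬ E Q ≤ Y → Tr Q Y →
  IsResidualCore (mx Y) P → False

theorem box_of {n k : ℕ} (hn : 2 * k = n) (hC : CF n k) : BoxC k := by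
  rintro ι F _ _ _ _ Q m h rfl Y P h1 h2 ht hP
  have h5 := h.five
  let j := reLin F (Fintype.equivFinOfCardEq ((card_eq h).trans hn))
  let Q' : QuadraticForm F (Fin n → F) := Q.comp j.symm.toLinearMap
  have hj : ∀ v, Q' (j v) = Q v := fun v => congrArg Q (j.symm_apply_apply v)
  have hd : finrank F (Fin n → F) = 2 * m := j.finrank_eq.symm.trans h.dim
  have h' : Pl Q' m := ⟨good_of_finite (fun x hx => j.symm.injective ((h.good.nondeg _ fun y => by
    rw [← hx (j y)]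
    show Q (j.symm x + y) - Q (j.symm x) - Q y = Q (j.symm (x + j y)) - Q (j.symm x) - Q (j.symm (j y))
    rw [map_add j.symm, j.symm_apply_apply]).trans (map_zero _).symm)) (by omega),
    h.plus.of_equiv j hj, hd, h5⟩
  let c := (glEquiv ι F).symm.trans ((glT j).trans (glEquiv (Fin n) F))
  have hc : ∀ g v, c g (j v) = j (g v) := fun g v => by
    obtain ⟨g, rfl⟩ := (glEquiv ι F).surjective g
    show glEquiv (Fin n) F (glT j ((glEquiv ι F).symm _)) _ = _
    rw [MulEquiv.symm_apply_apply, glEquiv_apply, glEquiv_apply, glT_mulVec]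
  have hE : ∀ g, c g ∈ E Q' ↔ g ∈ E Q := fun g => by
    obtain ⟨g, rfl⟩ := (glEquiv ι F).surjective g
    show glEquiv (Fin n) F (glT j ((glEquiv ι F).symm _)) ∈ _ ↔ _
    rw [MulEquiv.symm_apply_apply, ← mem_og h', ← mem_og h, ← map_omegaGL j one_ne_zero fun v => (hj v).trans (one_mul _).symm,
      mem_map_glT]
  refine hC F Q' (Y.map c.toMonoidHom) (P.map (glT j).toMonoidHom) h' ?_ (fun k => h2 fun g hg => ?_) ?_ ?_
  · rintro _ ⟨g, hg, rfl⟩
    exact (hE g).2 (h1 hg)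
  · obtain ⟨g', hg', e⟩ := k ((hE g).2 hg)
    exact c.injective e ▸ hg'
  · rcases ht with ⟨a, ha, k⟩ | k
    · refine Or.inl ⟨a, ha, fun x y hx hy => ?_⟩
      obtain ⟨x, rfl⟩ := j.surjective x
      obtain ⟨y, rfl⟩ := j.surjective y
      obtain ⟨g, hg, e⟩ := k x y ((hj x).symm.trans hx) ((hj y).symm.trans hy)
      exact ⟨c g, ⟨g, hg, rfl⟩, e.imp (fun e => by rw [hc, e]) fun e => by rw [hc, e, map_neg]⟩
    · refine Or.inr fun A B hA hB => ?_
      have an : ∀ A, An Q' A → An Q (A.map j.symm.toLinearMap) := fun A hA =>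
        ⟨(LinearEquiv.finrank_map_eq j.symm A).trans hA.1, by
          rintro _ ⟨x, hx, rfl⟩ e
          rw [hA.2 x hx e, map_zero]⟩
      obtain ⟨g, hg, e⟩ := k _ _ (an A hA) (an B hB)
      refine ⟨c g, ⟨g, hg, rfl⟩, Submodule.map_injective_of_injective (f := j.symm.toLinearMap) j.symm.injective ?_⟩
      rw [← e, ← Submodule.map_comp, ← Submodule.map_comp]
      refine congrArg (A.map ·) (LinearMap.ext fun v => ?_)
      obtain ⟨v, rfl⟩ := j.surjective v
      show j.symm (c g (j v)) = g (j.symm (j v))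
      rw [hc, j.symm_apply_apply, j.symm_apply_apply]
  · rw [show mx (Y.map c.toMonoidHom) = (mx Y).map (glT j).toMonoidHom from Subgroup.ext fun g => ?_]
    · exact core_map j hP
    · obtain ⟨g, rfl⟩ := (glT j).surjective g
      rw [mem_map_glT]
      refine ⟨fun ⟨y, hy, e⟩ => ?_, fun k => ⟨_, k, congrArg (fun x => glEquiv (Fin n) F (glT j x))
        ((glEquiv ι F).symm_apply_apply g)⟩⟩
      rw [← (glT j).injective ((glEquiv (Fin n) F).injective e)]
      show glEquiv ι F ((glEquiv ι F).symm y) ∈ Y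
      rwa [MulEquiv.apply_symm_apply]

end Cfsg.Agent.SM.Op.Cn
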