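import Cfsg.Agent.SM.Op.Rho

/-!
# SM / Op: `boxDec` (helper38)

The number of blocks orthogonal to a subspace is invariant; adding a singular vector of the blocks orthogonal to it lowers the number.
-/

set_option autoImplicit false
set_option linter.unusedSectionVars false

namespace Cfsg.Agent.SM.Op

open Module QuadraticMap Cfsg Cfsg.Geo
open Cfsg.Agent.LieClassical.OrthCore Cfsg.Agent.LieClassical.OrthTrans Cfsg.Agent.LieClassical.OrthFinite
open Cfsg.Agent.H955 (IsPlus perp res mem_perp mem_perp')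
open scoped Pointwise MatrixGroups Matrix

namespace R9

variable {F V : Type} [Field F] [AddCommGroup V] [Module F V] {Q : QuadraticForm F V} {t : ℕ} {D : Fin t → Submodule F V}

theorem finrank_biSup [FiniteDimensional F V] {k : ℕ} (hi : iSupIndep D) (hk : ∀ i, finrank F (D i) = k) (J : Finset (Fin t)) :
    finrank F (⨆ i ∈ (J : Set (Fin t)), D i : Submodule F V) = J.card * k := by
  classical
  induction J using Finset.induction_on with
  | empty => simp
  | insert a J ha ih =>
    have h1 := Submodule.finrank_sup_add_finrank_inf_eq (D a) (⨆ i ∈ (J : Set (Fin t)), D i)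
    rw [(hi.disjoint_biSup (y := (J : Set (Fin t))) ha).eq_bot, finrank_bot, add_zero, hk, ih] at h1
    rw [Finset.coe_insert, iSup_insert, h1, Finset.card_insert_of_notMem ha]
    ring

/-- the blocks orthogonal to `W` -/
def co (Q : QuadraticForm F V) (D : Fin t → Submodule F V) (W : Submodule F V) : Set (Fin t) := {i | W ≤ perp Q (D i)}

theorem ncard_co {g : V ≃ₗ[F] V} (hg : g ∈ O Q) {σ : Equiv.Perm (Fin t)} (hσ : ∀ i, (D i).map (g : V →ₗ[F] V) = D (σ i))
    (W : Submodule F V) : (co Q D (g • W)).ncard = (co Q D W).ncard := by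
  rw [← Set.ncard_image_of_injective (co Q D W) σ.injective]
  congr 1
  ext j
  obtain ⟨i, rfl⟩ := σ.surjective j
  rw [σ.injective.mem_set_image]
  show g • W ≤ perp Q (D (σ i)) ↔ W ≤ perp Q (D i)
  rw [← hσ]
  constructor
  · intro h w hw x hx
    rw [← polar_map hg]
    exact h ⟨w, hw, rfl⟩ _ ⟨x, hx, rfl⟩
  · rintro h _ ⟨w, hw, rfl⟩ _ ⟨x, hx, rfl⟩
    exact (polar_map hg x w).trans (h hw x hx)

theorem le_perp_comm {A B : Submodule F V} (h : A ≤ perp Q B) : B ≤ perp Q A :=
  fun b hb => mem_perp'.2 fun _ ha => h ha b hb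

theorem sup_le_perp (ho : ∀ i j, i ≠ j → D i ≤ perp Q (D j)) {J : Set (Fin t)} {i : Fin t} (hi : i ∉ J) :
    (⨆ j ∈ J, D j) ≤ perp Q (D i) :=
  iSup₂_le fun j hj => ho j i fun e => hi (e ▸ hj)

theorem eq_zero_of_perp (hQ : Nondeg Q) (ho : ∀ i j, i ≠ j → D i ≤ perp Q (D j)) (ht : iSup D = ⊤) {J : Set (Fin t)} {z : V}
    (hz : z ∈ ⨆ j ∈ J, D j) (h : ∀ j ∈ J, z ∈ perp Q (D j)) : z = 0 := by
  have h1 : iSup D ≤ perp Q (F ∙ z) := iSup_le fun i => le_perp_comm ((Submodule.span_singleton_le_iff_mem _ _).2 (by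
    by_cases hi : i ∈ J
    · exact h i hi
    · exact sup_le_perp ho hi hz))
  rw [ht] at h1
  exact hQ z fun y => h1 trivial z (Submodule.mem_span_singleton_self z)

theorem ncard_lt (hQ : Nondeg Q) (ho : ∀ i j, i ≠ j → D i ≤ perp Q (D j)) (ht : iSup D = ⊤) {J : Set (Fin t)}
    {W W' : Submodule F V} (hW : W ≤ perp Q (⨆ j ∈ J, D j)) (hW' : W ≤ W' ⊔ ⨆ j ∈ J, D j) {y z : V} (hy : y ∈ W)
    (hz : z ∈ ⨆ j ∈ J, D j) (hz0 : z ≠ 0) (hyz : y + z ∈ W') : (co Q D W').ncard < (co Q D W).ncard := by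
  have hJ : ∀ i ∈ J, i ∈ co Q D W := fun i hi => hW.trans (H955.perp_anti (le_biSup D hi))
  refine Set.ncard_lt_ncard ⟨fun i hi => ?_, fun h => hz0 (eq_zero_of_perp hQ ho ht hz fun j hj => ?_)⟩
  · by_cases h : i ∈ J
    · exact hJ i h
    · exact hW'.trans (sup_le hi (sup_le_perp ho h))
  · have h1 := (perp Q (D j)).sub_mem (h (hJ j hj) hyz) (hJ j hj hy)
    rwa [add_sub_cancel_left] at h1

end R9

open R9

theorem boxDec : BoxDec := by
  intro ι F _ _ _ _ Q m h Y hY htr ⟨t, k, D, hD, hle⟩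
  classical
  have h5 := h.five
  have hQ := h.good.nondeg
  have ho : ∀ i j, i ≠ j → D i ≤ perp Q (D j) := fun i j hij x hx => mem_perp'.2 fun y hy => hD.orthogonal i j hij x hx y hy
  have ht := hD.decomp.iSup_eq_top
  have hrk := finrank_biSup hD.decomp.indep hD.decomp.finrank_eq
  have hn : t * k = 2 * m := by
    have h1 := hrk Finset.univ
    rw [Finset.coe_univ, iSup_univ, ht, finrank_top, h.dim, Finset.card_univ, Fintype.card_fin] at h1
    exact h1.symm
  have hinv : ∀ g ∈ Y, ∀ W, (co Q D (g • W)).ncard = (co Q D W).ncard := by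
    intro g hg W
    have h1 : (glEquiv ι F).symm g ∈ mx Y := by
      show glEquiv ι F ((glEquiv ι F).symm g) ∈ Y
      rwa [MulEquiv.apply_symm_apply]
    obtain ⟨σ, hσ⟩ := hle h1
    refine ncard_co (hY hg) (σ := σ) (fun i => ?_) W
    rw [← hσ]
    congr 1
    refine LinearMap.ext fun v => ?_
    rw [Matrix.toLin'_apply, ← glEquiv_apply, MulEquiv.apply_symm_apply]
    rfl
  obtain ⟨j, hj1, hj2, hj3⟩ : ∃ j, j ≤ t ∧ 3 ≤ j * k ∧ j * k + 5 ≤ 2 * m := by
    have h1 := hD.decomp.two_le
    have h2 := hD.decomp.pos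
    by_cases h3 : k = 1
    · subst h3
      exact ⟨3, by omega, by omega, by omega⟩
    by_cases h4 : k = 2
    · subst h4
      exact ⟨2, by omega, by omega, by omega⟩
    · have h6 := Nat.mul_le_mul_right k h1
      exact ⟨1, by omega, by omega, by omega⟩
  obtain ⟨J, -, hJ⟩ := Finset.exists_subset_card_eq (s := (Finset.univ : Finset (Fin t))) (n := j) (by simpa using hj1)
  have hU := hrk J
  rw [hJ] at hU
  set U : Submodule F (ι → F) := ⨆ i ∈ (J : Set (Fin t)), D i with hUd
  have hUn : Nondeg (res Q U) := H955.nondeg_res_iff.2 fun x hx hx' =>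
    eq_zero_of_perp hQ ho ht hx fun i hi => mem_perp'.2 fun y hy => hx' y (le_biSup D hi hy)
  have hG : Good (res Q (perp Q U)) := good_of_finite (H955.nondeg_perp hQ hUn) (by
    rw [H955.finrank_perp hQ, h.dim]; omega)
  obtain ⟨z, hz, hz0, hQz⟩ := exists_sing_mem (Q := Q) U (by omega)
  have hadd : ∀ y ∈ perp Q U, Q (y + z) = Q y := fun y hy => by rw [add_comm, H955.Q_add_of_perp hz hy, hQz, zero_add]
  have hsub : ∀ (W' : Submodule F (ι → F)) y, y + z ∈ W' → y ∈ W' ⊔ U := fun W' y hy => by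
    have h1 := Submodule.sub_mem _ (Submodule.mem_sup_left (T := U) hy) (Submodule.mem_sup_right (S := W') hz)
    rwa [add_sub_cancel_right] at h1
  rcases htr with ⟨c, hc, htr⟩ | htr
  · obtain ⟨⟨y, hy⟩, hyc⟩ := exists_norm hG c
    have hyc' : Q y = c := hyc
    have h1 := ncard_lt hQ ho ht (W := F ∙ y) (W' := F ∙ (y + z)) ((Submodule.span_singleton_le_iff_mem _ _).2 hy)
      ((Submodule.span_singleton_le_iff_mem _ _).2 (hsub _ y (Submodule.mem_span_singleton_self _)))
      (Submodule.mem_span_singleton_self y) hz hz0 (Submodule.mem_span_singleton_self _)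
    obtain ⟨g, hg, e | e⟩ := htr y (y + z) hyc' (by rw [hadd y hy, hyc'])
    · rw [← e, ← smul_pt, hinv g hg] at h1
      exact lt_irrefl _ h1
    · rw [← Submodule.span_singleton_smul_eq (isUnit_one (M := F)).neg (y + z), neg_one_smul, ← e, ← smul_pt, hinv g hg] at h1
      exact lt_irrefl _ h1
  · obtain ⟨a, b, hab⟩ := H955.exists_aniso_coeff F
    obtain ⟨⟨u, hu⟩, ⟨v, hv⟩, h1, h2, h3⟩ := exists_pair hG a b
    have h1' : Q u = 1 := h1
    have h2' : Q v = b := h2
    have h3' : polar Q u v = a := by rw [← h3, H955.polar_res]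
    have h4 := ncard_lt hQ ho ht (W := Submodule.span F {u, v}) (W' := Submodule.span F {u + z, v})
      (Submodule.span_le.2 (by rintro x (rfl | rfl); exacts [hu, hv]))
      (Submodule.span_le.2 (by
        rintro x (rfl | rfl)
        · exact hsub _ _ (Submodule.subset_span (by simp))
        · exact Submodule.mem_sup_left (Submodule.subset_span (by simp))))
      (y := u) (Submodule.subset_span (by simp)) hz hz0 (Submodule.subset_span (by simp))
    obtain ⟨g, hg, e⟩ := htr _ _ (an_span hab h1' h2' h3') (an_span hab (u := u + z) (v := v) (by rw [hadd u hu, h1']) h2'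
      (by rw [polar_add_left, h3', hv z hz, add_zero]))
    rw [← e, ← smul_eq, hinv g hg] at h4
    exact lt_irrefl _ h4

theorem boxDec_of (_ : BoxPl) : BoxDec := boxDec

end Cfsg.Agent.SM.Op
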