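import Cfsg.Agent.SM.Op.Defs
import Cfsg.Agent.H826.RgD.Plane

/-!
# SM (S3570), socle `PΩ⁺_{2m}(q)`, `m ≥ 5`: planes, `boxPl` (helper39)

* `PlG.exists_val`, `PlG.exists_pair`, `PlG.an_span`, `PlG.an_pair`, `PlG.exists_good`, `PlG.an_perp`, `PlG.sphere_top`;
* `boxPl : BoxPl`.
-/

set_option autoImplicit false
set_option linter.unusedSectionVars false

namespace Cfsg.Agent.SM.Op

open Module QuadraticMap
open Cfsg.Agent.LieClassical.OrthCore Cfsg.Agent.LieClassical.OrthTrans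
open Cfsg.Agent.LieClassical.OrthFinite (good_of_finite)
open Cfsg.Agent.H955 (perp res mem_perp mem_perp' nondeg_res_iff finrank_add_perp perp_perp)
open Cfsg.Agent.H386.Rg (Aniso)
open Cfsg.Agent.H826.RgD (Q_lin nondeg_of_aniso span_pair_aniso exists_iso_pair trans_aniso)

namespace PlG

variable {F V : Type} [Field F] [AddCommGroup V] [Module F V] {Q : QuadraticForm F V}

theorem ne_zero_of {x : V} (hx : Q x ≠ 0) : x ≠ 0 := by
  rintro rfl
  exact hx (QuadraticMap.map_zero Q)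

/-- a vector of given norm orthogonal to a hyperbolic pair -/
theorem exists_val (hG : Good Q) {e f : V} (h : Hyp Q e f) (c : F) :
    ∃ w, Q w = c ∧ polar Q e w = 0 ∧ polar Q f w = 0 := by
  obtain ⟨z, w, hzw, h1, h2, h3, h4⟩ := hG.exists_hyp2 h
  refine ⟨z + c • w, ?_, ?_, ?_⟩
  · rw [Q_add, QuadraticMap.map_smul, polar_smul_right, hzw.left, hzw.right, hzw.pair]
    simp
  · rw [polar_add_right, polar_smul_right, h1, h2]
    simp
  · rw [polar_add_right, polar_smul_right, h3, h4]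
    simp

/-- a vector of given norm which is not orthogonal to `u` -/
theorem exists_val_one (hG : Good Q) {u : V} (hu : u ≠ 0) (c : F) : ∃ b, Q b = c ∧ polar Q u b = 1 := by
  obtain ⟨x, y, hxy⟩ := hG.exists_hyp
  obtain ⟨e, f, h, hef⟩ := exists_hyp_decomp hG.nondeg hxy hu
  obtain ⟨w, hw, h1, h2⟩ := exists_val hG h c
  refine ⟨f + w, ?_, ?_⟩
  · rw [Q_add, h.right, hw, h2]
    simp
  · rw [hef, polar_add_left, polar_smul_left, polar_add_right, polar_add_right, h.pair, h1, h.polar_right, h2]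
    simp

theorem exists_norm (hG : Good Q) (c : F) : ∃ b, Q b = c := by
  obtain ⟨x, y, hxy⟩ := hG.exists_hyp
  obtain ⟨w, hw, -⟩ := exists_val hG hxy c
  exact ⟨w, hw⟩

/-- a sphere spans the space -/
theorem sphere_top [FiniteDimensional F V] (hG : Good Q) {W : Submodule F V} {c : F} (h : ∀ x, Q x = c → x ∈ W) :
    W = ⊤ := by
  have h1 : perp Q W = ⊥ := (Submodule.eq_bot_iff _).2 fun u hu => by_contra fun h0 => by
    obtain ⟨b, hb, h2⟩ := exists_val_one hG h0 c
    rw [mem_perp'.1 hu b (h b hb)] at h2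
    exact zero_ne_one h2
  have h2 := finrank_add_perp hG.nondeg W
  rw [h1, finrank_bot, add_zero] at h2
  exact Submodule.eq_top_of_finrank_eq h2

theorem exists_irr [Finite F] : ∃ c : F, ∀ t : F, t * t + t + c ≠ 0 := by
  by_contra hc
  push Not at hc
  have h1 : Function.Surjective fun t : F => -(t * t + t) := fun c => by
    obtain ⟨t, ht⟩ := hc c
    exact ⟨t, by linear_combination -ht⟩
  have h2 : (0 : F) = -1 := Finite.injective_iff_surjective.2 h1 (by ring)
  exact one_ne_zero (neg_eq_zero.1 h2.symm)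

theorem Aniso.left {a b : V} (h : Aniso Q a b) : Q a ≠ 0 := fun e =>
  one_ne_zero (h 1 0 (by rw [zero_smul, one_smul, add_zero, e])).1

theorem Aniso.right {a b : V} (h : Aniso Q a b) : Q b ≠ 0 := fun e =>
  one_ne_zero (h 0 1 (by rw [zero_smul, one_smul, zero_add, e])).2

/-- a non-singular vector is the first vector of an anisotropic pair -/
theorem exists_pair [Finite F] (hG : Good Q) {x : V} (hx : Q x ≠ 0) : ∃ b, Aniso Q x b := by
  obtain ⟨c, hc⟩ := exists_irr (F := F)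
  obtain ⟨b, hb, h1⟩ := exists_val_one hG (ne_zero_of hx) (c / Q x)
  refine ⟨b, fun s t h => ?_⟩
  rw [Q_lin, hb, h1] at h
  have ht : t = 0 := by_contra fun ht => hc (Q x * s / t) (by
    have h2 : Q x * s / t * (Q x * s / t) + Q x * s / t + c =
        Q x / (t * t) * (s * s * Q x + t * t * (c / Q x) + s * t * 1) := by
      field_simp
      ring
    rw [h2, h, mul_zero])
  refine ⟨?_, ht⟩
  rw [ht] at h
  have h3 : s * s * Q x = 0 := by linear_combination h
  exact mul_self_eq_zero.1 ((mul_eq_zero.1 h3).resolve_right hx)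

theorem an_span [Finite F] {a b : V} (h : Aniso Q a b) : An Q (Submodule.span F {a, b}) := span_pair_aniso h

theorem left_mem (a b : V) : a ∈ Submodule.span F ({a, b} : Set V) := Submodule.subset_span (by simp)

theorem right_mem (a b : V) : b ∈ Submodule.span F ({a, b} : Set V) := Submodule.subset_span (by simp)

theorem aniso_of_gram {a b a' b' : V} (h : Aniso Q a b) (h1 : Q a' = Q a) (h2 : Q b' = Q b)
    (h3 : polar Q a' b' = polar Q a b) : Aniso Q a' b' := fun s t e => h s t (by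
  rw [Q_lin] at e ⊢
  rwa [h1, h2, h3] at e)

/-- an anisotropic plane is spanned by an anisotropic pair -/
theorem an_pair [Finite F] (hG : Good Q) {P : Submodule F V} (hP : An Q P) :
    ∃ a b, Aniso Q a b ∧ P = Submodule.span F {a, b} := by
  obtain ⟨x, hx⟩ := exists_norm hG 1
  obtain ⟨y, hy⟩ := exists_pair hG (hx ▸ one_ne_zero : Q x ≠ 0)
  obtain ⟨a, b, e, h1, h2, h3⟩ := exists_iso_pair hP.1 hP.2 hy
  exact ⟨a, b, aniso_of_gram hy h1 h2 h3, e⟩

theorem map_pair (g : V ≃ₗ[F] V) (a b : V) :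
    (Submodule.span F {a, b}).map (g : V →ₗ[F] V) = Submodule.span F {g a, g b} := by
  rw [Submodule.map_span, Set.image_pair]
  rfl

theorem trP [Finite F] [FiniteDimensional F V] (hG : Good Q) (hd : 6 ≤ finrank F V) : TrP Q (E Q) := fun P P' hP hP' => by
  obtain ⟨a, b, h, rfl⟩ := an_pair hG hP
  obtain ⟨a', b', rfl, h1, h2, h3⟩ := exists_iso_pair hP'.1 hP'.2 h
  obtain ⟨g, hg, e1, e2⟩ := trans_aniso hG.nondeg hd h h1.symm h2.symm h3.symm
  exact ⟨g, hg, by rw [map_pair, e1, e2]⟩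

/-- two independent vectors of the same norm -/
theorem two_norm [Finite F] (hG : Good Q) {P : Submodule F V} (hP : An Q P) :
    ∃ a ∈ P, ∃ b ∈ P, Q a = Q b ∧ Q a ≠ 0 ∧ b ∉ F ∙ a := by
  have hN := nondeg_res_iff.1 (nondeg_of_aniso hP.1 hP.2)
  obtain ⟨a, d, h, rfl⟩ := an_pair hG hP
  obtain ⟨t, ht⟩ : ∃ t : F, polar Q (t • a + (1 : F) • d) a ≠ 0 := by
    by_contra hc
    push Not at hc
    have h0 := hc 0
    have h1 := hc 1
    rw [zero_smul, zero_add, one_smul] at h0
    rw [one_smul, one_smul, polar_add_left, h0, add_zero] at h1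
    refine ne_zero_of (Aniso.left h) (hN a (left_mem a d) fun y hy => ?_)
    obtain ⟨s, t, rfl⟩ := Submodule.mem_span_pair.1 hy
    rw [polar_add_right, polar_smul_right, polar_smul_right, h1, polar_comm Q a d, h0]
    simp
  have hm : t • a + (1 : F) • d ∈ Submodule.span F ({a, d} : Set V) := Submodule.mem_span_pair.2 ⟨t, 1, rfl⟩
  have hc : Q (t • a + (1 : F) • d) ≠ 0 := fun e => one_ne_zero (h t 1 e).2
  refine ⟨a, left_mem a d, refl Q _ hc a, ?_, (mem_O.1 (refl_mem_O hc) a).symm, Aniso.left h, fun hb => ?_⟩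
  · rw [refl_apply]
    exact Submodule.sub_mem _ (left_mem a d) (Submodule.smul_mem _ _ hm)
  · obtain ⟨s, hs⟩ := Submodule.mem_span_singleton.1 hb
    rw [refl_apply] at hs
    set k := (Q (t • a + (1 : F) • d))⁻¹ * polar Q (t • a + (1 : F) • d) a with hk
    have hk0 : k ≠ 0 := mul_ne_zero (inv_ne_zero hc) ht
    have h2 : (s - 1 + k * t) • a + k • d = 0 := by
      have h3 : (s - 1 + k * t) • a + k • d = s • a - (a - k • (t • a + (1 : F) • d)) := by module
      rw [h3, hs, sub_self]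
    exact hk0 (h _ _ (by rw [h2, QuadraticMap.map_zero])).2

/-- a large non-degenerate subspace orthogonal to a small subspace -/
theorem exists_good [Finite F] [FiniteDimensional F V] (hQ : Nondeg Q) (U : Submodule F V)
    (h : 2 * finrank F U + 5 ≤ finrank F V) : ∃ S : Submodule F V, S ≤ perp Q U ∧ Good (res Q S) := by
  obtain ⟨C, hC⟩ := Submodule.exists_isCompl (perp Q U ⊓ U)
  refine ⟨perp Q U ⊓ C, inf_le_left, good_of_finite (nondeg_res_iff.2 fun x hx hxy => ?_) ?_⟩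
  · have h1 : x ∈ U := by
      rw [← perp_perp hQ U, mem_perp']
      intro y hy
      obtain ⟨r, hr, z, hz, rfl⟩ := Submodule.mem_sup.1 (hC.sup_eq_top ▸ Submodule.mem_top : y ∈ (perp Q U ⊓ U) ⊔ C)
      have h2 : z ∈ perp Q U := by
        have h3 := (perp Q U).sub_mem hy hr.1
        rwa [add_sub_cancel_left] at h3
      rw [polar_add_right, hxy z ⟨h2, hz⟩, mem_perp'.1 hx.1 r hr.2, add_zero]
    have h4 : x ∈ (perp Q U ⊓ U) ⊓ C := ⟨⟨hx.1, h1⟩, hx.2⟩
    rwa [hC.inf_eq_bot, Submodule.mem_bot] at h4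
  · have h1 := Submodule.finrank_sup_add_finrank_inf_eq (perp Q U) C
    have h2 := Submodule.finrank_le (perp Q U ⊔ C)
    have h3 := finrank_add_perp hQ U
    have h4 := Submodule.finrank_add_eq_of_isCompl hC
    have h5 : finrank F ↥(perp Q U ⊓ U) ≤ finrank F U := Submodule.finrank_mono inf_le_right
    omega

/-- an anisotropic pair orthogonal to a small subspace -/
theorem pair_perp [Finite F] [FiniteDimensional F V] (hQ : Nondeg Q) (U : Submodule F V)
    (h : 2 * finrank F U + 5 ≤ finrank F V) : ∃ a ∈ perp Q U, ∃ b ∈ perp Q U, Aniso Q a b := by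
  obtain ⟨S, hS, hG⟩ := exists_good hQ U h
  obtain ⟨x, hx⟩ := exists_norm hG 1
  obtain ⟨y, hy⟩ := exists_pair hG (hx ▸ one_ne_zero : res Q S x ≠ 0)
  exact ⟨x, hS x.2, y, hS y.2, fun s t e => hy s t e⟩

theorem an_perp [Finite F] [FiniteDimensional F V] (hQ : Nondeg Q) (U : Submodule F V)
    (h : 2 * finrank F U + 5 ≤ finrank F V) : ∃ P, An Q P ∧ P ≤ perp Q U := by
  obtain ⟨a, ha, b, hb, h1⟩ := pair_perp hQ U h
  refine ⟨_, an_span h1, Submodule.span_le.2 ?_⟩
  rintro _ (rfl | rfl)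
  exacts [ha, hb]

/-! ### hyperbolic planes -/

/-- the two points lie in the same orbit -/
def Rl (Y : Subgroup (V ≃ₗ[F] V)) (x y : V) : Prop := ∃ g ∈ Y, ∃ a : F, a ≠ 0 ∧ g x = a • y

theorem Rl.symm {Y : Subgroup (V ≃ₗ[F] V)} {x y : V} (h : Rl Y x y) : Rl Y y x := by
  obtain ⟨g, hg, a, ha, e⟩ := h
  refine ⟨g⁻¹, Y.inv_mem hg, a⁻¹, inv_ne_zero ha, g.injective ?_⟩
  rw [map_smul, e, smul_smul, inv_mul_cancel₀ ha, one_smul]
  exact g.apply_symm_apply y

theorem Rl.trans {Y : Subgroup (V ≃ₗ[F] V)} {x y z : V} (h : Rl Y x y) (h' : Rl Y y z) : Rl Y x z := by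
  obtain ⟨g, hg, a, ha, e⟩ := h
  obtain ⟨g', hg', a', ha', e'⟩ := h'
  refine ⟨g' * g, Y.mul_mem hg' hg, a * a', mul_ne_zero ha ha', ?_⟩
  change g' (g x) = _
  rw [e, map_smul, e', smul_smul]

theorem rl_pair (hG : Good Q) {Y : Subgroup (V ≃ₗ[F] V)} (hY : Y ≤ O Q) {x y : V} (h : Hyp Q x y)
    (ht : ∀ s ∈ E Q, ∃ g ∈ Y, (Submodule.span F {x, y}).map (g : V →ₗ[F] V) =
      (Submodule.span F {x, y}).map (s : V →ₗ[F] V)) {e f : V} (h' : Hyp Q e f) :
    (Rl Y x e ∧ Rl Y y f) ∨ (Rl Y x f ∧ Rl Y y e) := by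
  obtain ⟨s, hs, e1, e2⟩ := hG.trans_hyp h h'
  obtain ⟨g, hg, e3⟩ := ht s hs
  rw [map_pair, map_pair, e1, e2] at e3
  obtain ⟨a, b, h1⟩ := Submodule.mem_span_pair.1 (e3 ▸ left_mem (g x) (g y) : g x ∈ Submodule.span F {e, f})
  obtain ⟨c, d, h2⟩ := Submodule.mem_span_pair.1 (e3 ▸ right_mem (g x) (g y) : g y ∈ Submodule.span F {e, f})
  have h3 := h.map (hY hg)
  have h4 := h3.left
  have h5 := h3.right
  have h6 := h3.pair
  rw [← h1, Q_lin, h'.left, h'.right, h'.pair] at h4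
  rw [← h2, Q_lin, h'.left, h'.right, h'.pair] at h5
  rw [← h1, ← h2] at h6
  simp only [polar_add_left, polar_add_right, polar_smul_left, polar_smul_right, h'.polar_left, h'.polar_right, h'.pair,
    h'.pair', smul_eq_mul] at h6
  have h7 : a * b = 0 := by linear_combination h4
  have h8 : c * d = 0 := by linear_combination h5
  have h9 : a * d + b * c = 1 := by linear_combination h6
  rcases mul_eq_zero.1 h7 with rfl | rfl
  · have hb : b ≠ 0 := by
      rintro rfl
      simp at h9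
    have hc : c ≠ 0 := by
      rintro rfl
      simp at h9
    obtain rfl : d = 0 := (mul_eq_zero.1 h8).resolve_left hc
    exact Or.inr ⟨⟨g, hg, b, hb, by rw [← h1, zero_smul, zero_add]⟩, g, hg, c, hc, by rw [← h2, zero_smul, add_zero]⟩
  · have ha : a ≠ 0 := by
      rintro rfl
      simp at h9
    have hd : d ≠ 0 := by
      rintro rfl
      simp at h9
    obtain rfl : c = 0 := (mul_eq_zero.1 h8).resolve_right hd
    exact Or.inl ⟨⟨g, hg, a, ha, by rw [← h1, zero_smul, add_zero]⟩, g, hg, d, hd, by rw [← h2, zero_smul, zero_add]⟩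

theorem tr0 (hG : Good Q) {Y : Subgroup (V ≃ₗ[F] V)} (hY : Y ≤ O Q) {D : Submodule F V} (hD : Hp Q D)
    (ht : ∀ s ∈ E Q, ∃ g ∈ Y, D.map (g : V →ₗ[F] V) = D.map (s : V →ₗ[F] V)) : Tr0 Q Y := by
  obtain ⟨x, y, h, rfl⟩ := hD
  obtain ⟨w, hw, h1, h2⟩ := exists_val hG h (-1)
  have hz : Q (x + w - Q w • y) = 0 := sing_vec h h1 h2
  have hx : Hyp Q x (x + w - Q w • y) := ⟨h.left, hz, by
    rw [polar_sub_right, polar_add_right, polar_smul_right, h.polar_left, h1, h.pair, hw]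
    simp⟩
  have hy : Hyp Q y (x + w - Q w • y) := ⟨h.right, hz, by
    rw [polar_sub_right, polar_add_right, polar_smul_right, h.polar_right, h2, h.pair']
    simp⟩
  have hxy : Rl Y x y := by
    rcases rl_pair hG hY h ht hx with ⟨-, h3⟩ | ⟨-, h3⟩
    · rcases rl_pair hG hY h ht hy with ⟨h4, -⟩ | ⟨h4, -⟩
      · exact h4
      · exact h4.trans h3.symm
    · exact h3.symm
  have key : ∀ e, e ≠ 0 → Q e = 0 → Rl Y x e := fun e he0 he => by
    obtain ⟨f, hf⟩ := exists_hyp hG.nondeg he he0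
    rcases rl_pair hG hY h ht hf with ⟨h3, -⟩ | ⟨-, h3⟩
    · exact h3
    · exact hxy.trans h3
  intro e e' h3 h4 h5 h6
  obtain ⟨g, hg, a, -, e1⟩ := (key e h3 h5).symm.trans (key e' h4 h6)
  exact ⟨g, hg, a, e1⟩

end PlG

/-- **[PL]** -/
theorem boxPl : BoxPl := fun F V _ _ _ _ _ Q m hP => by
  have h1 := hP.dim
  have h2 := hP.five
  refine ⟨PlG.trP hP.good (by omega), fun P h => PlG.two_norm hP.good h, fun P h => nondeg_of_aniso h.1 h.2, fun x hx => ?_,
    fun U hU => PlG.an_perp hP.good.nondeg U (by omega), fun Y D hY hD ht => PlG.tr0 hP.good hY hD ht⟩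
  obtain ⟨b, hb⟩ := PlG.exists_pair hP.good hx
  exact ⟨_, PlG.an_span hb, PlG.left_mem x b⟩

end Cfsg.Agent.SM.Op
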