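import Cfsg.Agent.SM.Op.CnB
import Cfsg.Agent.SM.Op.Pl
import Cfsg.Agent.SM.Op.Dec
import Cfsg.Agent.S5847
import Cfsg.Agent.S5848
import Cfsg.Agent.S0814
import Cfsg.Agent.S0245

/-!
# SM (S3570), socle `PΩ⁺₁₀(q)`: no transitive group in class `S` (helper6)
-/

set_option autoImplicit false
set_option linter.unusedSectionVars false

namespace Cfsg.Agent.SM.Op

open Module QuadraticMap Cfsg Cfsg.Geo
open Cfsg.Agent.LieClassical.OrthCore
open Cfsg.Agent.H884.El (PP exists_ppp)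
open Cfsg.Agent.SM.Oo.S (aut_l2 aut_alt)

namespace Cn

theorem aut_l211 : Nat.card (MulAut (Matrix.ProjectiveSpecialLinearGroup (Fin 2) (ZMod 11))) ∣ 1320 :=
  haveI : Fact (Nat.Prime 11) := ⟨by norm_num⟩
  dvd_of_eq (aut_l2 (p := 11) (f := 1) (by norm_num) le_rfl (ZMod.card 11) (by norm_num))

theorem sp4 {F : Type} [Field F] [Fintype F] (h4 : Fintype.card F % 4 = 1) :
    ¬ Nat.card F ^ (5 - 1) * (Nat.card F ^ 5 - 1) ∣ 2 * (Nat.card F + 1) * Nat.card (MulAut (PSp 2 F)) := fun h => by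
  obtain ⟨p, hc⟩ := CharP.exists F
  obtain ⟨⟨f, hf⟩, hp, hF⟩ := FiniteField.card F p
  have := Fact.mk hp
  obtain ⟨r, hr⟩ := exists_ppp (e := 5) hp hf (by norm_num) (by omega) (by omega)
  replace hF : Fintype.card F = p ^ f := hF
  have hq : Nat.card F = p ^ f := Nat.card_eq_fintype_card.trans hF
  have h1 : 1 < p ^ f := hq ▸ Finite.one_lt_card
  have hr' := hr.of_pow hf
  have hl := hr.lt (by omega)
  have h0 : ∀ i, 0 < i → i ≤ 4 → ¬ r ∣ (p ^ f) ^ i - 1 := fun i h2 h3 k => by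
    have := Nat.le_of_dvd h2 ((hr'.dvd_iff h1.le i).1 k)
    omega
  have h2 : ∀ a, 0 < a → a ≤ 2 * f → ¬ r ∣ a := fun a h2 h3 k => by
    have := Nat.le_of_dvd h2 k
    omega
  have h3 := ((hr'.dvd_iff h1.le 5).2 dvd_rfl).trans ((Dvd.intro_left _ rfl).trans (hq ▸ h))
  have h6 : Nat.card (MulAut (PSp 2 F)) ∣ 2 * 2 * f * ((p ^ f) ^ (2 ^ 2) * ∏ i ∈ Finset.range 2, ((p ^ f) ^ (2 * (i + 1)) - 1)) := by
    rw [S0814.result p f hf hF 2 le_rfl fun _ => by omega, ← S0245.result hF 2]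
    refine mul_dvd_mul (mul_dvd_mul_right (mul_dvd_mul ?_ (Nat.gcd_dvd_left _ _)) _) (Subgroup.card_quotient_dvd_card _)
    split_ifs
    exacts [dvd_rfl, one_dvd _]
  have h5 := h3.trans (mul_dvd_mul_left _ h6)
  simp only [Finset.prod_range_succ, Finset.prod_range_zero, one_mul, hr.prime.dvd_mul] at h5
  rcases h5 with (k | k) | ((k | k) | k) | k | k | k
  · exact h2 2 two_pos (by omega) k
  · exact h0 2 two_pos (by norm_num) (k.trans ⟨p ^ f - 1, by rw [← Nat.sq_sub_sq, one_pow]⟩)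
  · exact h2 2 two_pos (by omega) k
  · exact h2 2 two_pos (by omega) k
  · exact h2 f hf (by omega) k
  · exact hr'.not_dvd (by norm_num) (hr.prime.dvd_of_dvd_pow k)
  · exact h0 _ (by norm_num) (by norm_num) k
  · exact h0 _ (by norm_num) (by norm_num) k

theorem cf5 : CF 10 5 := fun F _ _ Q Y P h h1 h2 ht hP => by
  obtain ⟨Z, hZ, ht', hle, hL⟩ := exists_max h h1 h2 ht
  have hQ := H925.isND_of_nondeg h.good.nondeg
  have hs : ∀ {A : Subgroup (GL (Fin 10) F)}, mx Z = A ⊓ omegaGL (⇑Q) → P ≤ A := fun e =>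
    (hP.le.trans hle).trans (e.le.trans inf_le_left)
  have hd : ∀ {t k : ℕ} {D : Fin t → Submodule F (Fin 10 → F)}, IsNondegenerateMDecomposition (polar Q) k D →
      mx Z = decompositionStabilizer D ⊓ omegaGL (⇑Q) → False := fun hD e =>
    boxDec _ F Q 5 h Z hZ ht' ⟨_, _, _, hD, e.le.trans inf_le_left⟩
  rcases S5847.result (⇑Q) hQ (plus' h) _ hL with ⟨W, k0, k1, -, e⟩ | ⟨-, W, k0, k1, -, -, -, e⟩ | ⟨W, k, -, -, e⟩ |
    ⟨-, W, k, -, -, e⟩ | ⟨W, k, -, e⟩ | ⟨-, v, k, e⟩ | ⟨-, D, k, e⟩ | ⟨-, D, k, e⟩ | ⟨-, D, k, e⟩ | ⟨-, D, k, -, e⟩ |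
    ⟨-, K, k, -, e⟩ | ⟨F₀, r, B, -, k1, k2, -, -, e⟩ | hS
  · exact k_red hP k0 (ne_top h k1) (hs e)
  · exact k_red hP k0 k1 (hs e)
  · exact k_dim hP k two_pos (by decide) (hs e)
  · exact k_dim hP k two_pos (by decide) (hs e)
  · exact k_dim hP k four_pos (by decide) (hs e)
  · exact k_dim hP (finrank_span_singleton (ne_of_Q k)) one_pos (by decide) (hs e)
  · exact hd k.decomp e
  · exact hd k.decomp e
  · exact hd k.decomp e
  · exact hd k e
  · exact H918.not_le_subalgebraNormalizer hP.perfect hP.absIrred le_rfl k (hs e)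
  · exact k_sub hP k1 k2 (hs e)
  · obtain ⟨R, hR, ⟨⟨e⟩, k1, k2, k3⟩ | ⟨⟨e⟩, k1, k2, k3⟩ | ⟨⟨e⟩, k1⟩ | ⟨⟨e⟩, k1⟩⟩ := S5848.result (⇑Q) hQ (plus' h) _ hL hS
    · have k4 := small (b := 8) (l := [1, 2]) (pow_dvd (dvd_aut boxPl h hZ ht' hR e aut_l211)) (by decide) (by decide)
        (by decide)
      have k5 := k1.two_le
      simp only [Nat.card_eq_fintype_card, List.mem_cons, List.not_mem_nil, or_false] at k4
      omega
    · have k4 := small (b := 95) (l := [1, 2, 3, 4, 6, 12])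
        (pow_dvd (dvd_aut boxPl h hZ ht' hR e (dvd_of_eq (aut_alt (by decide) (by decide))))) (by decide) (by decide)
        (by decide +kernel)
      have k5 := k1.two_le
      have k6 := k1.eq_two_or_odd
      simp only [Nat.card_eq_fintype_card, List.mem_cons, List.not_mem_nil, or_false] at k4
      omega
    · have k4 := dvd_aut boxPl h hZ ht' hR e (dvd_of_eq (aut_alt (by decide) (by decide)))
      rw [Nat.card_eq_fintype_card, k1] at k4
      exact absurd k4 (by decide +kernel)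
    · exact sp4 k1 (dvd_aut boxPl h hZ ht' hR e dvd_rfl)

end Cn

/-- **[C10]** -/
theorem boxC5 : BoxC 5 := Cn.box_of rfl Cn.cf5

theorem boxC5_of (_ : BoxRho) (_ : BoxDec) : BoxC 5 := boxC5

end Cfsg.Agent.SM.Op
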