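import Cfsg.Agent.SM.Om.Alt

/-!
# SM / Op: the symmetric group of degree 13 has no subgroup of index 88452 or 176904 (helper38)
-/

set_option autoImplicit false

namespace Cfsg.Agent.SM.Op.Cn

open Equiv Equiv.Perm MulAction Cfsg.Agent.SM.Om

/-- a subgroup of index prime to `p` contains a conjugate of every element of order `p` -/
theorem exists_conj_mem {G : Type*} [Group G] [Finite G] (U : Subgroup G) {p : ℕ} (hp : p.Prime) (hU : ¬ p ∣ U.index) {c : G}
    (hc : orderOf c = p) : ∃ g : G, g⁻¹ * c * g ∈ U := by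
  have := Fact.mk hp
  have h1 : IsPGroup p (Subgroup.zpowers c) := IsPGroup.of_card (n := 1) (by rw [Nat.card_zpowers, hc, pow_one])
  obtain ⟨x, hx⟩ := h1.nonempty_fixed_point_of_prime_not_dvd_card (G ⧸ U) hU
  obtain ⟨g, rfl⟩ := QuotientGroup.mk_surjective x
  have h2 : ((c * g : G) : G ⧸ U) = g := hx ⟨c, Subgroup.mem_zpowers c⟩
  have h3 := QuotientGroup.eq.1 h2.symm
  exact ⟨g, by rwa [mul_assoc]⟩

theorem no13_aux (U : Subgroup (Perm (Fin 13))) (h11 : 11 ∣ Nat.card U) (h5 : ¬ 5 ∣ U.index) : 7 ∣ Nat.card U := by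
  obtain ⟨Γ, h, h1, h2, -⟩ := Al.exists_orb U (p := 11) (by norm_num) h11 (by simp)
  have hc : (Fin.cycleRange (4 : Fin 13)).IsCycle := Fin.isCycle_cycleRange (by decide)
  have hs : (Fin.cycleRange (4 : Fin 13)).support.card = 5 := by decide +kernel
  obtain ⟨g, hg⟩ := exists_conj_mem U (p := 5) (by norm_num) h5 (hc.orderOf.trans hs)
  have e : g⁻¹ * Fin.cycleRange (4 : Fin 13) * g = g⁻¹ * Fin.cycleRange (4 : Fin 13) * g⁻¹⁻¹ := by rw [inv_inv]
  have hy : (g⁻¹ * Fin.cycleRange (4 : Fin 13) * g).IsCycle := by rw [e]; exact hc.conj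
  have hys : (g⁻¹ * Fin.cycleRange (4 : Fin 13) * g).support.card = 5 := by rw [e, card_support_conj, hs]
  generalize g⁻¹ * Fin.cycleRange (4 : Fin 13) * g = y at hg hy hys
  have ho : orderOf (⟨y, hg⟩ : U) = 5 := by rw [Subgroup.orderOf_mk, hy.orderOf, hys]
  have h3 : orderOf (Al.res h ⟨y, hg⟩) = 5 :=
    ((Nat.dvd_prime (by norm_num)).1 (ho ▸ orderOf_map_dvd (Al.res h) ⟨y, hg⟩)).resolve_left fun e => by
      have h4 : y.support ⊆ Γᶜ := fun x hx => Finset.mem_compl.2 fun k =>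
        mem_support.1 hx (congrArg (fun σ : Perm {x // x ∈ Γ} => (σ ⟨x, k⟩ : Fin 13)) (orderOf_eq_one_iff.1 e))
      have h5 := Finset.card_le_card h4
      rw [Finset.card_compl, hys, Fintype.card_fin] at h5
      omega
  have h4 : (Al.res h ⟨y, hg⟩).support.card ≤ 5 := by
    rw [← hys]
    refine Finset.card_le_card_of_injOn Subtype.val (fun x hx => ?_) Subtype.val_injective.injOn
    exact Finset.mem_coe.2 (mem_support.2 fun k => mem_support.1 (Finset.mem_coe.1 hx) (Subtype.ext k))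
  have h6 := isCycle_of_prime_order (σ := Al.res h ⟨y, hg⟩) (by rw [h3]; norm_num) (by rw [h3]; omega)
  have h7 := S0713.result _ h2 (p := 5) (by norm_num) (by rw [Fintype.card_coe]; omega) (by rw [Fintype.card_coe]; omega) h6
    (h6.orderOf.symm.trans h3) ⟨_, rfl⟩
  have h8 := (Nat.dvd_factorial (by norm_num) (show 7 ≤ Γ.card by omega)).trans (Al.fact_dvd (by omega) h7)
  exact (Nat.Coprime.dvd_mul_left (by norm_num)).1 h8

theorem no13 (U : Subgroup (Equiv.Perm (Fin 13))) : U.index ≠ 88452 ∧ U.index ≠ 176904 := by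
  have h1 := U.index_mul_card
  rw [Nat.card_perm, Nat.card_eq_fintype_card (α := Fin 13), Fintype.card_fin,
    show Nat.factorial 13 = 6227020800 by decide] at h1
  refine ⟨fun e => ?_, fun e => ?_⟩ <;>
  · have h2 := no13_aux U (by rw [e] at h1; omega) (by rw [e]; norm_num)
    rw [e] at h1
    omega

end Cfsg.Agent.SM.Op.Cn
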