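import Cfsg.Agent.SM.Op.Defs
import Cfsg.Agent.H826.RgF.Tools
import Cfsg.Agent.H884.ElRows
import Cfsg.Agent.H954.TSing9
import Cfsg.Agent.H955.QMinus

/-!
# SM / Op: `boxRho` (helper38)

An element of `O(Q)` of prime order `r` without fixed object shows that `r` divides the number of objects.
-/

set_option autoImplicit false
set_option linter.unusedSectionVars false

namespace Cfsg.Agent.SM.Op

open Module QuadraticMap Cfsg Cfsg.Geo
open Cfsg.Agent.LieClassical.OrthCore Cfsg.Agent.LieClassical.OrthTrans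
open Cfsg.Agent.H826.RgF
open Cfsg.Agent.H955 (IsPlus perp res)
open Cfsg.Agent.H884.El
open Cfsg.Agent.H951 (fx cm)
open scoped Pointwise

namespace R9

/-- a transitive group and a fixed point free element of prime order -/
theorem dvd_of_free {G α : Type*} [Group G] [MulAction G α] [Finite α] (Y : Subgroup G) (T : Set α) {a : α} (ha : a ∈ T)
    (hY : ∀ g ∈ Y, ∀ b ∈ T, g • b ∈ T) (htr : ∀ b ∈ T, ∃ g ∈ Y, g • a = b) {x : G} {r : ℕ} (hr : r.Prime) (hx : x ^ r = 1)
    (hxT : ∀ b, x • b ∈ T ↔ b ∈ T) (hfree : ∀ b ∈ T, x • b ≠ b) : r ∣ Nat.card Y := by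
  classical
  have h1 : MulAction.orbit Y a = T := by
    ext b
    constructor
    · rintro ⟨g, rfl⟩
      exact hY g g.2 a ha
    · intro hb
      obtain ⟨g, hg, e⟩ := htr b hb
      exact ⟨⟨g, hg⟩, e⟩
  have h2 : T.ncard ∣ Nat.card Y := by
    rw [← h1, ← MulAction.index_stabilizer]
    exact Subgroup.index_dvd_card _
  refine Dvd.dvd.trans ?_ h2
  by_contra h3
  have := Fact.mk hr
  have := Fintype.ofFinite T
  let σ : Equiv.Perm T := (MulAction.toPermHom G α x).subtypePerm hxT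
  have hσ : σ ^ r ^ 1 = 1 := by
    rw [pow_one]
    refine (Equiv.Perm.subtypePerm_pow _ r hxT).trans ?_
    ext b
    show ((MulAction.toPermHom G α x) ^ r) b = b
    rw [← map_pow, hx, map_one]
    rfl
  obtain ⟨b, hb⟩ := Equiv.Perm.exists_fixed_point_of_prime
    (by rwa [← Nat.card_eq_fintype_card, Nat.card_coe_set_eq]) hσ
  exact hfree b b.2 (congrArg Subtype.val hb)

variable {F V : Type} [Field F] [AddCommGroup V] [Module F V] {Q : QuadraticForm F V}

theorem smul_eq (g : V ≃ₗ[F] V) (W : Submodule F V) : g • W = W.map (g : V →ₗ[F] V) := rfl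

theorem smul_pt (g : V ≃ₗ[F] V) (v : V) : g • (F ∙ v) = F ∙ g v := by
  rw [smul_eq, Submodule.map_span, Set.image_singleton]
  rfl

theorem An.map {P : Submodule F V} (h : An Q P) {g : V ≃ₗ[F] V} (hg : g ∈ O Q) : An Q (g • P) := by
  refine ⟨by rw [smul_eq, LinearEquiv.finrank_map_eq, h.1], ?_⟩
  rintro _ ⟨x, hx, rfl⟩ h0
  have h1 : Q (g x) = 0 := h0
  rw [mem_O.1 hg] at h1
  rw [h.2 x hx h1, map_zero]

theorem Q_comb (u v : V) (s t : F) : Q (s • u + t • v) = s ^ 2 * Q u + polar Q u v * s * t + Q v * t ^ 2 := by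
  rw [Q_add, QuadraticMap.map_smul, QuadraticMap.map_smul, polar_smul_left, polar_smul_right]
  simp only [smul_eq_mul]
  ring

theorem an_span {a b : F} (hab : ∀ z₁ z₂ : F, z₁ ^ 2 + a * z₁ * z₂ + b * z₂ ^ 2 = 0 → z₁ = 0 ∧ z₂ = 0) {u v : V}
    (hu : Q u = 1) (hv : Q v = b) (huv : polar Q u v = a) : An Q (Submodule.span F {u, v}) := by
  have key : ∀ s t : F, Q (s • u + t • v) = 0 → s = 0 ∧ t = 0 := fun s t h => by
    rw [Q_comb, hu, hv, huv, mul_one] at h
    exact hab s t h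
  constructor
  · have h1 : LinearIndependent F ![u, v] := LinearIndependent.pair_iff.2 fun s t h => key s t (by rw [h, map_zero])
    have h2 := finrank_span_eq_card h1
    rw [Matrix.range_cons, Matrix.range_cons, Matrix.range_empty, Set.union_empty, Set.singleton_union] at h2
    simpa using h2
  · intro x hx h0
    obtain ⟨s, t, rfl⟩ := Submodule.mem_span_pair.1 hx
    obtain ⟨h1, h2⟩ := key s t h0
    rw [h1, h2, zero_smul, zero_smul, add_zero]

theorem exists_norm (hG : Good Q) (c : F) : ∃ x, Q x = c := by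
  obtain ⟨e, f, h⟩ := hG.exists_hyp
  exact ⟨(1 : F) • e + c • f, by rw [Q_comb, h.left, h.right, h.pair]; ring⟩

theorem exists_pair (hG : Good Q) (a b : F) : ∃ u v, Q u = 1 ∧ Q v = b ∧ polar Q u v = a := by
  obtain ⟨e, f, h⟩ := hG.exists_hyp
  obtain ⟨x, y, h', h1, h2, h3, h4⟩ := hG.exists_hyp2 h
  refine ⟨e + f, a • e + (x + b • y), ?_, ?_, ?_⟩
  · rw [Q_add, h.left, h.right, h.pair]
    simp
  · rw [Q_add, Q_add]
    simp only [QuadraticMap.map_smul, polar_add_right, polar_smul_left, polar_smul_right, h.left, h'.left, h'.right,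
      h'.pair, h1, h2, smul_eq_mul]
    ring
  · simp only [polar_add_left, polar_add_right, polar_smul_right, h.polar_left, h.pair', h1, h2, h3, h4, smul_eq_mul]
    ring

theorem exists_an [Finite F] (hG : Good Q) : ∃ P, An Q P := by
  obtain ⟨a, b, hab⟩ := H955.exists_aniso_coeff F
  obtain ⟨u, v, h1, h2, h3⟩ := exists_pair hG a b
  exact ⟨_, an_span hab h1 h2 h3⟩

variable [Fintype F] [FiniteDimensional F V] {m : ℕ}

theorem exists_odd (h : Pl Q m) {e r : ℕ} (hr : PP (Nat.card F) e r) (he : Odd e) (he2 : 2 ≤ e) (hem : e ≤ m) :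
    ∃ x ∈ O Q, x ^ r = 1 ∧ x ≠ 1 ∧ finrank F (cm (x : Module.End F V)) = 2 * e := by
  have := Fact.mk hr.prime
  have hlt := hr.lt (by omega)
  have ho := ord_eq hr
  obtain ⟨x, hx, h1, h2, h3, -⟩ := H954.TSing.exists_sharp_odd (Q := Q) (r := r) (A := 1) (by omega) (hr.ne0 (by omega))
    (by rw [ho]; exact he) h.good.nondeg le_rfl (Or.inl ⟨by rw [h.dim]; exact even_two_mul m, by
      rw [ho, h.dim, mul_one]
      rcases hem.lt_or_eq with h4 | h4
      · left; omega
      · right; exact ⟨by omega, h.plus⟩⟩)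
  exact ⟨x, hx, h1, h2, by rw [H954.TSing.cm_coe, h3, ho, mul_one]⟩

theorem exists_full (h : Pl Q m) {r : ℕ} (hr : PP (Nat.card F) m r) :
    ∃ x ∈ O Q, x ^ r = 1 ∧ finrank F (cm (x : Module.End F V)) = 2 * m := by
  have h5 := h.five
  rcases Nat.even_or_odd m with he | he
  · have := Fact.mk hr.prime
    have hlt := hr.lt (by omega)
    have ho := ord_eq hr
    obtain ⟨x, hx, h1, -, h3, -⟩ := H954.TSing.exists_sharp (Q := Q) (r := r) (A := 2) (by omega) (hr.ne0 (by omega))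
      (by rw [ho]; exact he) h.good.nondeg (by omega) (Or.inl ⟨by rw [h.dim]; exact even_two_mul m, by
        rw [ho, h.dim]
        exact Or.inr ⟨by omega, iff_of_true h.plus even_two⟩⟩)
    exact ⟨x, hx, h1, by rw [H954.TSing.cm_coe, h3, ho, mul_comm]⟩
  · obtain ⟨x, hx, h1, -, h3⟩ := exists_odd h hr he (by omega) le_rfl
    exact ⟨x, hx, h1, h3⟩

theorem iff_of_O {T : Set (Submodule F V)} (hT : ∀ g ∈ O Q, ∀ b ∈ T, g • b ∈ T) {x : V ≃ₗ[F] V} (hx : x ∈ O Q)
    (b : Submodule F V) : x • b ∈ T ↔ b ∈ T :=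
  ⟨fun h => by simpa using hT x⁻¹ (inv_mem hx) _ h, hT x hx b⟩

theorem inv_of_smul {x : V ≃ₗ[F] V} {W : Submodule F V} (h : x • W = W) : ∀ w ∈ W, x w ∈ W := fun w hw => by
  rw [← h]
  exact ⟨w, hw, rfl⟩

end R9

open R9

theorem boxRho : BoxRho := by
  intro F V _ _ _ _ _ Q m h Y hY
  have h5 := h.five
  have hV : Finite V := Module.finite_of_finite F
  have hS : Finite (Submodule F V) := Finite.of_injective _ SetLike.coe_injective
  have hq : 2 ≤ Nat.card F := Finite.one_lt_card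
  refine ⟨fun c hc htr h6 => ?_, fun htr => ?_⟩
  · obtain ⟨r, hr⟩ := exists_pp hq (by omega : 3 ≤ m) h6
    refine ⟨r, hr, hr.lt (by omega), el_of_dvd hr.prime ?_⟩
    obtain ⟨x, hx, hxr, hcm⟩ := exists_full h hr
    obtain ⟨v, hv⟩ := exists_norm h.good c
    have hT : ∀ g ∈ O Q, ∀ b ∈ {W : Submodule F V | ∃ w, Q w = c ∧ W = F ∙ w}, g • b ∈ {W : Submodule F V | ∃ w, Q w = c ∧ W = F ∙ w} := by
      rintro g hg _ ⟨w, hw, rfl⟩
      exact ⟨g w, by rw [mem_O.1 hg, hw], smul_pt g w⟩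
    refine dvd_of_free Y {W : Submodule F V | ∃ w, Q w = c ∧ W = F ∙ w} (a := F ∙ v) ⟨v, hv, rfl⟩ (fun g hg => hT g (hY hg)) ?_ hr.prime hxr (iff_of_O hT hx) ?_
    · rintro _ ⟨w, hw, rfl⟩
      obtain ⟨g, hg, e | e⟩ := htr v w hv hw
      · exact ⟨g, hg, by rw [smul_pt, e]⟩
      · exact ⟨g, hg, by rw [smul_pt, e, ← neg_one_smul F w, Submodule.span_singleton_smul_eq isUnit_one.neg]⟩
    · rintro _ ⟨w, hw, rfl⟩ e
      have hw0 : w ≠ 0 := fun h0 => hc (by rw [← hw, h0, map_zero])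
      have h1 := le_fx hr (by omega) hx hxr (inv_of_smul e) (by rw [finrank_span_singleton hw0]; omega)
      have h2 := (iso_of hr (by omega) hx hxr).finrank_add
      have h3 := Submodule.finrank_mono h1
      rw [finrank_span_singleton hw0] at h3
      rw [hcm, h.dim] at h2
      omega
  · obtain ⟨e, he, he1, he2, he3⟩ : ∃ e, Odd e ∧ m ≤ e + 1 ∧ e ≤ m ∧ 5 ≤ e := by
      rcases Nat.even_or_odd m with ⟨k, hk⟩ | hm
      · exact ⟨m - 1, ⟨k - 1, by omega⟩, by omega, by omega, by omega⟩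
      · exact ⟨m, hm, by omega, le_rfl, h5⟩
    obtain ⟨r, hr⟩ := exists_pp hq (by omega : 3 ≤ e) (fun h6 => by rw [h6.2] at he; exact absurd he (by decide))
    have h7 := Nat.le_of_dvd (by have := hr.lt (by omega); omega) (hr.two_mul_dvd (by omega) he)
    refine ⟨e, r, hr, he1, by omega, el_of_dvd hr.prime ?_⟩
    obtain ⟨x, hx, hxr, hx1, hcm⟩ := exists_odd h hr he (by omega) he2
    obtain ⟨P, hP⟩ := exists_an h.good
    have hT : ∀ g ∈ O Q, ∀ b ∈ {W : Submodule F V | An Q W}, g • b ∈ {W : Submodule F V | An Q W} :=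
      fun g hg b hb => An.map hb hg
    refine dvd_of_free Y {W : Submodule F V | An Q W} (a := P) hP (fun g hg => hT g (hY hg)) (fun b hb => htr P b hP hb) hr.prime hxr
      (iff_of_O hT hx) ?_
    intro W hW e1
    have hW' : An Q W := hW
    have hiso := iso_of hr (by omega) hx hxr
    have h1 := le_fx hr (by omega) hx hxr (inv_of_smul e1) (by rw [hW'.1]; omega)
    have h2 := hiso.finrank_add
    rw [hcm, h.dim] at h2
    have h3 : W = fx (x : Module.End F V) := Submodule.eq_of_le_of_finrank_le h1 (by rw [hW'.1]; omega)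
    have hx1' : (x : Module.End F V) ≠ 1 := fun h0 => hx1 (LinearEquiv.ext fun v => LinearMap.congr_fun h0 v)
    obtain ⟨-, h4, -⟩ := hiso.odd_case h.good.nondeg hx1' hr he (by rw [h.dim]; omega)
    have h6 := (H955.isPlus_iff_perp h.good.nondeg (nondeg_cm' h.good.nondeg hr (by omega) hx hxr)
      (by rw [h.dim]; exact even_two_mul m) (by rw [hcm]; exact even_two_mul e)).1 h.plus
    rw [perp_cm' h.good.nondeg hr (by omega) hx hxr, ← h3] at h6
    exact H955.not_isPlus_of_aniso (fun v hv => Subtype.ext (hW'.2 v v.2 hv)) (by rw [hW'.1]; omega) (h6.1 h4)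

end Cfsg.Agent.SM.Op
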