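import Cfsg.Agent.SM.Op.CnC
import Cfsg.Agent.SM.Op.CnS
import Cfsg.Agent.SM.Op.Rho
import Cfsg.Agent.S5871
import Cfsg.Agent.S5872
import Cfsg.Agent.S2061
import Cfsg.Agent.MTwelveType.SylowModel

/-!
# SM (S3570), socle `PΩ⁺₁₂(q)`: no transitive group in class `S` (helper6)
-/

set_option autoImplicit false
set_option linter.unusedSectionVars false

namespace Cfsg.Agent.SM.Op

open Module QuadraticMap Cfsg Cfsg.Geo
open Cfsg.Agent.LieClassical.OrthCore
open Cfsg.Agent.LieClassical.OrthFinite (glEquiv)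
open Cfsg.Agent.H884.El (PP)
open Cfsg.Agent.H826.RgF (El)
open Cfsg.Agent.SM.Oo.S (aut_l2 aut_alt aut_l33)

namespace Cn

theorem aut_l213 : Nat.card (MulAut (Matrix.ProjectiveSpecialLinearGroup (Fin 2) (ZMod 13))) ∣ 2184 :=
  haveI : Fact (Nat.Prime 13) := ⟨by norm_num⟩
  dvd_of_eq (aut_l2 (p := 13) (f := 1) (by norm_num) le_rfl (ZMod.card 13) (by norm_num))

theorem aut_m12 : Nat.card (MulAut ↥Spor.M12) ∣ 190080 := by
  rw [Subgroup.card_eq_card_quotient_mul_card_subgroup (Inn ↥Spor.M12), show (190080 : ℕ) = 2 * 95040 by norm_num]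
  refine mul_dvd_mul (dvd_of_eq S2061.result) ?_
  rw [← MTwelveType.SylowModel.card_M12]
  exact Subgroup.card_range_dvd _

theorem a13 {n : ℕ} {U R : Subgroup (MulAut (alternatingGroup (Fin 13)))} (h1 : Nb 3 6 n)
    (h2 : U.index = n * R.index) (h3 : Nat.card (alternatingGroup (Fin 13)) ≤ Nat.card R) : False := by
  have hA : Nat.card (MulAut (alternatingGroup (Fin 13))) = 6227020800 := aut_alt (by decide) (by decide)
  have h4 : n ∣ 6227020800 := (Dvd.intro _ h2.symm).trans (hA ▸ U.index_dvd_card)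
  rcases h1 with (k | ⟨-, k⟩) | ⟨k, k1, k2⟩
  · have h5 := R.card_mul_index
    have h6 : Nat.card (alternatingGroup (Fin 13)) = 3113510400 := by
      have := two_mul_nat_card_alternatingGroup (α := Fin 13)
      rw [Nat.card_perm, Nat.card_fin, show Nat.factorial 13 = 6227020800 from rfl] at this
      omega
    have h7 : R.index ≤ 2 := by
      by_contra h7
      have := Nat.mul_le_mul h3 (not_le.1 h7)
      omega
    have h8 : R.index ≠ 0 := fun e => by
      rw [e] at h5
      omega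
    have h9 := no13 (U.comap MulAut.conjNormal)
    rw [Subgroup.index_comap_of_surjective _ (S2119.result 13 (by decide) (by decide)).2, h2,
      show n = 88452 by omega] at h9
    omega
  · exact k rfl
  · rcases k2 rfl with k2 | k2
    · exact absurd ((show 61 ∣ n by omega).trans h4) (by decide)
    · exact absurd ((show 121 ∣ n by omega).trans h4) (by decide)

theorem cf6 : CF 12 6 := fun F _ _ Q Y P h h1 h2 ht hP => by
  obtain ⟨Z, hZ, ht', hle, hL⟩ := exists_max h h1 h2 ht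
  have hQ := H925.isND_of_nondeg h.good.nondeg
  have hq : 1 < Fintype.card F := Fintype.one_lt_card
  have hs : ∀ {A : Subgroup (GL (Fin 12) F)}, mx Z = A ⊓ omegaGL (⇑Q) → P ≤ A := fun e =>
    (hP.le.trans hle).trans (e.le.trans inf_le_left)
  have hd : ∀ {t k : ℕ} {D : Fin t → Submodule F (Fin 12 → F)}, IsNondegenerateMDecomposition (polar Q) k D →
      mx Z = decompositionStabilizer D ⊓ omegaGL (⇑Q) → False := fun hD e =>
    boxDec _ F Q 6 h Z hZ ht' ⟨_, _, _, hD, e.le.trans inf_le_left⟩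
  rcases S5871.result (⇑Q) hQ (plus' h) _ hL with ⟨W, k0, k1, -, e⟩ | ⟨-, W, k0, k1, -, -, -, e⟩ | ⟨W, k, -, -, e⟩ |
    ⟨-, W, k, -, -, e⟩ | ⟨W, k, -, e⟩ | ⟨-, v, k, e⟩ | ⟨-, D, k, e⟩ | ⟨-, D, k, -, e⟩ | ⟨-, D, k, -, e⟩ | ⟨-, -, D, k, e⟩ |
    ⟨-, D, k, e⟩ | ⟨D, k, e⟩ | ⟨D, k, -, e⟩ | ⟨K, k, e⟩ | ⟨K, k, e⟩ | ⟨K, k, -, -, -, e⟩ |
    ⟨k, ε, B, -, -, -, -, -, -, e⟩ | ⟨F₀, r, B, -, k1, k2, -, -, e⟩ | hS
  · exact k_red hP k0 (ne_top h k1) (hs e)
  · exact k_red hP k0 k1 (hs e)
  · exact k_dim hP k two_pos (by decide) (hs e)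
  · exact k_dim hP k two_pos (by decide) (hs e)
  · exact k_dim hP k four_pos (by decide) (hs e)
  · exact k_dim hP (finrank_span_singleton (ne_of_Q k)) one_pos (by decide) (hs e)
  · exact hd k.decomp e
  · exact hd k.decomp e
  · exact hd k.decomp e
  · exact hd k.decomp e
  · exact hd k.decomp e
  · exact hd k.decomp e
  · exact k_pair hP k (by decide) (hs e)
  · exact H918.not_le_subalgebraNormalizer hP.perfect hP.absIrred le_rfl k (hs e)
  · exact H918.not_le_subalgebraNormalizer hP.perfect hP.absIrred (by decide) k (hs e)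
  · exact H918.not_le_subalgebraNormalizer hP.perfect hP.absIrred le_rfl k (hs e)
  · obtain ⟨d, r, k1, k2, g, hg, ho⟩ : ∃ d r, PP (Nat.card F) d r ∧ 3 ≤ d ∧ El Y r := by
      have hR := boxRho F _ Q 6 h Y (h1.trans E_le_O)
      rcases ht with ⟨c, hc, ht⟩ | ht
      · obtain ⟨r, k1, -, k2⟩ := hR.1 c hc ht fun k1 => by
          rw [Nat.card_eq_fintype_card] at k1
          omega
        exact ⟨6, r, k1, by decide, k2⟩
      · obtain ⟨d, r, k1, k2, -, k3⟩ := hR.2 ht
        exact ⟨d, r, k1, by omega, k3⟩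
    obtain ⟨g, rfl⟩ := (glEquiv (Fin 12) F).surjective g
    exact k_tens hP (by decide) (hle.trans (e.le.trans inf_le_left)) k1 k2 (y := g) hg
      ((MulEquiv.orderOf_eq _ g).symm.trans ho)
  · exact k_sub hP k1 k2 (hs e)
  · obtain ⟨R, p, hR, hp, -, ⟨⟨e⟩, -⟩ | ⟨⟨e⟩, -⟩ | ⟨⟨e⟩, k1, -, -, k2, -⟩ | ⟨⟨e⟩, k1, k2⟩ | ⟨⟨e⟩, k1, k2⟩⟩ :=
      S5872.result (⇑Q) hQ (plus' h) _ hL hS
    · have k4 := small (b := 5) (l := [1]) (pow_dvd (dvd_aut boxPl h hZ ht' hR e aut_l211)) (by decide) (by decide)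
        (by decide)
      simp only [Nat.card_eq_fintype_card, List.mem_cons, List.not_mem_nil, or_false] at k4
      omega
    · have k4 := small (b := 6) (l := [1]) (pow_dvd (dvd_aut boxPl h hZ ht' hR e aut_l213)) (by decide) (by decide)
        (by decide)
      simp only [Nat.card_eq_fintype_card, List.mem_cons, List.not_mem_nil, or_false] at k4
      omega
    · have k4 := small (b := 9) (l := [1, 2]) (pow_dvd (dvd_aut boxPl h hZ ht' hR e aut_l33)) (by decide) (by decide)
        (by decide)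
      simp only [Nat.card_eq_fintype_card, List.mem_cons, List.not_mem_nil, or_false] at k4
      omega
    · have k4 := small (b := 14) (l := [1, 2]) (pow_dvd (dvd_aut boxPl h hZ ht' hR e aut_m12)) (by decide) (by decide)
        (by decide)
      simp only [Nat.card_eq_fintype_card, List.mem_cons, List.not_mem_nil, or_false] at k4
      omega
    · have k4 := small (b := 105) (l := [1, 2, 3, 4, 6, 12])
        (pow_dvd (dvd_aut boxPl h hZ ht' hR e (dvd_of_eq (aut_alt (by decide) (by decide))))) (by decide) (by decide)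
        (by decide +kernel)
      have k5 := hp.eq_two_or_odd
      simp only [Nat.card_eq_fintype_card, List.mem_cons, List.not_mem_nil, or_false] at k4
      obtain ⟨n, U, R', k6, k7, k8⟩ := exists_U boxPl h hZ ht' hR e
      rw [Nat.card_eq_fintype_card, show Fintype.card F = 3 by omega] at k6
      exact a13 k6 k7 k8

end Cn

/-- **[C12]** -/
theorem boxC6 : BoxC 6 := Cn.box_of rfl Cn.cf6

theorem boxC6_of (_ : BoxRho) (_ : BoxDec) : BoxC 6 := boxC6

end Cfsg.Agent.SM.Op
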