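import Cfsg.Agent.SM.Op.Fr
import Cfsg.Agent.H883.Bridge
import Cfsg.Agent.H621.EP.OrdO
import Cfsg.Agent.H955.QClass

/-!
# SM / Op: the bridges to the matrix groups (`CS1`, `CS2`, `CoRow`) and to the permutation groups (helper57)
-/

set_option autoImplicit false
set_option linter.unusedSectionVars false
set_option linter.style.haveILetI false

namespace Cfsg.Agent.SM.Op

open Module QuadraticMap Cfsg Cfsg.Geo Subgroup
open Cfsg.Agent.LieClassical.OrthCore Cfsg.Agent.LieClassical.OrthTrans Cfsg.Agent.ClassicalGeometry.OrthSemi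
open Cfsg.Agent.LieClassical.OrthFinite (glEquiv glEquiv_apply)
open Cfsg.Agent.LieClassical.OrthForms (plusForm coe_plusForm)
open Cfsg.Agent.H449.Reg (img lg Psi_lg)
open Cfsg.Agent.H883.Bridge (mem_omegaGL_iff isNondegenerateQuadraticForm mem_stab_of_le)
open scoped MatrixGroups Matrix

section mat

variable {ι F : Type} [Fintype ι] [DecidableEq ι] [Field F] [Fintype F] {Q : QuadraticForm F (ι → F)} {m : ℕ}
  {M H T B X : Subgroup (Au Q)} {W : Submodule F (ι → F)}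

theorem mem_mx {Y : Subgroup ((ι → F) ≃ₗ[F] (ι → F))} {g : GL ι F} : g ∈ mx Y ↔ glEquiv ι F g ∈ Y := Iff.rfl

/-- `Ω` on matrices -/
noncomputable def gE (hG : Good Q) : omegaGL (⇑Q) →* E Q :=
  ((glEquiv ι F).toMonoidHom.comp (omegaGL (⇑Q)).subtype).codRestrict (E Q) fun g => (mem_omegaGL_iff hG g.1).1 g.2

theorem gE_surj (hG : Good Q) (g : ↥(E Q)) : ∃ x, gE hG x = g :=
  ⟨⟨(glEquiv ι F).symm g.1, (mem_omegaGL_iff hG _).2 (by rw [MulEquiv.apply_symm_apply]; exact g.2)⟩,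
    Subtype.ext ((glEquiv ι F).apply_symm_apply g.1)⟩

/-- `Ω → Aut (PΩ)` on matrices -/
noncomputable def pi0 (hG : Good Q) : omegaGL (⇑Q) →* Au Q := (ps Q).comp (gE hG)

theorem pi0_eq_one (hG : Good Q) (g : omegaGL (⇑Q)) : pi0 hG g = 1 ↔ (g : GL ι F) ∈ scalars ι F := by
  refine (psi_eq_one_iff hG (γ := lg (gE hG g))).trans ?_
  rw [mem_scalars_iff]
  constructor
  · rintro ⟨c, h0, hc⟩
    exact ⟨Units.mk0 c h0, Matrix.toLin'.injective (LinearMap.ext fun v => by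
      rw [Matrix.toLin'_apply, Matrix.toLin'_apply, Matrix.smul_mulVec, Matrix.one_mulVec]
      exact hc v)⟩
  · rintro ⟨c, hc⟩
    refine ⟨c, c.ne_zero, fun v => ?_⟩
    show (g.1 : Matrix ι ι F) *ᵥ v = _
    rw [hc, Matrix.smul_mulVec, Matrix.one_mulVec]

theorem cov0 (hG : Good Q) : CS.Cov (omegaGL (⇑Q)) (pi0 hG) (inn Q) :=
  ⟨Subgroup.ext fun _ => ⟨fun ⟨g, e⟩ => ⟨gE hG g, e⟩, fun ⟨g, e⟩ => by
    obtain ⟨x, rfl⟩ := gE_surj hG g
    exact ⟨x, e⟩⟩, pi0_eq_one hG⟩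

theorem pre_eq (hG : Good Q) {Γ : Type} [Group Γ] {π : omegaGL (⇑Q) →* Γ} {Z : Subgroup Γ}
    (h : ∀ g, π g ∈ Z ↔ pi0 hG g ∈ X) : CS.pre π Z = mx (l0 X) := by
  ext g
  constructor
  · rintro ⟨x, hx, rfl⟩
    exact (mem_l0' (g := gE hG x)).2 ((h x).1 hx)
  · intro hg
    have h1 : g ∈ omegaGL (⇑Q) := (mem_omegaGL_iff hG g).2 (l0_le_E hg)
    exact ⟨⟨g, h1⟩, (h _).2 ((mem_l0' (g := gE hG ⟨g, h1⟩)).1 hg), rfl⟩

theorem pre0 (hG : Good Q) (X : Subgroup (Au Q)) : CS.pre (pi0 hG) X = mx (l0 X) := pre_eq hG fun _ => Iff.rfl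

theorem mx_eq (hG : Good Q) (h1 : Fx X W) (h2 : ∀ g ∈ E Q, (∀ w ∈ W, g w ∈ W) → g ∈ l0 X) :
    mx (l0 X) = omegaGL (⇑Q) ⊓ subspaceStabilizer W := by
  ext g
  exact ⟨fun h => ⟨(mem_omegaGL_iff hG g).2 (l0_le_E h), mem_stab_of_le (h1.iv _ h)⟩,
    fun h => h2 _ ((mem_omegaGL_iff hG g).1 h.1) fun w hw => (h.2 w).1 hw⟩

theorem Pl.card (h : Pl Q m) : Fintype.card ι = 2 * m := by rw [← h.dim, Module.finrank_fintype_fun_eq_card]

theorem Pl.sph1 (h : Pl Q m) {v : ι → F} (hv : Q v ≠ 0) : CS.Sph (Fintype.card F) m .p1 (polar (⇑Q)) (fun x => Q x = 0)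
    (omegaGL (⇑Q)) (subspaceStabilizer (Submodule.span F {v})) :=
  .p1 (⇑Q) (isNondegenerateQuadraticForm h.good.nondeg) (H621.EP.plusTop_iff.2 h.plus) rfl h.card v hv

theorem Pl.sph2 (h : Pl Q m) (hW : An Q W) : CS.Sph (Fintype.card F) m .p2 (polar (⇑Q)) (fun x => Q x = 0)
    (omegaGL (⇑Q)) (subspaceStabilizer W) :=
  .p2 (⇑Q) (isNondegenerateQuadraticForm h.good.nondeg) (H621.EP.plusTop_iff.2 h.plus) rfl h.card W hW.1 hW.2

namespace Fr

variable (f : Fr Q m M H T B)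
include f

theorem mxH {v : ι → F} (hv : Q v ≠ 0) (h : Fx H (F ∙ v)) :
    mx (l0 H) = omegaGL (⇑Q) ⊓ subspaceStabilizer (Submodule.span F {v}) :=
  mx_eq f.good h fun _ hg k => f.memH h (span_ne_bot hv) (f.span_ne_top v) hg k

theorem cs2 (hC : CS.CS2) (hm : 7 ≤ m) {v : ι → F} (hv : Q v ≠ 0) (h : Fx H (F ∙ v)) {P : Subgroup (GL ι F)}
    (hP : IsResidualCore (mx (l0 B)) P) : Nat.card F = 2 ∧ m = 12 ∧ Spor.IsoCo1 (H915.LD.Soc P) := by
  haveI := fin_au Q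
  obtain ⟨-, h1, h2, h3⟩ := hC ι F (Au Q) M (inn Q) H T B .p1 _ m _ _ _ _ P (pi0 f.good) f.fac (f.sph1 hv) (cov0 f.good)
    (by rw [f.card]; omega) ((pre0 _ _).trans (f.mxH hv h)) ((pre0 f.good B).symm ▸ hP) nofun
  exact ⟨Nat.card_eq_fintype_card.trans h2, h1, h3⟩

theorem cs1_pt (hC : CS.CS1) (hm : 7 ≤ m) {v : ι → F} (hv : Q v ≠ 0) (h : Fx B (F ∙ v)) {P : Subgroup (GL ι F)}
    (hP : IsResidualCore (mx (l0 T)) P) : Nat.card F = 2 := by
  haveI := fin_au Q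
  obtain ⟨-, -, h2, -⟩ := hC ι F (Au Q) M (inn Q) H T B .p1 _ m _ _ _ _ P (pi0 f.good) T f.fac (f.sph1 hv) (cov0 f.good)
    (by rw [f.card]; omega) ((pre0 _ _).trans (mx_eq f.good h fun _ hg k =>
      f.memB h (span_ne_bot hv) (f.span_ne_top v) hg k)) le_rfl f.TH ((pre0 f.good T).symm ▸ hP) nofun
  exact Nat.card_eq_fintype_card.trans h2

theorem cs1_pl (hC : CS.CS1) (hm : 7 ≤ m) (hW : An Q W) (h : Fx B W) {P : Subgroup (GL ι F)}
    (hP : IsResidualCore (mx (l0 T)) P) : False := by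
  haveI := fin_au Q
  obtain ⟨h2, -⟩ := hC ι F (Au Q) M (inn Q) H T B .p2 _ m _ _ _ _ P (pi0 f.good) T f.fac (f.sph2 hW) (cov0 f.good)
    (by rw [f.card]; omega) ((pre0 _ _).trans (mx_eq f.good h fun _ hg k =>
      f.memB h hW.ne_bot (f.ne_top (by rw [hW.1]; omega)) hg k)) le_rfl f.TH ((pre0 f.good T).symm ▸ hP) nofun
  exact nomatch h2

end Fr

end mat

section perm

variable {Ω : Type} [Fintype Ω] [DecidableEq Ω] {X H T M S : Subgroup (Equiv.Perm Ω)} {a : Ω}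

theorem pl_plus (F : Type) [Field F] [Fintype F] {m : ℕ} (hm : 5 ≤ m) : Pl (plusForm m F) m := by
  rw [AutOrth.Main.plusForm_eq]
  exact ⟨AutOrth.Main.good_plus (by omega), H955.isPlus_plus m, H955.finrank_plus m, hm⟩

/-- **the frame of a permutation group** -/
theorem exists_pf (u : Up X H T M S) {F : Type} [Field F] [Fintype F] {m : ℕ} (hm : 5 ≤ m)
    (hS : Nonempty (S ≃* POmega F (quadFormPlus m F))) (a : Ω) :
    ∃ (M' H' T' B' : Subgroup (Au (plusForm m F))) (ρ : M' →* Equiv.Perm Ω), Pf X H T M S a (plusForm m F) m M' H' T' B' ρ := by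
  have hp := pl_plus F hm
  rw [← coe_plusForm] at hS
  obtain ⟨e₀⟩ := hS
  let e := e₀.trans (ClassicalGeometry.OrthSemiForms.pomegaEquiv hp.good)
  let φ : M →* Au (plusForm m F) := (MulAut.congr e).toMonoidHom.comp u.socM.as.aut
  have hφ : Function.Injective φ := (MulAut.congr e).injective.comp u.socM.as.aut_injective
  have h1 : ∀ s : S, φ ⟨s.1, u.socM.le s.2⟩ = MulAut.conj (e s) := fun s => MulEquiv.ext fun x => by
    obtain ⟨x, rfl⟩ := e.surjective x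
    show e (u.socM.as.aut _ (e.symm (e x))) = e s * e x * (e s)⁻¹
    rw [e.symm_apply_apply, ← map_inv, ← map_mul, ← map_mul]
    rfl
  have h2 : (S.subgroupOf M).map φ = inn (plusForm m F) := by
    ext x
    constructor
    · rintro ⟨s, hs, rfl⟩
      obtain ⟨g, hg⟩ := QuotientGroup.mk_surjective (e ⟨s.1, hs⟩)
      exact ⟨g, (Psi_lg g).trans (hg ▸ (h1 ⟨s.1, hs⟩).symm)⟩
    · rintro ⟨g, rfl⟩
      obtain ⟨s, hs⟩ := e.surjective (QuotientGroup.mk g)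
      exact ⟨⟨s.1, u.socM.le s.2⟩, s.2, (h1 s).trans (hs ▸ (Psi_lg g).symm)⟩
  have h3 := (u.fac a).top.map hφ
  rw [h2] at h3
  let ε := Subgroup.equivMapOfInjective (M.subgroupOf M) φ hφ
  let ρ : (M.subgroupOf M).map φ →* Equiv.Perm Ω := M.subtype.comp ((M.subgroupOf M).subtype.comp ε.symm.toMonoidHom)
  have h4 : ∀ (Z : Subgroup (Equiv.Perm Ω)) (g : (M.subgroupOf M).map φ), ρ g ∈ Z ↔ g.1 ∈ (Z.subgroupOf M).map φ := fun Z g => by
    obtain ⟨g, rfl⟩ := ε.surjective g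
    have e1 : ρ (ε g) = g.1.1 := congrArg (fun y : M.subgroupOf M => y.1.1) (ε.symm_apply_apply g)
    rw [e1]
    exact (Subgroup.mem_map_iff_mem (K := Z.subgroupOf M) hφ).symm
  refine ⟨_, _, _, _, ρ, u, ⟨hp, AutOrth.Final.surjective_plus hm, h3⟩,
    M.subtype_injective.comp ((M.subgroupOf M).subtype_injective.comp ε.symm.injective), ?_, fun g => h2 ▸ h4 S g, h4 H, h4 T,
    fun g => Iff.trans ⟨fun k => ⟨(ε.symm g).1.2, k⟩, fun k => k.2⟩ (h4 (M ⊓ MulAction.stabilizer _ a) g)⟩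
  ext x
  exact ⟨by rintro ⟨g, rfl⟩; exact (ε.symm g).1.2, fun hx => ⟨ε ⟨⟨x, hx⟩, hx⟩,
    congrArg (fun y : M.subgroupOf M => y.1.1) (ε.symm_apply_apply _)⟩⟩

section

variable {F V : Type} [Field F] [Fintype F] [AddCommGroup V] [Module F V] [FiniteDimensional F V] {Q : QuadraticForm F V} {m : ℕ}
  {M' H' T' B' : Subgroup (Au Q)} {ρ : M' →* Equiv.Perm Ω}

theorem Pf.map_eq (p : Pf X H T M S a Q m M' H' T' B' ρ) {Z : Subgroup (Equiv.Perm Ω)} {Z' : Subgroup (Au Q)} (hZ : Z ≤ M)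
    (h : ∀ g : M', ρ g ∈ Z ↔ g.1 ∈ Z') : (Z'.subgroupOf M').map ρ = Z := by
  ext x
  constructor
  · rintro ⟨g, hg, rfl⟩
    exact (h g).2 hg
  · intro hx
    obtain ⟨g, rfl⟩ : x ∈ ρ.range := p.range.symm ▸ hZ hx
    exact ⟨g, (h g).1 hx, rfl⟩

theorem Pf.card_eq (p : Pf X H T M S a Q m M' H' T' B' ρ) {Z : Subgroup (Equiv.Perm Ω)} {Z' : Subgroup (Au Q)} (hZ : Z ≤ M)
    (hZ' : Z' ≤ M') (h : ∀ g : M', ρ g ∈ Z ↔ g.1 ∈ Z') : Nat.card Z = Nat.card Z' := by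
  rw [← p.map_eq hZ h, Subgroup.card_map_of_injective p.inj]
  exact Nat.card_congr (subgroupOfEquivOfLe hZ').toEquiv

theorem Pf.card_T (p : Pf X H T M S a Q m M' H' T' B' ρ) : Nat.card T = Nat.card T' :=
  p.card_eq (p.up.socH.le.trans p.up.ov.2) (p.fr.TH.trans p.fr.fac.hm.le) p.mT

theorem Pf.mem_B (p : Pf X H T M S a Q m M' H' T' B' ρ) (g : M') :
    ρ g ∈ M ⊓ MulAction.stabilizer (Equiv.Perm Ω) a ↔ g.1 ∈ B' :=
  Iff.trans ⟨fun k => k.2, fun k => ⟨p.range ▸ ⟨g, rfl⟩, k⟩⟩ (p.mB g)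

theorem Pf.relIndex (p : Pf X H T M S a Q m M' H' T' B' ρ) : B'.relIndex T' = Fintype.card Ω := by
  haveI := fin_au Q
  have h1 := Fac.card_mul T' B'
  have h2 := Fac.card_mul T (M ⊓ MulAction.stabilizer (Equiv.Perm Ω) a)
  rw [p.up.relIndex a, p.card_T, ← h1, p.card_eq (Z' := T' ⊓ B') (inf_le_right.trans inf_le_left)
    (inf_le_right.trans p.fr.fac.bm.le) fun g => and_congr (p.mT g) (p.mem_B g)] at h2
  exact (Nat.eq_of_mul_eq_mul_left Nat.card_pos h2).symm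

end

/-- the data of the row `Co` at the point `a` -/
theorem Pf.co {ι F : Type} [Fintype ι] [DecidableEq ι] [Field F] [Fintype F] {Q : QuadraticForm F (ι → F)}
    {M' H' T' B' : Subgroup (Au Q)} {ρ : M' →* Equiv.Perm Ω} (p : Pf X H T M S a Q 12 M' H' T' B' ρ) (hq : Nat.card F = 2)
    {v : ι → F} (hv : Q v ≠ 0) (h : Fx H' (F ∙ v)) {P : Subgroup (GL ι F)} (hP : IsResidualCore (mx (l0 B')) P)
    (hC : Spor.IsoCo1 (H915.LD.Soc P)) :
    ∃ (ι : Type) (_ : Fintype ι) (_ : DecidableEq ι) (K : Type) (_ : Field K) (_ : Fintype K)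
    (f : (ι → K) → (ι → K) → K) (Sg : (ι → K) → Prop) (G X' P : Subgroup (GL ι K)) (π : G →* Equiv.Perm Ω),
    CS.Sph 2 12 .p1 f Sg G X' ∧ CS.Cov G π S ∧ CS.pre π H = G ⊓ X' ∧
      IsResidualCore (CS.pre π (M ⊓ MulAction.stabilizer (Equiv.Perm Ω) a)) P ∧ Spor.IsoCo1 (H915.LD.Soc P) := by
  have hG := p.fr.good
  let π : omegaGL (⇑Q) →* Equiv.Perm Ω := ρ.comp ((pi0 hG).codRestrict M' fun g => p.fr.psM _)
  have h1 := p.fr.sph1 hv
  rw [← Nat.card_eq_fintype_card, hq] at h1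
  refine ⟨ι, inferInstance, inferInstance, F, inferInstance, inferInstance, _, _, _, _, P, π, h1, ⟨?_, fun g => ?_⟩,
    (pre_eq hG fun g => p.mH _).trans (p.fr.mxH hv h), (pre_eq (π := π) hG fun g => p.mem_B _).symm ▸ hP, hC⟩
  · ext x
    constructor
    · rintro ⟨g, rfl⟩
      exact (p.mS _).2 (ps_mem_inn _)
    · intro hx
      obtain ⟨g, rfl⟩ : x ∈ ρ.range := p.range.symm ▸ p.up.socM.le hx
      obtain ⟨y, hy⟩ := (cov0 hG).range.ge ((p.mS g).1 hx)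
      exact ⟨y, congrArg ρ (Subtype.ext hy)⟩
  · refine Iff.trans ?_ (pi0_eq_one hG g)
    exact (map_eq_one_iff ρ p.inj).trans Subtype.ext_iff

end perm

end Cfsg.Agent.SM.Op
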