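import Cfsg.Agent.SM.Op.Defs
import Cfsg.Agent.SM.Mat.Tool
import Cfsg.Agent.H826.RgF.Tools

/-!
# SM / Op: the frame in `Aut (PΩ(Q))`, basic lemmas (helper57)

* `l0`, `i0`, `stb` (stabiliser of a subspace), `Fr.pd`, maximality `Fr.maxH`, `Fr.maxB`, `Fr.maxA`;
* `Fr.big` (a non-scalar invariant subgroup covers `T`), `Fr.cen`, `Fr.ct` (centraliser of `T` in the semisimilitudes);
* `Fr.par` (no parabolic), `Fr.pl` (no pair of vectors), `Fr.T_le_Sg`, `Fr.T_le_Sw`, `Fr.T_eq`.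
-/

set_option autoImplicit false
set_option linter.unusedSectionVars false
set_option linter.style.haveILetI false

namespace Cfsg.Agent.SM.Op

open Module QuadraticMap Cfsg Cfsg.Geo Subgroup
open Cfsg.Agent.LieClassical.OrthCore Cfsg.Agent.LieClassical.OrthTrans Cfsg.Agent.ClassicalGeometry.OrthSemi
open Cfsg.Agent.H449.Reg (img lg mem_img img_mul img_one img_mono finrank_img img_eq_of_Psi img_lg Psi_lg lg_apply exists_not_perp)
open Cfsg.Agent.H826.Rg (lgH Sg)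
open Cfsg.Agent.H826.RgF (Iv Rd El)
open Cfsg.Agent.H955 (IsPlus perp res mem_perp mem_perp')
open Cfsg.Agent.H884.El (PP)

section basic

variable {F V : Type} [Field F] [AddCommGroup V] [Module F V] {Q : QuadraticForm F V}
  {X Y : Subgroup (Au Q)} {N : Subgroup (V ≃ₗ[F] V)} {W W' : Submodule F V}

theorem ps_apply (g : ↥(E Q)) : ps Q g = Psi Q (lg g) := rfl

theorem ps_mem_inn (g : ↥(E Q)) : ps Q g ∈ inn Q := ⟨g, rfl⟩

theorem mem_l0 {g : V ≃ₗ[F] V} : g ∈ l0 X ↔ ∃ hg : g ∈ E Q, ps Q ⟨g, hg⟩ ∈ X :=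
  ⟨fun ⟨x, hx, e⟩ => e ▸ ⟨x.2, hx⟩, fun ⟨hg, h⟩ => ⟨⟨g, hg⟩, h, rfl⟩⟩

theorem mem_l0' {g : ↥(E Q)} : g.1 ∈ l0 X ↔ ps Q g ∈ X := mem_l0.trans ⟨fun ⟨_, h⟩ => h, fun h => ⟨g.2, h⟩⟩

theorem l0_le_E : l0 X ≤ E Q := fun _ hg => (mem_l0.1 hg).1

theorem l0_le_O : l0 X ≤ O Q := l0_le_E.trans E_le_O

theorem l0_mono (h : X ≤ Y) : l0 X ≤ l0 Y := map_mono (comap_mono h)

theorem mem_l0_inf {g : V ≃ₗ[F] V} : g ∈ l0 (X ⊓ Y) ↔ g ∈ l0 X ∧ g ∈ l0 Y :=
  ⟨fun h => ⟨l0_mono inf_le_left h, l0_mono inf_le_right h⟩, fun ⟨h1, h2⟩ =>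
    mem_l0.2 ⟨l0_le_E h1, (mem_l0.1 h1).2, (mem_l0.1 h2).2⟩⟩

theorem mem_i0 {x : Au Q} : x ∈ i0 Q N ↔ ∃ g : ↥(E Q), g.1 ∈ N ∧ ps Q g = x := Iff.rfl

theorem ps_mem_i0 {g : ↥(E Q)} (h : g.1 ∈ N) : ps Q g ∈ i0 Q N := ⟨g, h, rfl⟩

theorem i0_le_inn : i0 Q N ≤ inn Q := fun _ ⟨g, _, e⟩ => ⟨g, e⟩

theorem i0_le (h : N ≤ l0 X) : i0 Q N ≤ X := fun _ ⟨_, hg, e⟩ => e ▸ mem_l0'.1 (h hg)

theorem i0_mono {N' : Subgroup (V ≃ₗ[F] V)} (h : N ≤ N') : i0 Q N ≤ i0 Q N' := map_mono (comap_mono h)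

theorem le_i0_l0 (h : X ≤ inn Q) : X ≤ i0 Q (l0 X) := fun x hx => by
  obtain ⟨g, rfl⟩ := h hx
  exact ps_mem_i0 (mem_l0'.2 hx)

theorem lg_conj (γ : Gam Q) (g : ↥(E Q)) : lg (conjE Q γ g) = γ * lg g * γ⁻¹ := Subtype.ext (Equiv.ext fun _ => rfl)

theorem ps_conj (γ : Gam Q) (g : ↥(E Q)) : ps Q (conjE Q γ g) = Psi Q γ * ps Q g * (Psi Q γ)⁻¹ := by
  rw [ps_apply, lg_conj, map_mul, map_mul, map_inv, ps_apply]

theorem conjLin_lg (g : ↥(E Q)) (h : V ≃ₗ[F] V) : conjLin (lg g) h = g.1 * h * g.1⁻¹ := LinearEquiv.ext fun _ => rfl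

theorem conj_l0 {γ : Gam Q} (h : ∀ x ∈ X, Psi Q γ * x * (Psi Q γ)⁻¹ ∈ X) {g : V ≃ₗ[F] V} (hg : g ∈ l0 X) :
    conjLin γ g ∈ l0 X := by
  obtain ⟨h1, h2⟩ := mem_l0.1 hg
  have h3 := h _ h2
  rw [← ps_conj] at h3
  exact mem_l0'.2 h3

theorem conj_l0_self {γ : Gam Q} (h : Psi Q γ ∈ X) {g : V ≃ₗ[F] V} (hg : g ∈ l0 X) : conjLin γ g ∈ l0 X :=
  conj_l0 (fun _ hx => X.mul_mem (X.mul_mem h hx) (X.inv_mem h)) hg

theorem conj_i0 {γ : Gam Q} (h : ∀ n ∈ N, conjLin γ n ∈ N) {x : Au Q} (hx : x ∈ i0 Q N) :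
    Psi Q γ * x * (Psi Q γ)⁻¹ ∈ i0 Q N := by
  obtain ⟨g, hg, rfl⟩ := hx
  rw [← ps_conj]
  exact ps_mem_i0 (h _ hg)

theorem psi_eq_one_iff (hG : Good Q) {γ : Gam Q} : Psi Q γ = 1 ↔ ∃ a : F, a ≠ 0 ∧ ∀ v, γ.1 v = a • v := by
  rw [← MonoidHom.mem_ker, ker_Psi hG]
  constructor
  · rintro ⟨a, rfl⟩
    exact ⟨a, a.ne_zero, fun _ => rfl⟩
  · rintro ⟨a, ha, h⟩
    exact ⟨Units.mk0 a ha, Subtype.ext (Equiv.ext fun v => (h v).symm)⟩

theorem exists_norm (hG : Good Q) (c : F) : ∃ v, v ≠ 0 ∧ Q v = c := by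
  obtain ⟨x, y, h⟩ := hG.exists_hyp
  refine ⟨x + c • y, fun h0 => ?_, ?_⟩
  · have h1 := congrArg (polar Q y) h0
    rw [polar_add_right, polar_smul_right, h.pair', h.polar_right, smul_zero, add_zero, polar_zero_right] at h1
    exact one_ne_zero h1
  · rw [Q_add, QuadraticMap.map_smul, h.left, h.right, polar_smul_right, h.pair, smul_zero]
    simp

theorem sq_of_fix {g : V ≃ₗ[F] V} (hg : g ∈ O Q) {v : V} (hv : Q v ≠ 0) {a : F} (h : g v = a • v) : a = 1 ∨ a = -1 := by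
  have h1 := hg v
  rw [h, QuadraticMap.map_smul, smul_eq_mul] at h1
  exact mul_self_eq_one_iff.1 (mul_right_cancel₀ hv (by rw [h1, one_mul]))

theorem ps_eq_one_iff (hG : Good Q) {g : ↥(E Q)} : ps Q g = 1 ↔ (∀ v, g.1 v = v) ∨ ∀ v, g.1 v = -v := by
  rw [ps_apply, psi_eq_one_iff hG]
  constructor
  · rintro ⟨a, -, h⟩
    obtain ⟨v, -, hv⟩ := exists_norm hG 1
    rcases sq_of_fix (E_le_O g.2) (v := v) (by rw [hv]; exact one_ne_zero) (h v) with rfl | rfl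
    · exact Or.inl fun v => (h v).trans (one_smul _ _)
    · exact Or.inr fun v => (h v).trans (neg_one_smul _ _)
  · rintro (h | h)
    · exact ⟨1, one_ne_zero, fun v => (h v).trans (one_smul _ _).symm⟩
    · exact ⟨-1, neg_ne_zero.2 one_ne_zero, fun v => (h v).trans (neg_one_smul _ _).symm⟩

theorem eq_of_ps_eq (hG : Good Q) {g h : ↥(E Q)} (e : ps Q g = ps Q h) : (∀ v, g.1 v = h.1 v) ∨ ∀ v, g.1 v = -h.1 v := by
  have h1 : ps Q (g * h⁻¹) = 1 := by rw [map_mul, map_inv, e, mul_inv_cancel]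
  have h2 : ∀ v, (g * h⁻¹).1 (h.1 v) = g.1 v := fun v => congrArg g.1 (h.1.symm_apply_apply v)
  rcases (ps_eq_one_iff hG).1 h1 with k | k
  · exact Or.inl fun v => (h2 v).symm.trans (k _)
  · exact Or.inr fun v => (h2 v).symm.trans (k _)

/-- an element with a fixed vector and a moved vector is not a scalar -/
theorem ps_ne_one (hG : Good Q) {g : ↥(E Q)} {u x : V} (hu : u ≠ 0) (h1 : g.1 u = u) (h2 : g.1 x ≠ x) : ps Q g ≠ 1 := fun h => by
  rcases (ps_eq_one_iff hG).1 h with k | k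
  · exact h2 (k x)
  · have h3 : (2 : F) • u = 0 := by
      rw [two_smul]
      exact add_eq_zero_iff_eq_neg.2 (h1.symm.trans (k u))
    have h4 : (2 : F) = 0 := (smul_eq_zero.1 h3).resolve_right hu
    refine h2 ((k x).trans (neg_eq_iff_add_eq_zero.2 ?_))
    rw [← two_smul F, h4, zero_smul]

theorem ps_ne_one_of_order (hG : Good Q) {g : ↥(E Q)} {r : ℕ} (h : orderOf g.1 = r) (hr : 2 < r) : ps Q g ≠ 1 := fun k => by
  have h1 : g.1 ^ 2 = 1 := by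
    ext v
    rw [pow_two]
    show g.1 (g.1 v) = v
    rcases (ps_eq_one_iff hG).1 k with k | k
    · rw [k, k]
    · rw [k, k, neg_neg]
  have := Nat.le_of_dvd two_pos (h ▸ orderOf_dvd_of_pow_eq_one h1)
  omega

/-- the elements of `l0 X` are those of `N` up to sign -/
theorem exists_of_le (hG : Good Q) (h : X ≤ i0 Q N) {t : V ≃ₗ[F] V} (ht : t ∈ l0 X) :
    ∃ n ∈ N, (∀ v, t v = n v) ∨ ∀ v, t v = -n v := by
  obtain ⟨h1, h2⟩ := mem_l0.1 ht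
  obtain ⟨g, hg, e⟩ := h h2
  exact ⟨g.1, hg, eq_of_ps_eq hG e.symm⟩

theorem iv_of_le (hG : Good Q) (h : X ≤ i0 Q N) (hW : Iv N W) : Iv (l0 X) W := fun t ht w hw => by
  obtain ⟨n, hn, k | k⟩ := exists_of_le hG h ht
  · rw [k]; exact hW n hn w hw
  · rw [k]; exact W.neg_mem (hW n hn w hw)

theorem cm_of_le (hG : Good Q) (h : X ≤ i0 Q N) {d : Module.End F V} (hd : Cm N d) : Cm (l0 X) d := fun t ht x => by
  obtain ⟨n, hn, k | k⟩ := exists_of_le hG h ht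
  · rw [k, k]; exact hd n hn x
  · rw [k, k, map_neg, hd n hn x]

/-! ### subspaces -/

theorem mem_img_iff {γ : Gam Q} {x : V} : γ.1 x ∈ img γ W ↔ x ∈ W :=
  ⟨fun ⟨_, hv, e⟩ => γ.1.injective e ▸ hv, fun h => ⟨x, h, rfl⟩⟩

theorem img_inv_img (γ : Gam Q) (W : Submodule F V) : img γ⁻¹ (img γ W) = W := by rw [← img_mul, inv_mul_cancel, img_one]

theorem img_img_inv (γ : Gam Q) (W : Submodule F V) : img γ (img γ⁻¹ W) = W := by rw [← img_mul, mul_inv_cancel, img_one]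

theorem img_inj {γ : Gam Q} (h : img γ W = img γ W') : W = W' := by rw [← img_inv_img γ W, h, img_inv_img]

theorem img_inf (γ : Gam Q) (W W' : Submodule F V) : img γ (W ⊓ W') = img γ W ⊓ img γ W' := by
  ext x
  obtain ⟨x, rfl⟩ := γ.1.surjective x
  simp only [Submodule.mem_inf, mem_img_iff]

theorem img_sup (γ : Gam Q) (W W' : Submodule F V) : img γ (W ⊔ W') = img γ W ⊔ img γ W' := by
  refine le_antisymm ?_ (sup_le (img_mono _ le_sup_left) (img_mono _ le_sup_right))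
  rintro _ ⟨x, hx, rfl⟩
  obtain ⟨a, ha, b, hb, rfl⟩ := Submodule.mem_sup.1 hx
  rw [add_of_mem γ.2]
  exact Submodule.add_mem_sup ⟨a, ha, rfl⟩ ⟨b, hb, rfl⟩

theorem gam_zero (γ : Gam Q) : γ.1 0 = 0 := by
  obtain ⟨σ, c, h⟩ := γ.2
  exact h.map_zero

theorem gam_ne (γ : Gam Q) {x : V} (hx : x ≠ 0) : γ.1 x ≠ 0 := fun h => hx (γ.1.injective (h.trans (gam_zero γ).symm))

theorem gam_sing (γ : Gam Q) {x : V} : Q (γ.1 x) = 0 ↔ Q x = 0 := by
  obtain ⟨σ, c, h⟩ := γ.2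
  rw [h.form, mul_eq_zero, or_iff_right h.ne, map_eq_zero_iff σ σ.injective]

theorem gam_polar (γ : Gam Q) {x y : V} : polar Q (γ.1 x) (γ.1 y) = 0 ↔ polar Q x y = 0 := by
  obtain ⟨σ, c, h⟩ := γ.2
  rw [h.polar, mul_eq_zero, or_iff_right h.ne, map_eq_zero_iff σ σ.injective]

theorem img_bot (γ : Gam Q) : img γ (⊥ : Submodule F V) = ⊥ := by
  rw [eq_bot_iff]
  rintro _ ⟨x, hx, rfl⟩
  rw [(Submodule.mem_bot F).1 hx, gam_zero]
  exact Submodule.zero_mem _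

theorem img_top (γ : Gam Q) : img γ (⊤ : Submodule F V) = ⊤ :=
  eq_top_iff.2 fun x _ => ⟨γ.1⁻¹ x, trivial, apply_inv _ _⟩

theorem img_ne_bot (γ : Gam Q) (h : W ≠ ⊥) : img γ W ≠ ⊥ := fun k => h (img_inj (k.trans (img_bot γ).symm))

theorem img_ne_top (γ : Gam Q) (h : W ≠ ⊤) : img γ W ≠ ⊤ := fun k => h (img_inj (k.trans (img_top γ).symm))

theorem img_span (γ : Gam Q) (v : V) : img γ (F ∙ v) = F ∙ γ.1 v := by
  obtain ⟨σ, c, h⟩ := γ.2
  ext x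
  rw [mem_img, Submodule.mem_span_singleton]
  constructor
  · rintro ⟨y, hy, rfl⟩
    obtain ⟨a, rfl⟩ := Submodule.mem_span_singleton.1 hy
    exact ⟨σ a, (h.smul a v).symm⟩
  · rintro ⟨a, rfl⟩
    exact ⟨σ.symm a • v, Submodule.smul_mem _ _ (Submodule.mem_span_singleton_self v), by rw [h.smul, σ.apply_symm_apply]⟩

theorem img_perp (γ : Gam Q) (W : Submodule F V) : img γ (perp Q W) = perp Q (img γ W) := by
  ext x
  obtain ⟨x, rfl⟩ := γ.1.surjective x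
  rw [mem_img_iff, mem_perp, mem_perp]
  exact ⟨by rintro h _ ⟨w, hw, rfl⟩; exact (gam_polar γ).2 (h w hw), fun h w hw => (gam_polar γ).1 (h _ ⟨w, hw, rfl⟩)⟩

theorem Ts.img (h : Ts Q W) (γ : Gam Q) : Ts Q (img γ W) := by
  rintro _ ⟨w, hw, rfl⟩
  exact (gam_sing γ).2 (h w hw)

theorem Ts.le_perp (h : Ts Q W) : W ≤ perp Q W := fun x hx w hw => by
  have h1 := Q_add (Q := Q) w x
  rw [h _ (W.add_mem hw hx), h w hw, h x hx, zero_add, zero_add] at h1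
  exact h1.symm

/-- the image of an invariant subspace under a normalising map -/
theorem iv_img {γ : Gam Q} (h : ∀ n ∈ N, conjLin γ⁻¹ n ∈ N) (hW : Iv N W) : Iv N (img γ W) := by
  rintro n hn _ ⟨w, hw, rfl⟩
  exact ⟨conjLin γ⁻¹ n w, hW _ (h n hn) w hw, apply_inv _ _⟩

theorem fix_of_img {γ : Gam Q} {v : V} (h : img γ (F ∙ v) = F ∙ v) : ∃ a : F, γ.1 v = a • v := by
  have h1 : γ.1 v ∈ F ∙ v := h ▸ mem_img_iff.2 (Submodule.mem_span_singleton_self v)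
  obtain ⟨a, ha⟩ := Submodule.mem_span_singleton.1 h1
  exact ⟨a, ha.symm⟩

/-- the stabiliser of a subspace -/
def gst (Q : QuadraticForm F V) (W : Submodule F V) : Subgroup (Gam Q) where
  carrier := {γ | img γ W = W}
  mul_mem' {a b} ha hb := by
    show img (a * b) W = W
    rw [img_mul, hb, ha]
  one_mem' := img_one W
  inv_mem' {a} ha := by
    show img a⁻¹ W = W
    conv_lhs => rw [← show img a W = W from ha]
    exact img_inv_img a W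

/-- the stabiliser of a pair of subspaces -/
def gpr (Q : QuadraticForm F V) (W W' : Submodule F V) : Subgroup (Gam Q) where
  carrier := {γ | (img γ W = W ∧ img γ W' = W') ∨ (img γ W = W' ∧ img γ W' = W)}
  mul_mem' {a b} ha hb := by
    show (img (a * b) W = W ∧ img (a * b) W' = W') ∨ (img (a * b) W = W' ∧ img (a * b) W' = W)
    rw [img_mul, img_mul]
    rcases hb with ⟨h1, h2⟩ | ⟨h1, h2⟩ <;> rw [h1, h2] <;> rcases ha with ⟨h3, h4⟩ | ⟨h3, h4⟩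
    exacts [Or.inl ⟨h3, h4⟩, Or.inr ⟨h3, h4⟩, Or.inr ⟨h4, h3⟩, Or.inl ⟨h4, h3⟩]
  one_mem' := Or.inl ⟨img_one W, img_one W'⟩
  inv_mem' {a} ha := by
    rcases ha with ⟨h1, h2⟩ | ⟨h1, h2⟩
    · exact Or.inl ⟨by conv_lhs => rw [← h1]; rw [img_inv_img], by conv_lhs => rw [← h2]; rw [img_inv_img]⟩
    · exact Or.inr ⟨by conv_lhs => rw [← h2]; rw [img_inv_img], by conv_lhs => rw [← h1]; rw [img_inv_img]⟩

/-- the stabiliser of a subspace in `Aut (PΩ)` -/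
def stb (Q : QuadraticForm F V) (W : Submodule F V) : Subgroup (Au Q) := (gst Q W).map (Psi Q)

/-- the stabiliser of a pair in `Aut (PΩ)` -/
def spr (Q : QuadraticForm F V) (W W' : Submodule F V) : Subgroup (Au Q) := (gpr Q W W').map (Psi Q)

theorem mem_stb (hG : Good Q) {γ : Gam Q} : Psi Q γ ∈ stb Q W ↔ img γ W = W :=
  ⟨fun ⟨_, hδ, e⟩ => (img_eq_of_Psi hG e W).symm.trans hδ, fun h => ⟨γ, h, rfl⟩⟩

theorem mem_spr (hG : Good Q) {γ : Gam Q} :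
    Psi Q γ ∈ spr Q W W' ↔ (img γ W = W ∧ img γ W' = W') ∨ (img γ W = W' ∧ img γ W' = W) :=
  ⟨fun ⟨_, hδ, e⟩ => by rw [← img_eq_of_Psi hG e W, ← img_eq_of_Psi hG e W']; exact hδ, fun h => ⟨γ, h, rfl⟩⟩

theorem ps_mem_stb (hG : Good Q) {g : ↥(E Q)} : ps Q g ∈ stb Q W ↔ W.map (g.1 : V →ₗ[F] V) = W := by
  rw [ps_apply, mem_stb hG, img_lg]

theorem Fx.mono (h : Fx X W) (hY : Y ≤ X) : Fx Y W := fun γ hγ => h γ (hY hγ)

theorem Fx.map (h : Fx X W) {g : V ≃ₗ[F] V} (hg : g ∈ l0 X) : W.map (g : V →ₗ[F] V) = W := by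
  obtain ⟨h1, h2⟩ := mem_l0.1 hg
  exact (img_lg ⟨g, h1⟩ W).symm.trans (h _ h2)

theorem Fx.iv (h : Fx X W) : Iv (l0 X) W := fun _ hg _ hw => h.map hg ▸ Submodule.mem_map_of_mem hw

theorem Fx.perp (h : Fx X W) : Fx X (perp Q W) := fun γ hγ => by rw [img_perp, h γ hγ]

theorem fx_of_le (hG : Good Q) (h : X ≤ stb Q W) : Fx X W := fun _ hγ => (mem_stb hG).1 (h hγ)

theorem Fx.le_stb (h : Fx X W) (hs : Function.Surjective (Psi Q)) : X ≤ stb Q W := fun x hx => by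
  obtain ⟨γ, rfl⟩ := hs x
  exact ⟨γ, h γ hx, rfl⟩

theorem Fx.sign {v : V} (h : Fx X (F ∙ v)) (hv : Q v ≠ 0) {g : V ≃ₗ[F] V} (hg : g ∈ l0 X) : g v = v ∨ g v = -v := by
  obtain ⟨a, ha⟩ := Submodule.mem_span_singleton.1 (h.iv g hg v (Submodule.mem_span_singleton_self v))
  rcases sq_of_fix (l0_le_O hg) hv ha.symm with rfl | rfl
  · exact Or.inl (ha.symm.trans (one_smul _ _))
  · exact Or.inr (ha.symm.trans (neg_one_smul _ _))

/-- a similarity as a semisimilitude -/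
def sim (d : V ≃ₗ[F] V) {μ : F} (h0 : μ ≠ 0) (h : ∀ x, Q (d x) = μ * Q x) : Gam Q :=
  ⟨d.toEquiv, RingEquiv.refl F, μ, h0, d.map_add, d.map_smul, h⟩

theorem sim_apply (d : V ≃ₗ[F] V) {μ : F} (h0 : μ ≠ 0) (h : ∀ x, Q (d x) = μ * Q x) (x : V) : (sim d h0 h).1 x = d x := rfl

theorem img_sim (d : V ≃ₗ[F] V) {μ : F} (h0 : μ ≠ 0) (h : ∀ x, Q (d x) = μ * Q x) (W : Submodule F V) :
    img (sim d h0 h) W = W.map (d : V →ₗ[F] V) := rfl

/-- an isometry as a semisimilitude -/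
def og (g : V ≃ₗ[F] V) (hg : g ∈ O Q) : Gam Q := sim g one_ne_zero fun x => (hg x).trans (one_mul _).symm

theorem og_apply (g : V ≃ₗ[F] V) (hg : g ∈ O Q) (x : V) : (og g hg).1 x = g x := rfl

theorem og_eq_lg (g : ↥(E Q)) : og g.1 (E_le_O g.2) = lg g := rfl

/-- a map which commutes with `N` modulo scalars commutes with the image of `N` -/
theorem comm_i0 (hG : Good Q) {γ : Gam Q} (h : ∀ n ∈ N, ∃ a : F, ∀ x, γ.1 (n x) = a • n (γ.1 x)) :
    ∀ t ∈ i0 Q N, Psi Q γ * t = t * Psi Q γ := by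
  rintro _ ⟨g, hg, rfl⟩
  obtain ⟨a, ha⟩ := h g.1 hg
  obtain ⟨v, hv, -⟩ := exists_norm hG 0
  have h0 : a ≠ 0 := fun k => gam_ne γ ((map_ne_zero_iff g.1 g.1.injective).2 hv) (by rw [ha, k, zero_smul])
  have h1 : Psi Q (γ * lg g * (lg g * γ)⁻¹) = 1 := (psi_eq_one_iff hG).2 ⟨a, h0, fun x => by
    obtain ⟨x, rfl⟩ := (lg g * γ).1.surjective x
    exact (congrArg (γ * lg g).1 (inv_apply _ x)).trans (ha x)⟩
  rw [map_mul, map_inv, mul_inv_eq_one, map_mul, map_mul] at h1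
  exact h1

/-- a semisimilitude which commutes with the inner automorphisms is a scalar -/
theorem eq_one_of_comm_inn (hG : Good Q) {γ : Gam Q} (h : ∀ s ∈ inn Q, Psi Q γ * s = s * Psi Q γ) : Psi Q γ = 1 := by
  refine MulEquiv.ext fun x => ?_
  obtain ⟨g, rfl⟩ := QuotientGroup.mk_surjective x
  have h1 : ps Q (conjE Q γ g) = ps Q g := by rw [ps_conj, h _ (ps_mem_inn g), mul_inv_cancel_right]
  have h2 : ps Q ((conjE Q γ g)⁻¹ * g) = 1 := by rw [map_mul, map_inv, h1, inv_mul_cancel]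
  show (QuotientGroup.mk (conjE Q γ g) : ↥(E Q) ⧸ center ↥(E Q)) = QuotientGroup.mk g
  rw [QuotientGroup.eq, mem_center_iff]
  intro k
  apply Subtype.ext
  ext v
  show k.1 (((conjE Q γ g)⁻¹ * g).1 v) = ((conjE Q γ g)⁻¹ * g).1 (k.1 v)
  rcases (ps_eq_one_iff hG).1 h2 with e | e
  · rw [e, e]
  · rw [e, e, map_neg]

end basic

section fin

variable {F V : Type} [Field F] [Fintype F] [AddCommGroup V] [Module F V] [FiniteDimensional F V] {Q : QuadraticForm F V}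
  {X Y : Subgroup (Au Q)} {N : Subgroup (V ≃ₗ[F] V)} {W W' : Submodule F V} {m : ℕ}

theorem fin_gl : Finite (V ≃ₗ[F] V) :=
  haveI : Finite V := Module.finite_of_finite F
  Finite.of_injective (fun g : V ≃ₗ[F] V => (g : V → V)) DFunLike.coe_injective

theorem fin_au (Q : QuadraticForm F V) : Finite (Au Q) :=
  haveI : Finite (V ≃ₗ[F] V) := fin_gl
  Finite.of_injective (fun g : Au Q => (g : _ → _)) DFunLike.coe_injective

theorem img_eq_of_le {γ : Gam Q} (h : img γ W ≤ W) : img γ W = W :=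
  Submodule.eq_of_le_of_finrank_eq h (finrank_img γ W)

theorem map_eq_of_mem {g : V ≃ₗ[F] V} (h : ∀ w ∈ W, g w ∈ W) : W.map (g : V →ₗ[F] V) = W :=
  Submodule.eq_of_le_of_finrank_eq (Submodule.map_le_iff_le_comap.2 h) (LinearEquiv.finrank_map_eq g W)

theorem fx_of_iv (hG : Good Q) (h : X ≤ i0 Q N) (hW : Iv N W) : Fx X W := fun γ hγ => by
  obtain ⟨g, hg, e⟩ := h hγ
  rw [← img_eq_of_Psi hG (M := lg g) e, img_lg]
  exact map_eq_of_mem (hW _ hg)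

theorem An.img {P : Submodule F V} (h : An Q P) (γ : Gam Q) : An Q (img γ P) :=
  ⟨(finrank_img γ P).trans h.1, by
    rintro _ ⟨x, hx, rfl⟩ k
    rw [h.2 x hx ((gam_sing γ).1 k), gam_zero]⟩

theorem An.ne_bot {P : Submodule F V} (h : An Q P) : P ≠ ⊥ := fun k => by
  have := h.1
  rw [k, finrank_bot] at this
  omega

theorem Pl.ne_top (h : Pl Q m) (hW : finrank F W < 10) : W ≠ ⊤ := fun k => by
  rw [k, finrank_top, h.dim] at hW
  have := h.five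
  omega

theorem Pl.span_ne_top (h : Pl Q m) (v : V) : (F ∙ v) ≠ ⊤ :=
  h.ne_top (lt_of_le_of_lt (finrank_span_le_card ({v} : Set V)) (by simp))

theorem span_ne_bot {v : V} (hv : Q v ≠ 0) : (F ∙ v) ≠ ⊥ := fun k => hv (by rw [Submodule.span_singleton_eq_bot.1 k, map_zero])

/-- `Ω` is irreducible -/
theorem not_iv_E (hG : Good Q) (h0 : W ≠ ⊥) (h1 : W ≠ ⊤) : ¬ Iv (E Q) W := fun h => by
  obtain ⟨s, hs, hs0⟩ := Submodule.exists_mem_ne_zero_of_ne_bot h0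
  have h2 : perp Q W ≠ ⊥ := fun k => h1 (by rw [← H955.perp_perp hG.nondeg W, k, H955.perp_bot])
  obtain ⟨v, hv, hv0⟩ := Submodule.exists_mem_ne_zero_of_ne_bot h2
  obtain ⟨g, hg, k⟩ := exists_not_perp hG hv0 hs0
  exact k (hv _ (h g hg s hs))

theorem not_inn_le_stb (hG : Good Q) (h0 : W ≠ ⊥) (h1 : W ≠ ⊤) : ¬ inn Q ≤ stb Q W := fun h =>
  not_iv_E hG h0 h1 fun g hg _ hw => (ps_mem_stb hG).1 (h (ps_mem_inn ⟨g, hg⟩)) ▸ Submodule.mem_map_of_mem hw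

/-- the largest small invariant subspace is fixed by the normaliser -/
theorem Sm.exists_fx {D : Submodule F V} (h : Sm N D) (hD : finrank F D ≤ 4)
    (hn : ∀ γ : Gam Q, Psi Q γ ∈ X → ∀ n ∈ N, conjLin γ n ∈ N) : ∃ S, S ≠ ⊥ ∧ S ≤ D ∧ Fx X S := by
  let S : Submodule F V := sSup {W | Iv N W ∧ finrank F W ≤ 4}
  have h1 : S ≤ D := sSup_le fun W hW => h.le W hW.1 hW.2
  have h2 : Iv N S := fun n hn => by
    show S ≤ S.comap (n : V →ₗ[F] V)
    exact sSup_le fun W hW w hw => (le_sSup hW : W ≤ S) (hW.1 n hn w hw)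
  obtain ⟨W, h3, h4, h5⟩ := h.ex
  refine ⟨S, fun k => h3 (eq_bot_iff.2 (k ▸ (le_sSup ⟨h4, h5⟩ : W ≤ S))), h1, fun γ hγ => img_eq_of_le (le_sSup ⟨?_, ?_⟩)⟩
  · exact iv_img (hn γ⁻¹ (by rw [map_inv]; exact X.inv_mem hγ)) h2
  · rw [finrank_img]
    exact (Submodule.finrank_mono h1).trans hD

/-- the other factor is transitive on the images -/
theorem Pd.move {A C : Subgroup (V ≃ₗ[F] V)} (h : Pd Q A C) (hW : Iv C W) {s : V ≃ₗ[F] V} (hs : s ∈ E Q) :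
    ∃ y ∈ A, W.map (y : V →ₗ[F] V) = W.map (s : V →ₗ[F] V) := by
  obtain ⟨x, hx, y, hy, rfl⟩ := h.fac s hs
  refine ⟨x, hx, ?_⟩
  conv_lhs => rw [← map_eq_of_mem (hW y hy)]
  exact (Submodule.map_comp _ _ _).symm

theorem Pd.trS {A C : Subgroup (V ≃ₗ[F] V)} (h : Pd Q A C) (hG : Good Q) {v : V} (hv : Q v ≠ 0) (hW : Iv C (F ∙ v)) :
    TrS Q A (Q v) := by
  have h0 : ∀ x, Q x = Q v → x ≠ 0 := fun x hx k => hv (by rw [← hx, k, map_zero])
  have h1 : ∀ x, Q x = Q v → ∃ g ∈ A, g v = x ∨ g v = -x := fun x hx => by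
    obtain ⟨s, hs, e⟩ := hG.trans_norm (h0 v rfl) (h0 x hx) hx.symm
    obtain ⟨a, ha, c, hc, rfl⟩ := h.fac s hs
    obtain ⟨k, hk⟩ := Submodule.mem_span_singleton.1 (hW c hc v (Submodule.mem_span_singleton_self v))
    have e' : a (c v) = x := e
    rcases sq_of_fix (E_le_O (h.leY hc)) hv hk.symm with rfl | rfl
    · exact ⟨a, ha, Or.inl (by rw [← e', ← hk, one_smul])⟩
    · exact ⟨a, ha, Or.inr (by rw [← e', ← hk, neg_one_smul, map_neg, neg_neg])⟩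
  intro x y hx hy
  obtain ⟨g, hg, e⟩ := h1 x hx
  obtain ⟨k, hk, e'⟩ := h1 y hy
  refine ⟨k * g⁻¹, A.mul_mem hk (A.inv_mem hg), ?_⟩
  have h2 : (k * g⁻¹) (g v) = k v := congrArg k (g.symm_apply_apply v)
  rcases e with e | e <;> rcases e' with e' | e'
  · exact Or.inl (by rw [← e, h2, e'])
  · exact Or.inr (by rw [← e, h2, e'])
  · exact Or.inr (by rw [← neg_neg x, ← e, map_neg, h2, e'])
  · exact Or.inl (by rw [← neg_neg x, ← e, map_neg, h2, e', neg_neg])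

theorem Pd.trP {A C : Subgroup (V ≃ₗ[F] V)} (h : Pd Q A C) (hE : TrP Q (E Q)) {P : Submodule F V} (hP : An Q P) (hW : Iv C P) :
    TrP Q A := fun P₁ P₂ h₁ h₂ => by
  obtain ⟨s, hs, rfl⟩ := hE P P₁ hP h₁
  obtain ⟨s', hs', rfl⟩ := hE P P₂ hP h₂
  obtain ⟨y, hy, e⟩ := h.move hW hs
  obtain ⟨y', hy', e'⟩ := h.move hW hs'
  refine ⟨y' * y⁻¹, A.mul_mem hy' (A.inv_mem hy), ?_⟩
  rw [← e, ← e', ← Submodule.map_comp]
  congr 1
  ext x
  exact congrArg y' (y.symm_apply_apply x)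

theorem Pd.tr0 {A C : Subgroup (V ≃ₗ[F] V)} (h : Pd Q A C) (hG : Good Q) {v : V} (hv : Q v = 0) (h0 : v ≠ 0)
    (hW : Iv C (F ∙ v)) : Tr0 Q A := by
  have h1 : ∀ x, x ≠ 0 → Q x = 0 → ∃ g ∈ A, ∃ a : F, x = a • g v := fun x x0 hx => by
    obtain ⟨s, hs, e⟩ := hG.trans_sing hv hx h0 x0
    obtain ⟨a, ha, c, hc, rfl⟩ := h.fac s hs
    obtain ⟨k, hk⟩ := Submodule.mem_span_singleton.1 (hW c hc v (Submodule.mem_span_singleton_self v))
    have e' : a (c v) = x := e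
    exact ⟨a, ha, k, by rw [← e', ← hk, map_smul]⟩
  intro x y x0 y0 hx hy
  obtain ⟨g, hg, a, rfl⟩ := h1 x x0 hx
  obtain ⟨k, hk, b, rfl⟩ := h1 y y0 hy
  have hb : b ≠ 0 := fun e => y0 (by rw [e, zero_smul])
  refine ⟨k * g⁻¹, A.mul_mem hk (A.inv_mem hg), a * b⁻¹, ?_⟩
  have h2 : (k * g⁻¹) (g v) = k v := congrArg k (g.symm_apply_apply v)
  rw [map_smul, h2, smul_smul, inv_mul_cancel_right₀ hb]

/-- the unipotent radical of the stabiliser of a totally singular subspace -/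
def Rad (Q : QuadraticForm F V) (W : Submodule F V) : Subgroup (V ≃ₗ[F] V) where
  carrier := {g | g ∈ E Q ∧ (∀ x, g x - x ∈ perp Q W) ∧ (∀ x ∈ perp Q W, g x - x ∈ W) ∧ ∀ x ∈ W, g x = x}
  mul_mem' {a b} ha hb := ⟨(E Q).mul_mem ha.1 hb.1, fun x => by
      have := (perp Q W).add_mem (ha.2.1 (b x)) (hb.2.1 x)
      rwa [sub_add_sub_cancel] at this, fun x hx => by
      have h1 : b x ∈ perp Q W := by
        have := (perp Q W).add_mem (hb.2.1 x) hx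
        rwa [sub_add_cancel] at this
      have := W.add_mem (ha.2.2.1 _ h1) (hb.2.2.1 x hx)
      rwa [sub_add_sub_cancel] at this, fun x hx => by
      show a (b x) = x
      rw [hb.2.2.2 x hx, ha.2.2.2 x hx]⟩
  one_mem' := ⟨(E Q).one_mem, fun x => (sub_self x).symm ▸ Submodule.zero_mem _, fun x _ => (sub_self x).symm ▸ W.zero_mem,
    fun _ _ => rfl⟩
  inv_mem' {a} ha := by
    have h1 : ∀ x, a⁻¹ x - x ∈ perp Q W := fun x => by
      have := (perp Q W).neg_mem (ha.2.1 (a⁻¹ x))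
      rwa [show a (a⁻¹ x) = x from a.apply_symm_apply x, neg_sub] at this
    refine ⟨(E Q).inv_mem ha.1, h1, fun x hx => ?_, fun x hx => a.symm_apply_eq.2 (ha.2.2.2 x hx).symm⟩
    have h2 : a⁻¹ x ∈ perp Q W := by
      have := (perp Q W).add_mem (h1 x) hx
      rwa [sub_add_cancel] at this
    have := W.neg_mem (ha.2.2.1 _ h2)
    rwa [show a (a⁻¹ x) = x from a.apply_symm_apply x, neg_sub] at this

theorem Rad.pow {g : V ≃ₗ[F] V} (hg : g ∈ Rad Q W) (n : ℕ) (x : V) :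
    (g ^ n) x = x + (n : F) • (g x - x) + (n.choose 2 : F) • (g (g x - x) - (g x - x)) := by
  have h1 := hg.2.2.2 _ (hg.2.2.1 _ (hg.2.1 x))
  induction n with
  | zero => simp
  | succ n ih =>
    rw [pow_succ', LinearEquiv.mul_apply, ih, map_add, map_add, map_smul, map_smul, h1, Nat.choose_succ_succ',
      Nat.choose_one_right]
    push_cast
    module

theorem Rad.isPGroup (Q : QuadraticForm F V) (W : Submodule F V) : IsPGroup (ringChar F) (Rad Q W) := fun g => by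
  refine ⟨2, Subtype.ext (LinearEquiv.ext fun x => ?_)⟩
  have h1 : ((ringChar F : ℕ) : F) = 0 := ringChar.Nat.cast_ringChar
  have h2 : ringChar F ∣ (ringChar F ^ 2).choose 2 := by
    have hp : (ringChar F).Prime := CharP.char_is_prime F _
    rcases hp.eq_two_or_odd' with e | e
    · rw [e]; decide
    · refine (Nat.Coprime.dvd_mul_left (m := 2) (Nat.coprime_two_right.2 e)).1 ?_
      rw [Nat.choose_two_right, Nat.mul_div_cancel' (Nat.even_mul_pred_self _).two_dvd]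
      exact (dvd_pow_self _ two_ne_zero).mul_right _
  show (g.1 ^ ringChar F ^ 2) x = x
  rw [Rad.pow g.2, (ringChar.spec F _).2 h2, (ringChar.spec F _).2 (dvd_pow_self _ two_ne_zero)]
  simp

theorem Rad.conj {γ : Gam Q} (h : img γ W = W) {g : V ≃ₗ[F] V} (hg : g ∈ Rad Q W) : conjLin γ g ∈ Rad Q W := by
  obtain ⟨σ, c, hγ⟩ := γ.2
  have h' : img γ (perp Q W) = perp Q W := by rw [img_perp, h]
  refine ⟨conjLin_mem_E γ hg.1, fun x => ?_, fun x hx => ?_, fun x hx => ?_⟩ <;> obtain ⟨x, rfl⟩ := γ.1.surjective x <;>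
    rw [conjLin_apply']
  · rw [← hγ.sub, ← h', mem_img_iff]; exact hg.2.1 x
  · rw [← h', mem_img_iff] at hx
    rw [← hγ.sub, ← h, mem_img_iff]; exact hg.2.2.1 x hx
  · rw [← h, mem_img_iff] at hx
    rw [hg.2.2.2 x hx]

theorem siegel_fix {u w x : V} (hu : Q u = 0) (hw : polar Q u w = 0) (h1 : polar Q u x = 0) (h2 : polar Q w x = 0) :
    siegel Q u w hu hw x = x := by
  rw [siegel_apply, h1, h2]
  simp

theorem siegel_sub_mem {u w : V} (hu : Q u = 0) (hw : polar Q u w = 0) (h1 : u ∈ W) (h2 : w ∈ W) (x : V) :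
    siegel Q u w hu hw x - x ∈ W := by
  have : siegel Q u w hu hw x - x = polar Q u x • w - polar Q w x • u - (Q w * polar Q u x) • u := by
    rw [siegel_apply]; abel
  rw [this]
  exact W.sub_mem (W.sub_mem (W.smul_mem _ h2) (W.smul_mem _ h1)) (W.smul_mem _ h1)

theorem siegel_mem {u w : V} (hu : Q u = 0) (hw : polar Q u w = 0) (h1 : u ∈ W) (h2 : w ∈ W) {x : V} (hx : x ∈ W) :
    siegel Q u w hu hw x ∈ W := by
  have := W.add_mem (siegel_sub_mem hu hw h1 h2 x) hx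
  rwa [sub_add_cancel] at this

theorem siegel_ne_one (hG : Good Q) {u w : V} (hu : Q u = 0) (hw : polar Q u w = 0) (h0 : u ≠ 0) (h1 : w ∉ F ∙ u) :
    ps Q ⟨siegel Q u w hu hw, siegel_mem_E hu hw⟩ ≠ 1 := by
  obtain ⟨y, h2, h3⟩ := exists_sep hG.nondeg (x := w) (z := u) fun c e => h1 (e ▸ Submodule.smul_mem _ _
    (Submodule.mem_span_singleton_self u))
  refine ps_ne_one hG h0 (siegel_fix hu hw (polar_self_of_sing hu) (polar_zero_of_comm hw)) (x := y) fun k => h0 ?_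
  have k' : siegel Q u w hu hw y = y := k
  rw [siegel_apply, h2, h3] at k'
  simpa using k'

theorem exists_not_mem_span {U : Submodule F V} (h : 2 ≤ finrank F U) (u : V) : ∃ w ∈ U, w ∉ F ∙ u := by
  by_contra k
  push Not at k
  have h1 := (Submodule.finrank_mono (show U ≤ F ∙ u from k)).trans (finrank_span_le_card ({u} : Set V))
  simp at h1
  omega

theorem conj_Sg {γ : Gam Q} {v : V} (h : img γ (F ∙ v) = F ∙ v) {g : V ≃ₗ[F] V} (hg : g ∈ Sg Q v) : conjLin γ g ∈ Sg Q v := by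
  obtain ⟨σ, c, hγ⟩ := γ.2
  have h1 : ∀ u, polar Q u v = 0 → polar Q (γ.1 u) v = 0 := fun u hu => by
    obtain ⟨y, hy, e⟩ : v ∈ img γ (F ∙ v) := h.symm ▸ Submodule.mem_span_singleton_self v
    obtain ⟨a, rfl⟩ := Submodule.mem_span_singleton.1 hy
    conv_lhs => rw [← e]
    rw [gam_polar, polar_smul_right, hu, smul_zero]
  induction hg using Subgroup.closure_induction with
  | mem x hx =>
    obtain ⟨u, w, hu, hw, h2, h3, rfl⟩ := hx
    obtain ⟨hu', hw', e⟩ := conjLin_siegel γ hγ hu hw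
    rw [e]
    exact H826.Rg.siegel_mem_Sg hu' hw' (h1 u h2) (by rw [polar_smul_left, h1 w h3, smul_zero])
  | one => rw [conjLin_one]; exact one_mem _
  | mul x y _ _ hx hy => rw [conjLin_mul]; exact mul_mem hx hy
  | inv x _ hx => rw [conjLin_inv]; exact inv_mem hx

theorem siegel_swap {u w : V} (hu : Q u = 0) (hw : Q w = 0) (h : polar Q u w = 0) (h' : polar Q w (-u) = 0) :
    siegel Q u w hu h = siegel Q w (-u) hw h' := by
  ext x
  rw [siegel_apply, siegel_apply, hw, QuadraticMap.map_neg, hu, polar_neg_left]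
  module

theorem siegel_mem_Sw {u w : V} (hu : Q u = 0) (hw : polar Q u w = 0) (h1 : u ∈ W) (h2 : w ∈ W') :
    siegel Q u w hu hw ∈ Sw Q W W' := subset_closure ⟨u, w, hu, hw, h1, h2, rfl⟩

theorem Sw_le {K : Subgroup (V ≃ₗ[F] V)}
    (h : ∀ (u w : V) (hu : Q u = 0) (hw : polar Q u w = 0), u ∈ W → w ∈ W' → siegel Q u w hu hw ∈ K) : Sw Q W W' ≤ K :=
  (closure_le _).2 (by rintro _ ⟨u, w, hu, hw, h1, h2, rfl⟩; exact h u w hu hw h1 h2)

theorem Sw_le_E : Sw Q W W' ≤ E Q := Sw_le fun _ _ hu hw _ _ => siegel_mem_E hu hw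

theorem Sw_comm (h : Ts Q W') : Sw Q W W' ≤ Sw Q W' W := Sw_le fun u w hu hw h1 h2 => by
  rw [siegel_swap hu (h w h2) hw (by rw [polar_neg_right, polar_zero_of_comm hw, neg_zero])]
  exact siegel_mem_Sw _ _ h2 (W.neg_mem h1)

theorem conj_Sw' {γ : Gam Q} {g : V ≃ₗ[F] V} (hg : g ∈ Sw Q W W') : conjLin γ g ∈ Sw Q (img γ W) (img γ W') := by
  obtain ⟨σ, c, hγ⟩ := γ.2
  induction hg using Subgroup.closure_induction with
  | mem x hx =>
    obtain ⟨u, w, hu, hw, h2, h3, rfl⟩ := hx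
    obtain ⟨hu', hw', e⟩ := conjLin_siegel γ hγ hu hw
    rw [e]
    exact siegel_mem_Sw hu' hw' (mem_img_iff.2 h2) (Submodule.smul_mem _ _ (mem_img_iff.2 h3))
  | one => rw [conjLin_one]; exact one_mem _
  | mul x y _ _ hx hy => rw [conjLin_mul]; exact mul_mem hx hy
  | inv x _ hx => rw [conjLin_inv]; exact inv_mem hx

theorem conj_Sw (h : Hf Q m W W') {γ : Gam Q} (hγ : (img γ W = W ∧ img γ W' = W') ∨ (img γ W = W' ∧ img γ W' = W))
    {g : V ≃ₗ[F] V} (hg : g ∈ Sw Q W W') : conjLin γ g ∈ Sw Q W W' := by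
  have h1 := conj_Sw' (γ := γ) hg
  rcases hγ with ⟨e, e'⟩ | ⟨e, e'⟩ <;> rw [e, e'] at h1
  exacts [h1, Sw_comm h.ts h1]

/-- the Siegel elements of a pair of halves fix both halves -/
theorem Hf.siegel_mem (h : Hf Q m W W') {u w : V} (hu : Q u = 0) (hw : polar Q u w = 0) (h1 : u ∈ W) (h2 : w ∈ W') :
    (∀ x ∈ W, siegel Q u w hu hw x ∈ W) ∧ ∀ x ∈ W', siegel Q u w hu hw x ∈ W' := by
  refine ⟨fun x hx => ?_, fun x hx => ?_⟩
  · rw [siegel_apply, h.ts.le_perp hx u h1]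
    simpa using W.sub_mem hx (W.smul_mem _ h1)
  · rw [siegel_apply, h.ts'.le_perp hx w h2, h.ts' w h2]
    simpa using W'.add_mem hx (W'.smul_mem _ h2)

theorem Hf.eq_zero (h : Hf Q m W W') {x : V} (h1 : x ∈ W) (h2 : x ∈ W') : x = 0 :=
  (Submodule.mem_bot F).1 (h.inf ▸ (⟨h1, h2⟩ : x ∈ W ⊓ W'))

theorem Hf.symm (h : Hf Q m W W') : Hf Q m W' W := ⟨h.ts', h.ts, h.dim', h.dim, (inf_comm _ _).trans h.inf⟩

theorem Hf.iv (h : Hf Q m W W') : Iv (Sw Q W W') W := by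
  intro g hg
  induction hg using Subgroup.closure_induction with
  | mem x hx =>
    obtain ⟨u, w, hu, hw, h2, h3, rfl⟩ := hx
    exact (h.siegel_mem hu hw h2 h3).1
  | one => exact fun _ k => k
  | mul x y _ _ hx hy => exact fun w k => hx _ (hy w k)
  | inv x _ hx =>
    intro w k
    obtain ⟨y, hy, rfl⟩ : w ∈ W.map (x : V →ₗ[F] V) := (map_eq_of_mem hx).symm ▸ k
    exact (x.symm_apply_apply y).symm ▸ hy

theorem Hf.iv' (h : Hf Q m W W') : Iv (Sw Q W W') W' := fun g hg => h.symm.iv g (Sw_comm h.ts' hg)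

theorem Hf.sup (h : Hf Q m W W') (hp : Pl Q m) : W ⊔ W' = ⊤ := by
  have h1 := Submodule.finrank_sup_add_finrank_inf_eq W W'
  rw [h.inf, finrank_bot, h.dim, h.dim'] at h1
  exact Submodule.eq_top_of_finrank_eq (by rw [hp.dim]; omega)

end fin

/-! ### the frame -/

section frame

variable {F V : Type} [Field F] [Fintype F] [AddCommGroup V] [Module F V] [FiniteDimensional F V] {Q : QuadraticForm F V}
  {m : ℕ} {M H T B X : Subgroup (Au Q)} {N : Subgroup (V ≃ₗ[F] V)} {W W' : Submodule F V}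

theorem covBy_mem {Γ : Type} [Group Γ] {A C K : Subgroup Γ} (h : A ⋖ C) (h1 : A ≤ K) (h2 : ¬ C ≤ K) {x : Γ} (hx : x ∈ C)
    (hK : x ∈ K) : x ∈ A := by
  rcases h.eq_or_eq (le_inf h.le h1) (inf_le_left (b := K)) with e | e
  · exact e ▸ (⟨hx, hK⟩ : x ∈ C ⊓ K)
  · exact (h2 (inf_eq_left.1 e)).elim

namespace Fr

variable (f : Fr Q m M H T B)
include f

theorem innM : inn Q ≤ M := f.fac.asM.le

theorem TH : T ≤ H := f.fac.asH.le

theorem psM (g : ↥(E Q)) : ps Q g ∈ M := f.innM (ps_mem_inn g)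

theorem pd' {Y : Subgroup (Au Q)} (h1 : T ≤ Y) (h2 : Y ≤ H) : Pd Q (l0 Y) (l0 B) where
  leX := l0_le_E
  leY := l0_le_E
  neX := fun h => f.fac.nH (by rintro _ ⟨g, rfl⟩; exact h2 (mem_l0'.1 (h g.2)))
  neY := fun h => f.fac.nB (by rintro _ ⟨g, rfl⟩; exact mem_l0'.1 (h g.2))
  fac := fun s hs => by
    obtain ⟨t, ht, b, hb, e⟩ := f.fac.fac _ (ps_mem_inn ⟨s, hs⟩)
    obtain ⟨g, rfl⟩ := f.fac.le ht
    refine ⟨g.1, mem_l0'.2 (h1 ht), (g⁻¹ * ⟨s, hs⟩).1, mem_l0'.2 ?_, (mul_inv_cancel_left _ _).symm⟩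
    rw [map_mul, map_inv, e, inv_mul_cancel_left]
    exact hb

theorem pd : Pd Q (l0 T) (l0 B) := f.pd' le_rfl f.TH

theorem pdH : Pd Q (l0 H) (l0 B) := f.pd' f.TH le_rfl

theorem maxH {K : Subgroup (Au Q)} (h1 : H ≤ K) (h2 : ¬ inn Q ≤ K) {x : Au Q} (hx : x ∈ M) (hK : x ∈ K) : x ∈ H :=
  covBy_mem f.fac.hm h1 (fun k => h2 (f.innM.trans k)) hx hK

theorem maxB {K : Subgroup (Au Q)} (h1 : B ≤ K) (h2 : ¬ inn Q ≤ K) {x : Au Q} (hx : x ∈ M) (hK : x ∈ K) : x ∈ B :=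
  covBy_mem f.fac.bm h1 (fun k => h2 (f.innM.trans k)) hx hK

theorem maxA {K : Subgroup (Au Q)} (h1 : H ⊓ B ≤ K) (h2 : ¬ H ≤ K) {x : Au Q} (hx : x ∈ H) (hK : x ∈ K) : x ∈ B :=
  (covBy_mem f.fac.pr h1 h2 hx hK).2

theorem stbH (hW : Fx H W) (h0 : W ≠ ⊥) (h1 : W ≠ ⊤) {x : Au Q} (hx : x ∈ M) (hK : x ∈ stb Q W) : x ∈ H :=
  f.maxH (hW.le_stb f.surj) (not_inn_le_stb f.good h0 h1) hx hK

theorem stbB (hW : Fx B W) (h0 : W ≠ ⊥) (h1 : W ≠ ⊤) {x : Au Q} (hx : x ∈ M) (hK : x ∈ stb Q W) : x ∈ B :=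
  f.maxB (hW.le_stb f.surj) (not_inn_le_stb f.good h0 h1) hx hK

theorem memH (hW : Fx H W) (h0 : W ≠ ⊥) (h1 : W ≠ ⊤) {g : V ≃ₗ[F] V} (hg : g ∈ E Q) (h : ∀ w ∈ W, g w ∈ W) : g ∈ l0 H :=
  mem_l0.2 ⟨hg, f.stbH hW h0 h1 (f.psM _) ((ps_mem_stb f.good).2 (map_eq_of_mem h))⟩

theorem memB (hW : Fx B W) (h0 : W ≠ ⊥) (h1 : W ≠ ⊤) {g : V ≃ₗ[F] V} (hg : g ∈ E Q) (h : ∀ w ∈ W, g w ∈ W) : g ∈ l0 B :=
  mem_l0.2 ⟨hg, f.stbB hW h0 h1 (f.psM _) ((ps_mem_stb f.good).2 (map_eq_of_mem h))⟩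

/-- `A` fixes `W`, `l0 H` does not -/
theorem memA (hW : Fx (H ⊓ B) W) (h0 : ¬ Iv (l0 H) W) {g : V ≃ₗ[F] V} (hg : g ∈ l0 H) (h : ∀ w ∈ W, g w ∈ W) : g ∈ l0 B :=
  mem_l0.2 ⟨l0_le_E hg, f.maxA (hW.le_stb f.surj) (fun k => h0 (fx_of_le f.good k).iv) (mem_l0.1 hg).2
    ((ps_mem_stb f.good).2 (map_eq_of_mem h))⟩

theorem conjT {γ : Gam Q} (h : Psi Q γ ∈ H) {g : V ≃ₗ[F] V} (hg : g ∈ l0 T) : conjLin γ g ∈ l0 T :=
  conj_l0 (f.fac.asH.conj _ h) hg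

/-- a non-scalar subgroup normalised by `T` covers `T` -/
theorem big (hN : N ≤ l0 H) (hc : ∀ g ∈ l0 T, ∀ n ∈ N, g * n * g⁻¹ ∈ N) {x : ↥(E Q)} (hx : x.1 ∈ N) (h1 : ps Q x ≠ 1) :
    T ≤ i0 Q N := by
  refine f.fac.asH.le_of_conj (i0_le hN) (fun t ht y hy => ?_) fun k => h1 ((Subgroup.mem_bot).1 (k ▸ ps_mem_i0 hx))
  obtain ⟨g, rfl⟩ := f.fac.le ht
  exact conj_i0 (γ := lg g) (fun n hn => hc g.1 (mem_l0'.2 ht) n hn) hy

theorem big' (hN : N ≤ l0 H) (hc : ∀ γ : Gam Q, Psi Q γ ∈ H → ∀ n ∈ N, conjLin γ n ∈ N) {x : ↥(E Q)} (hx : x.1 ∈ N)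
    (h1 : ps Q x ≠ 1) : T ≤ i0 Q N :=
  f.big hN (fun g hg => hc (lg ⟨g, l0_le_E hg⟩) (f.TH (mem_l0.1 hg).2)) hx h1

theorem not_pgroup {p : ℕ} (hp : p.Prime) (h : T ≤ i0 Q N) : ¬ IsPGroup p N := fun k => by
  haveI := Fact.mk hp
  haveI := fin_au Q
  have h1 : IsPGroup p (N.subgroupOf (E Q)) := k.comap_subtype
  have h2 : IsPGroup p T := (h1.map (ps Q)).to_le h
  haveI := h2.isNilpotent
  exact f.fac.asH.not_solvable inferInstance

theorem T_eq (hN : N ≤ l0 H) (h : T ≤ i0 Q N) (hs : IsSimpleGroup (i0 Q N)) : T = i0 Q N := by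
  have h1 : (T.subgroupOf (i0 Q N)).Normal := ⟨fun n hn g => f.fac.asH.conj g (i0_le hN g.2) n hn⟩
  rcases h1.eq_bot_or_eq_top with e | e
  · refine (f.fac.asH.ne_bot (eq_bot_iff.2 fun t ht => ?_)).elim
    have h2 : (⟨t, h ht⟩ : i0 Q N) ∈ T.subgroupOf (i0 Q N) := ht
    rw [e] at h2
    exact congrArg Subtype.val (Subgroup.mem_bot.1 h2)
  · exact le_antisymm h (subgroupOf_eq_top.1 e)

/-- an element of `M` commuting with `N` modulo scalars is a scalar -/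
theorem cen (h : T ≤ i0 Q N) {γ : Gam Q} (hγ : Psi Q γ ∈ M) (hc : ∀ n ∈ N, ∃ a : F, ∀ x, γ.1 (n x) = a • n (γ.1 x)) :
    Psi Q γ = 1 :=
  f.fac.cen hγ fun t ht => comm_i0 f.good hc t (h ht)

/-- **CT**: a semisimilitude commuting with `T` which keeps the orbit of `W` is a scalar -/
theorem ct (hW : Fx B W) (h0 : W ≠ ⊥) (h1 : W ≠ ⊤) {γ : Gam Q} (hc : ∀ t ∈ T, Psi Q γ * t = t * Psi Q γ)
    {s : V ≃ₗ[F] V} (hs : s ∈ E Q) (e : img γ W = W.map (s : V →ₗ[F] V)) : Psi Q γ = 1 := by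
  haveI := fin_au Q
  have hG := f.good
  obtain ⟨t, ht, e'⟩ := f.pd.move hW.iv hs
  obtain ⟨t1, t2⟩ := mem_l0.1 ht
  set g : ↥(E Q) := ⟨t, t1⟩
  have e1 : img γ W = img (lg g) W := by rw [e, ← e', img_lg]
  have hδ : Psi Q ((lg g)⁻¹ * γ) ∈ stb Q W := (mem_stb hG).2 (by rw [img_mul, e1, img_inv_img])
  have hn : (ps Q g)⁻¹ ∈ normalizer ((T ⊓ B : Subgroup (Au Q)) : Set (Au Q)) := by
    refine mem_normalizer_fintype fun y hy => ?_
    have h2 : (ps Q g)⁻¹ * y * (ps Q g)⁻¹⁻¹ ∈ T := T.mul_mem (T.mul_mem (T.inv_mem t2) hy.1) (T.inv_mem (T.inv_mem t2))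
    refine ⟨h2, f.stbB hW h0 h1 (f.innM (f.fac.le h2)) ?_⟩
    have h3 : (ps Q g)⁻¹ * y * (ps Q g)⁻¹⁻¹ = Psi Q ((lg g)⁻¹ * γ) * y * (Psi Q ((lg g)⁻¹ * γ))⁻¹ := by
      rw [map_mul, map_inv, ← ps_apply, mul_assoc _ (Psi Q γ), hc y hy.1]
      group
    rw [h3]
    exact mul_mem (mul_mem hδ (hW.le_stb f.surj hy.2)) (inv_mem hδ)
  have h4 := (f.fac.asH.mem_of_norm f.fac.pr f.fac.not_le (Y := T ⊓ B) (inf_le_inf_right _ f.TH) f.fac.nb
    (fun a ha x hx => f.fac.conjA ha hx) (H.inv_mem (f.TH t2)) hn).2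
  have h5 : img γ W = W := e1.trans (hW _ (B.inv_mem_iff.1 h4))
  have h6 : ∀ k : ↥(E Q), Psi Q γ ∈ stb Q (img (lg k) W) := fun k => by
    obtain ⟨y, hy, ey⟩ := f.pd.move hW.iv k.2
    obtain ⟨y1, y2⟩ := mem_l0.1 hy
    rw [mem_stb hG, img_lg, ← ey, ← img_lg ⟨y, y1⟩, ← img_mul,
      img_eq_of_Psi hG (N := lg ⟨y, y1⟩ * γ) (by rw [map_mul, map_mul]; exact hc _ y2), img_mul, h5]
  let K : Subgroup (Au Q) := inn Q ⊓ ⨅ k : ↥(E Q), stb Q (img (lg k) W)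
  have h7 : ∀ a k : ↥(E Q), ∀ x ∈ stb Q (img (lg (a⁻¹ * k)) W), ps Q a * x * (ps Q a)⁻¹ ∈ stb Q (img (lg k) W) := by
    rintro a k _ ⟨δ, hδ, rfl⟩
    refine ⟨lg a * δ * (lg a)⁻¹, ?_, by rw [map_mul, map_mul, map_inv]; rfl⟩
    have h8 : img (lg (a⁻¹ * k)) W = img (lg a)⁻¹ (img (lg k) W) := img_mul (lg a)⁻¹ (lg k) W
    show img _ _ = _
    rw [img_mul, img_mul, ← h8, show img δ _ = _ from hδ, h8, img_img_inv]
  have h9 : K = ⊥ := by
    by_contra k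
    refine not_inn_le_stb hG h0 h1 ((f.fac.asM.le_of_conj (inf_le_left.trans f.innM) ?_ k).trans
      (inf_le_right.trans ((iInf_le _ 1).trans (le_of_eq (congrArg _ (img_one W))))))
    rintro _ ⟨a, rfl⟩ x hx
    exact ⟨(inn Q).mul_mem ((inn Q).mul_mem (ps_mem_inn a) hx.1) ((inn Q).inv_mem (ps_mem_inn a)),
      Subgroup.mem_iInf.2 fun k => h7 a k x (Subgroup.mem_iInf.1 hx.2 _)⟩
  refine eq_one_of_comm_inn hG ?_
  rintro _ ⟨a, rfl⟩
  have h10 : Psi Q γ * ps Q a * (Psi Q γ)⁻¹ * (ps Q a)⁻¹ ∈ K := ⟨by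
      rw [← ps_conj]
      exact (inn Q).mul_mem (ps_mem_inn _) ((inn Q).inv_mem (ps_mem_inn a)), Subgroup.mem_iInf.2 fun k => by
      rw [mul_assoc, mul_assoc, ← mul_assoc (ps Q a)]
      exact mul_mem (h6 k) (h7 a k _ (inv_mem (h6 _)))⟩
  rw [h9, Subgroup.mem_bot, mul_inv_eq_one, mul_inv_eq_iff_eq_mul] at h10
  exact h10

/-- **PAR**: `H` fixes no totally singular subspace -/
theorem par (hW : Fx H W) (h0 : W ≠ ⊥) (ht : Ts Q W) : False := by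
  have hG := f.good
  have h1 := Submodule.finrank_mono ht.le_perp
  have h2 := H955.finrank_add_perp hG.nondeg W
  have h3 := f.dim
  have h4 := f.five
  have h5 : W ≠ ⊤ := fun k => by
    rw [k, finrank_top] at h1 h2
    omega
  obtain ⟨u, hu, u0⟩ := Submodule.exists_mem_ne_zero_of_ne_bot h0
  obtain ⟨w, hw, h6⟩ := exists_not_mem_span (U := perp Q W) (by omega) u
  have h7 : siegel Q u w (ht u hu) (hw u hu) ∈ Rad Q W := ⟨siegel_mem_E _ _, siegel_sub_mem _ _ (ht.le_perp hu) hw,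
    fun x hx => by
      rw [siegel_apply, hx u hu]
      simpa using W.smul_mem _ hu,
    fun x hx => siegel_fix _ _ (ht.le_perp hx u hu) (mem_perp'.1 hw x hx)⟩
  exact f.not_pgroup (CharP.char_is_prime F _) (f.big' (N := Rad Q W)
    (fun g hg => f.memH hW h0 h5 hg.1 fun x hx => (hg.2.2.2 x hx).symm ▸ hx) (fun γ hγ n hn => Rad.conj (hW γ hγ) hn)
    (x := ⟨_, siegel_mem_E (ht u hu) (hw u hu)⟩) h7 (siegel_ne_one hG _ _ u0 h6)) (Rad.isPGroup Q W)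

/-- **PL**: `T` does not fix two independent vectors of the same norm -/
theorem pl (h : T ≤ i0 Q N) (hN : N ≤ O Q) {a b : V} (e : Q a = Q b) (ha : Q a ≠ 0) (hb : b ∉ F ∙ a)
    (h1 : ∀ n ∈ N, n a = a) (h2 : ∀ n ∈ N, n b = b) : False := by
  have hG := f.good
  have hb0 : Q b ≠ 0 := e ▸ ha
  have h3 : ∀ n ∈ N, ∀ {c : V} (hc : Q c ≠ 0), n c = c → ∀ x, refl Q c hc (n x) = n (refl Q c hc x) := fun n hn c hc k x => by
    rw [refl_apply, refl_apply, map_sub, map_smul, k]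
    conv_lhs => rw [← k, polar_map (hN hn), k]
  let g : ↥(E Q) := ⟨_, hG.refl_mul_refl_mem ha hb0 e⟩
  have h4 : ps Q g = 1 := f.cen h (γ := lg g) (f.psM g) fun n hn => ⟨1, fun x => by
    show refl Q b hb0 (refl Q a ha (n x)) = (1 : F) • n (refl Q b hb0 (refl Q a ha x))
    rw [h3 n hn ha (h1 n hn), h3 n hn hb0 (h2 n hn), one_smul]⟩
  obtain ⟨u, u0, hu⟩ := exists_perp_ne (Q := Q) ![a, b] (by have := hG.dim; omega)
  obtain ⟨y, y1, y2⟩ := exists_sep hG.nondeg (x := b) (z := a) fun c k => hb (k ▸ Submodule.smul_mem _ _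
    (Submodule.mem_span_singleton_self a))
  refine ps_ne_one hG u0 ?_ (x := y) (fun k => ?_) h4
  · show refl Q b hb0 (refl Q a ha u) = u
    have u1 : polar Q a u = 0 := hu 0
    have u2 : polar Q b u = 0 := hu 1
    simp [refl_apply, u1, u2]
  · have k' : refl Q b hb0 (refl Q a ha y) = y := k
    simp only [refl_apply, y1, y2, mul_zero, zero_smul, sub_zero, mul_one, sub_eq_self, smul_eq_zero, inv_eq_zero] at k'
    exact hb0 (k'.elim id fun k => by rw [k, map_zero])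

/-- `T` fixes no subspace of small dimension containing two such vectors -/
theorem pl_of_el {D : Submodule F V} (hD : Iv (l0 T) D) {e r : ℕ} (hr : PP (Nat.card F) e r) (he : finrank F D < e)
    (hx : El (l0 T) r) {a b : V} (ha : a ∈ D) (hb : b ∈ D) (h : Q a = Q b) (h0 : Q a ≠ 0) (hab : b ∉ F ∙ a) : False := by
  have h1 : 2 ≤ finrank F D := by
    by_contra k
    have h2 : (F ∙ a) = D := Submodule.eq_of_le_of_finrank_le ((Submodule.span_singleton_le_iff_mem a D).2 ha) (by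
      rw [finrank_span_singleton (fun k => h0 (by rw [k, map_zero]))]; omega)
    exact hab (h2 ▸ hb)
  obtain ⟨x, hx, ho⟩ := hx
  let K : Subgroup (V ≃ₗ[F] V) := l0 T ⊓ ⨅ d : D, MulAction.stabilizer (V ≃ₗ[F] V) (d : V)
  have hK : ∀ {g}, g ∈ K ↔ g ∈ l0 T ∧ ∀ d ∈ D, g d = d := by
    intro g
    rw [Subgroup.mem_inf, Subgroup.mem_iInf]
    exact and_congr_right fun _ => ⟨fun k d hd => k ⟨d, hd⟩, fun k d => k d.1 d.2⟩
  have h3 : x ∈ K := hK.2 ⟨hx, H826.RgF.fix_pow hr (by omega) he 1 x (hD x hx) (by rw [pow_one, ← ho, pow_orderOf_eq_one])⟩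
  have h4 := hr.lt (by omega)
  refine f.pl (N := K) (f.big (inf_le_left.trans (l0_mono f.TH)) (fun g hg n hn => hK.2 ⟨mul_mem (mul_mem hg hn.1) (inv_mem hg),
    fun d hd => ?_⟩) (x := ⟨x, l0_le_E hx⟩) h3 (ps_ne_one_of_order f.good ho (by omega))) (inf_le_left.trans l0_le_O) h h0 hab
    (fun n hn => (hK.1 hn).2 a ha) fun n hn => (hK.1 hn).2 b hb
  show g (n (g⁻¹ d)) = d
  rw [(hK.1 hn).2 _ (hD _ (inv_mem hg) d hd)]
  exact g.apply_symm_apply d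

theorem Sg_le_H {v : V} (hv : Q v ≠ 0) (h : Fx H (F ∙ v)) : Sg Q v ≤ l0 H := fun g hg =>
  f.memH h (span_ne_bot hv) (f.span_ne_top v) (H826.Rg.Sg_le_E v hg) fun w hw => by
    obtain ⟨a, rfl⟩ := Submodule.mem_span_singleton.1 hw
    rw [map_smul, (H826.Rg.Sg_le_St v hg).2]
    exact hw

theorem T_le_Sg {v : V} (hv : Q v ≠ 0) (h : Fx H (F ∙ v)) : T ≤ i0 Q (Sg Q v) := by
  have h3 := f.dim
  have h4 := f.five
  obtain ⟨u, u0, u1, u2⟩ := LieClassical.OrthFinite.exists_sing_perp (Q := Q) ![v] (by omega)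
  have h5 := H955.finrank_add_perp f.good.nondeg (Submodule.span F {u, v})
  have h6 : finrank F (Submodule.span F ({u, v} : Set V)) ≤ 2 := by
    classical
    exact (finrank_span_le_card _).trans (by simpa using Finset.card_le_two)
  obtain ⟨w, hw, h7⟩ := exists_not_mem_span (U := perp Q (Submodule.span F {u, v})) (by omega) u
  have h8 : polar Q u w = 0 := hw u (Submodule.subset_span (by simp))
  exact f.big' (f.Sg_le_H hv h) (fun γ hγ n hn => conj_Sg (h γ hγ) hn) (x := ⟨_, siegel_mem_E u1 h8⟩)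
    (H826.Rg.siegel_mem_Sg u1 h8 (polar_zero_of_comm (u2 0)) (polar_zero_of_comm (hw v (Submodule.subset_span (by simp)))))
    (siegel_ne_one f.good _ _ u0 h7)

theorem not_inn_le_spr (h : Hf Q m W W') : ¬ inn Q ≤ spr Q W W' := fun k => by
  have h4 := f.five
  have h0 : W ≠ ⊥ := fun e => by have := h.dim; rw [e, finrank_bot] at this; omega
  obtain ⟨u, hu, u0⟩ := Submodule.exists_mem_ne_zero_of_ne_bot h0
  obtain ⟨w, hw, h1⟩ := exists_not_mem_span (U := W) (by rw [h.dim]; omega) u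
  have h2 : polar Q u w = 0 := h.ts.le_perp hw u hu
  have h3 : ∀ x ∈ W, siegel Q u w (h.ts u hu) h2 x = x := fun x hx =>
    siegel_fix _ _ (h.ts.le_perp hx u hu) (h.ts.le_perp hx w hw)
  have h5 : ∀ x ∈ W', siegel Q u w (h.ts u hu) h2 x ∈ W' := by
    rcases (mem_spr f.good).1 (k (ps_mem_inn ⟨_, siegel_mem_E (h.ts u hu) h2⟩)) with ⟨-, e⟩ | ⟨e, -⟩
    · exact fun x hx => e.le ⟨x, hx, rfl⟩
    · exact (u0 (h.eq_zero hu (e.le ⟨u, hu, h3 u hu⟩))).elim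
  have h6 : ∀ x, siegel Q u w (h.ts u hu) h2 x = x := fun x => by
    obtain ⟨a, ha, b, hb, rfl⟩ := Submodule.mem_sup.1 (h.sup f.toPl ▸ Submodule.mem_top (x := x))
    rw [map_add, h3 a ha, sub_eq_zero.1 (h.eq_zero (siegel_sub_mem (h.ts u hu) h2 hu hw b) (W'.sub_mem (h5 b hb) hb))]
  exact siegel_ne_one f.good (h.ts u hu) h2 u0 h1 ((ps_eq_one_iff f.good).2 (Or.inl h6))

theorem sprH (h : Hf Q m W W')
    (hH : ∀ g : Gam Q, Psi Q g ∈ H → (img g W = W ∧ img g W' = W') ∨ (img g W = W' ∧ img g W' = W))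
    {x : Au Q} (hx : x ∈ M) (hK : x ∈ spr Q W W') : x ∈ H :=
  f.maxH (fun y hy => by
    obtain ⟨γ, rfl⟩ := f.surj y
    exact ⟨γ, hH γ hy, rfl⟩) (f.not_inn_le_spr h) hx hK

theorem Sw_le_H (h : Hf Q m W W')
    (hH : ∀ g : Gam Q, Psi Q g ∈ H → (img g W = W ∧ img g W' = W') ∨ (img g W = W' ∧ img g W' = W)) : Sw Q W W' ≤ l0 H :=
  fun g hg => mem_l0.2 ⟨Sw_le_E hg, f.sprH h hH (f.psM _) ((mem_spr f.good).2 (Or.inl
    ⟨(img_lg _ _).trans (map_eq_of_mem (h.iv g hg)), (img_lg _ _).trans (map_eq_of_mem (h.iv' g hg))⟩))⟩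

theorem T_le_Sw (h : Hf Q m W W')
    (hH : ∀ g : Gam Q, Psi Q g ∈ H → (img g W = W ∧ img g W' = W') ∨ (img g W = W' ∧ img g W' = W)) :
    T ≤ i0 Q (Sw Q W W') := by
  have h4 := f.five
  have h0 : W ≠ ⊥ := fun e => by have := h.dim; rw [e, finrank_bot] at this; omega
  obtain ⟨u, hu, u0⟩ := Submodule.exists_mem_ne_zero_of_ne_bot h0
  have h1 := H955.finrank_add_perp f.good.nondeg (F ∙ u)
  have h2 := Submodule.finrank_sup_add_finrank_inf_eq W' (perp Q (F ∙ u))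
  have h3 := Submodule.finrank_le (W' ⊔ perp Q (F ∙ u))
  rw [finrank_span_singleton u0] at h1
  rw [h.dim'] at h2
  have h5 : W' ⊓ perp Q (F ∙ u) ≠ ⊥ := fun e => by rw [e, finrank_bot] at h2; omega
  obtain ⟨w, hw, w0⟩ := Submodule.exists_mem_ne_zero_of_ne_bot h5
  have h6 : polar Q u w = 0 := hw.2 u (Submodule.mem_span_singleton_self u)
  exact f.big' (f.Sw_le_H h hH) (fun γ hγ n hn => conj_Sw h (hH γ hγ) hn) (x := ⟨_, siegel_mem_E (h.ts u hu) h6⟩)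
    (siegel_mem_Sw (h.ts u hu) h6 hu hw.1) (siegel_ne_one f.good _ _ u0 fun k =>
      w0 (h.eq_zero ((Submodule.span_singleton_le_iff_mem u W).2 hu k) hw.1))

end Fr

end frame

end Cfsg.Agent.SM.Op
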