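import Cfsg.Agent.SM.Op.Defs
import Cfsg.Agent.H248.Cov.Blk

/-!
# SM (S3570), socle `PΩ⁺_{2m}(q)`, `m ≥ 5`: invariant forms, quadratic fields, halves (helper53)

* `Jk.prop_of_sing` : a form vanishing on the singular vectors of `Q` is a multiple of `Q`;
* `Jk.Mx`, `Jk.Mx_eq` : the mixed discriminant of two forms on an anisotropic plane;
* `boxJ_of : BoxPl → BoxJ`, `boxK : BoxK`, `boxHf : BoxHf`.
-/

set_option autoImplicit false
set_option linter.unusedSectionVars false

namespace Cfsg.Agent.SM.Op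

open Module QuadraticMap Cfsg Cfsg.Geo Subgroup
open Cfsg.Agent.LieClassical.OrthCore Cfsg.Agent.LieClassical.OrthTrans
open Cfsg.Agent.LieClassical.OrthFinite (exists_sing_mem)
open Cfsg.Agent.H449.Reg (AExt cj cj_apply cj_apply' finrank_of_equiv)
open Cfsg.Agent.H826.RgF (Iv Rd)
open Cfsg.Agent.H955 (IsPlus perp res mem_perp)
open scoped MatrixGroups Matrix

namespace Jk

variable {F V : Type} [Field F] [AddCommGroup V] [Module F V] {Q : QuadraticForm F V}

theorem Q_comb (Q : QuadraticForm F V) (p r : F) (a b : V) :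
    Q (p • a + r • b) = p * p * Q a + r * r * Q b + p * r * polar Q a b := by
  rw [Q_add, QuadraticMap.map_smul, QuadraticMap.map_smul, polar_smul_left, polar_smul_right]
  simp only [smul_eq_mul]
  ring

theorem polar_comb (Q : QuadraticForm F V) (p r s u : F) (a b : V) :
    polar Q (p • a + r • b) (s • a + u • b) = 2 * p * s * Q a + 2 * r * u * Q b + (p * u + r * s) * polar Q a b := by
  simp only [polar_add_left, polar_add_right, polar_smul_left, polar_smul_right, polar_self', smul_eq_mul, polar_comm Q b a]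
  ring

theorem decomp (e f v : V) : v = proj Q e f v + (polar Q f v • e + polar Q e v • f) := by
  rw [LieClassical.OrthTrans.proj]
  abel

/-! ### forms vanishing on the singular vectors -/

theorem prop_of_sing (hG : Good Q) (Q' : QuadraticForm F V) (h : ∀ x, Q x = 0 → Q' x = 0) : ∃ μ : F, ∀ x, Q' x = μ * Q x := by
  obtain ⟨e, f, hef⟩ := hG.exists_hyp
  obtain ⟨z, w, hzw, h1, h2, h3, h4⟩ := hG.exists_hyp2 hef
  have key : ∀ v, polar Q e v = 0 → polar Q f v = 0 → polar Q' e v = 0 ∧ polar Q' f v = 0 := fun v hev hfv => by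
    refine sing_induction_perp hzw h1 h2 h3 h4 (P := fun v => polar Q' e v = 0 ∧ polar Q' f v = 0)
      (fun a c _ _ _ _ ha hc => ?_) (fun a ha hea hfa => ?_) v hev hfv
    · rw [polar_add_right, polar_add_right, ha.1, ha.2, hc.1, hc.2, add_zero]
      exact ⟨rfl, rfl⟩
    · have h5 := h (e + a) (by rw [Q_add, hef.left, ha, hea]; simp)
      have h6 := h (f + a) (by rw [Q_add, hef.right, ha, hfa]; simp)
      rw [Q_add, h a ha] at h5 h6
      rw [h e hef.left] at h5
      rw [h f hef.right] at h6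
      exact ⟨by simpa using h5, by simpa using h6⟩
  refine ⟨polar Q' e f, fun x => ?_⟩
  obtain ⟨v, hv⟩ : ∃ v, v = proj Q e f x := ⟨_, rfl⟩
  have he : polar Q e v = 0 := hv ▸ polar_proj_left hef x
  have hf : polar Q f v = 0 := hv ▸ polar_proj_right hef x
  obtain ⟨he', hf'⟩ := key v he hf
  have h5 := h _ (sing_vec hef he hf)
  rw [sub_eq_add_neg, ← neg_smul, Q_add, Q_add, QuadraticMap.map_smul, polar_smul_right, polar_add_left, h e hef.left,
    h f hef.right, he', polar_comm Q' v f, hf'] at h5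
  have h6 := decomp (Q := Q) e f x
  rw [← hv] at h6
  generalize polar Q f x = a, polar Q e x = b at h6
  rw [h6, Q_add, Q_add (Q := Q), Q_comb, Q_comb, polar_add_right, polar_add_right, polar_smul_right, polar_smul_right,
    polar_smul_right, polar_smul_right, polar_comm Q' v e, polar_comm Q' v f, polar_comm Q v e, polar_comm Q v f, he, hf, he',
    hf', h e hef.left, h f hef.right, hef.left, hef.right, hef.pair]
  simp only [smul_eq_mul] at h5 ⊢
  linear_combination h5

/-- the polar form of `Q'` vanishes on perpendicular singular vectors -/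
theorem polar_prop (hG : Good Q) (Q' : QuadraticForm F V)
    (h : ∀ z u, Q z = 0 → Q u = 0 → polar Q z u = 0 → polar Q' z u = 0) : ∃ μ : F, ∀ x y, polar Q' x y = μ * polar Q x y := by
  have k1 : ∀ e f, Hyp Q e f → ∀ y, polar Q' e y = polar Q' e f * polar Q e y := fun e f hef y => by
    obtain ⟨z, w, hzw, h1, h2, -, -⟩ := hG.exists_hyp2 hef
    have h3 : polar Q e (y - polar Q e y • f) = 0 := by
      rw [polar_sub_right, polar_smul_right, hef.pair, smul_eq_mul, mul_one, sub_self]
    have h4 := sing_induction_perp hzw h1 h2 h1 h2 (P := fun v => polar Q' e v = 0)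
      (fun a c _ _ _ _ ha hc => by rw [polar_add_right, ha, hc, add_zero]) (fun a ha hea _ => h e a hef.left ha hea) _ h3 h3
    rw [polar_sub_right, polar_smul_right, smul_eq_mul] at h4
    linear_combination h4
  obtain ⟨e, f, hef⟩ := hG.exists_hyp
  have k2 : ∀ x, Hyp Q x e → ∀ y, polar Q' x y = polar Q' e f * polar Q x y := fun x hx y => by
    rw [k1 x e hx, polar_comm Q' x e, k1 e f hef x, hx.pair', mul_one]
  refine ⟨polar Q' e f, fun x y => ?_⟩
  obtain ⟨v, hv⟩ : ∃ v, v = proj Q e f x := ⟨_, rfl⟩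
  have he : polar Q e v = 0 := hv ▸ polar_proj_left hef x
  have hf : polar Q f v = 0 := hv ▸ polar_proj_right hef x
  have h5 := k2 (f + v - Q v • e) ⟨sing_vec hef.symm hf he, hef.left, by
    rw [polar_sub_left, polar_add_left, polar_smul_left, hef.pair', polar_comm Q v e, he, hef.polar_left]
    simp⟩ y
  have h6 := decomp (Q := Q) e f x
  rw [← hv] at h6
  generalize polar Q f x = a, polar Q e x = b at h6
  have h7 := k1 e f hef y
  have h8 := k2 f hef.symm y
  rw [h6]
  simp only [polar_add_left, polar_sub_left, polar_smul_left, smul_eq_mul] at h5 ⊢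
  linear_combination h5 + (a + Q v) * h7 + (b - 1) * h8

/-! ### anisotropic planes -/

/-- the mixed discriminant -/
def Mx (Q' Q : QuadraticForm F V) (a b : V) : F := polar Q' a b * polar Q a b - 2 * Q' a * Q b - 2 * Q a * Q' b

theorem Mx_comb (Q' Q : QuadraticForm F V) (p r s u : F) (a b : V) :
    Mx Q' Q (p • a + r • b) (s • a + u • b) = (p * u - r * s) ^ 2 * Mx Q' Q a b := by
  simp only [Mx, Q_comb, polar_comb]
  ring

theorem Mx_map {Q' : QuadraticForm F V} {g : V ≃ₗ[F] V} (h : g ∈ O Q) (h' : g ∈ O Q') (a b : V) :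
    Mx Q' Q (g a) (g b) = Mx Q' Q a b := by
  simp only [Mx, polar_map h, polar_map h', mem_O.1 h, mem_O.1 h']

/-- an anisotropic pair -/
def Ap (Q : QuadraticForm F V) (a b : V) : Prop := ∀ s t : F, Q (s • a + t • b) = 0 → s = 0 ∧ t = 0

theorem Ap.an {a b : V} (h : Ap Q a b) : An Q (Submodule.span F {a, b}) := by
  have hli : LinearIndependent F ![a, b] := LinearIndependent.pair_iff.2 fun s t e => h s t (by rw [e, map_zero])
  refine ⟨?_, fun x hx h0 => ?_⟩
  · have h1 := finrank_span_eq_card hli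
    rwa [Matrix.range_cons_cons_empty, Fintype.card_fin] at h1
  · obtain ⟨s, t, rfl⟩ := Submodule.mem_span_pair.1 hx
    obtain ⟨rfl, rfl⟩ := h s t h0
    simp

theorem Mx_eq {Y : Subgroup (V ≃ₗ[F] V)} {Q' : QuadraticForm F V} (hY : Y ≤ O Q) (hY' : Y ≤ O Q') (hT : TrP Q Y) {a b a' b' : V}
    (h : Ap Q a b) (hab : Q a = Q b) (ha : Q a' = Q a) (hb : Q b' = Q b) (hp : polar Q a' b' = polar Q a b) :
    Mx Q' Q a' b' = Mx Q' Q a b := by
  have h' : Ap Q a' b' := fun s t e => h s t (by rw [Q_comb] at e ⊢; rw [← ha, ← hb, ← hp, e])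
  obtain ⟨g, hg, e⟩ := hT _ _ h.an h'.an
  have m : ∀ x ∈ Submodule.span F {a, b}, ∃ s t : F, s • a' + t • b' = g x := fun x hx =>
    Submodule.mem_span_pair.1 (e ▸ Submodule.mem_map_of_mem hx)
  obtain ⟨p, r, e1⟩ := m a (Submodule.subset_span (by simp))
  obtain ⟨s, u, e2⟩ := m b (Submodule.subset_span (by simp))
  have h1 := Mx_map (hY hg) (hY hg) a b
  have h2 := Mx_map (hY hg) (hY' hg) a b
  rw [← e1, ← e2, Mx_comb] at h1 h2
  have h3 : Mx Q Q a' b' = Mx Q Q a b := by simp only [Mx, ha, hb, hp]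
  have h4 : Mx Q Q a b ≠ 0 := fun h0 => by
    have h5 : Q ((1 : F) • a + (1 : F) • b) * Q ((1 : F) • a + (-1 : F) • b) = 0 := by
      rw [Q_comb, Q_comb, ← hab]
      rw [Mx, ← hab] at h0
      linear_combination -h0
    rcases mul_eq_zero.1 h5 with h6 | h6 <;> exact one_ne_zero (h _ _ h6).1
  rw [h3] at h1
  rw [← h2, (mul_eq_right₀ h4).1 h1, one_mul]

theorem exists_ap [FiniteDimensional F V]
    (h2 : ∀ P, An Q P → ∃ a ∈ P, ∃ b ∈ P, Q a = Q b ∧ Q a ≠ 0 ∧ b ∉ F ∙ a)
    (h5 : ∀ U : Submodule F V, finrank F U ≤ 2 → ∃ P, An Q P ∧ P ≤ perp Q U) (z u : V) :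
    ∃ a b, Ap Q a b ∧ Q a = Q b ∧ polar Q z a = 0 ∧ polar Q z b = 0 ∧ polar Q u a = 0 ∧ polar Q u b = 0 := by
  classical
  obtain ⟨P, hP, hle⟩ := h5 (Submodule.span F {z, u}) (by
    have h1 := finrank_span_finset_le_card (R := F) ({z, u} : Finset V)
    rw [Set.finrank, Finset.coe_pair] at h1
    exact h1.trans Finset.card_le_two)
  obtain ⟨a, ha, b, hb, hab, ha0, hba⟩ := h2 P hP
  have hz : z ∈ Submodule.span F {z, u} := Submodule.subset_span (by simp)
  have hu : u ∈ Submodule.span F {z, u} := Submodule.subset_span (by simp)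
  refine ⟨a, b, fun s t e => ?_, hab, mem_perp.1 (hle ha) z hz, mem_perp.1 (hle hb) z hz, mem_perp.1 (hle ha) u hu,
    mem_perp.1 (hle hb) u hu⟩
  have h1 := hP.2 _ (P.add_mem (P.smul_mem s ha) (P.smul_mem t hb)) e
  have ht : t = 0 := by
    by_contra ht
    refine hba (Submodule.mem_span_singleton.2 ⟨-(t⁻¹ * s), ?_⟩)
    have h3 : b = t⁻¹ • (t • b) := by rw [smul_smul, inv_mul_cancel₀ ht, one_smul]
    rw [h3, ← neg_eq_of_add_eq_zero_right h1, smul_neg, smul_smul, neg_smul]
  rw [ht, zero_smul, add_zero] at h1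
  exact ⟨(smul_eq_zero.1 h1).resolve_right fun h => ha0 (by rw [h, map_zero]), ht⟩

/-! ### quadratic fields -/

theorem root_cases {ι : Type} [Fintype ι] [DecidableEq ι] {K : Subalgebra F (Matrix ι ι F)} (hK : IsFieldSubalgebra 2 K) {c : F}
    {j m : Matrix ι ι F} (hj : j ∈ K) (hm : m ∈ K) (hj2 : j * j - c • j + 1 = 0) (hm2 : m * m - c • m + 1 = 0) :
    m = j ∨ m = c • (1 : Matrix ι ι F) - j := by
  have h4 : (m - j) * (m + j - c • (1 : Matrix ι ι F)) = 0 := by
    have h5 := hK.comm m hm j hj
    calc (m - j) * (m + j - c • (1 : Matrix ι ι F)) = (m * m - c • m + 1) - (j * j - c • j + 1) + (m * j - j * m) := by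
          simp only [Matrix.sub_mul, Matrix.mul_sub, Matrix.mul_add, Matrix.mul_smul, Matrix.mul_one, smul_sub]
          abel
      _ = 0 := by rw [hm2, hj2, h5]; abel
  by_cases h5 : m - j = 0
  · exact Or.inl (sub_eq_zero.1 h5)
  · obtain ⟨n, hn, hmn⟩ := hK.inv _ (K.sub_mem hm hj) h5
    rw [hK.comm _ (K.sub_mem hm hj) n hn] at hmn
    have h7 := congrArg (fun y => n * y) h4
    beta_reduce at h7
    rw [← Matrix.mul_assoc, hmn, Matrix.one_mul, Matrix.mul_zero] at h7
    exact Or.inr (eq_sub_iff_add_eq.2 (sub_eq_zero.1 h7))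

theorem exists_J [Finite F] {Y : Subgroup (V ≃ₗ[F] V)} (h : AExt 2 Y) (h0 : 0 < finrank F V) {c : F}
    (hc : ∀ z : F, z * z - c * z + 1 ≠ 0) : ∃ J : Module.End F V, (∀ (a : F) x, J x = a • x → x = 0) ∧
      ∀ g ∈ Y, (∀ x, J (g x) = g (J x)) ∨ (∀ x, J (g x) = c • g x - g (J x)) := by
  obtain ⟨n, φ, K, -, hK, hle⟩ := h
  have : Nonempty (Fin n) := ⟨⟨0, finrank_of_equiv φ ▸ h0⟩⟩
  obtain ⟨j, hj, hj2⟩ := H248.Cov.exists_root hK hc
  let J : Module.End F V := (φ.symm : (Fin n → F) →ₗ[F] V) ∘ₗ Matrix.toLin' j ∘ₗ (φ : V →ₗ[F] (Fin n → F))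
  have hJ : ∀ x, φ (J x) = j *ᵥ φ x := fun x => φ.apply_symm_apply _
  refine ⟨J, fun a x hx => ?_, fun g hg => ?_⟩
  · have h1 := hJ x
    rw [hx, map_smul] at h1
    have h2 := congrArg (· *ᵥ φ x) hj2
    simp only [Matrix.add_mulVec, Matrix.sub_mulVec, ← Matrix.mulVec_mulVec, Matrix.smul_mulVec, ← h1, Matrix.mulVec_smul,
      Matrix.one_mulVec, Matrix.zero_mulVec] at h2
    have h3 : (a * a - c * a + 1) • φ x = 0 := by
      rw [← h2]
      module
    exact φ.map_eq_zero_iff.1 ((smul_eq_zero.1 h3).resolve_left (hc a))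
  · obtain ⟨G, hG⟩ : ∃ G, G = cj φ g := ⟨_, rfl⟩
    have h1 : G ∈ subalgebraNormalizer K := hle ⟨g, hg, hG.symm⟩
    have h2 : (G : Matrix (Fin n) (Fin n) F) * j * ((G⁻¹ : GL (Fin n) F) : Matrix (Fin n) (Fin n) F) ∈ K := (h1 j).1 hj
    obtain ⟨k, hk⟩ : ∃ k, k = (G : Matrix (Fin n) (Fin n) F) * j * ((G⁻¹ : GL (Fin n) F) : Matrix (Fin n) (Fin n) F) := ⟨_, rfl⟩
    rw [← hk] at h2
    have hkg : k * (G : Matrix (Fin n) (Fin n) F) = (G : Matrix (Fin n) (Fin n) F) * j := by rw [hk, Units.inv_mul_cancel_right]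
    have hk2 : k * k - c • k + 1 = 0 := by
      refine (Units.mul_left_inj G).1 ?_
      rw [Matrix.add_mul, Matrix.sub_mul, Matrix.mul_assoc, hkg, ← Matrix.mul_assoc, hkg, Matrix.smul_mul, hkg, Matrix.one_mul,
        Matrix.zero_mul, ← Matrix.mul_zero (G : Matrix (Fin n) (Fin n) F), ← hj2, Matrix.mul_add, Matrix.mul_sub,
        Matrix.mul_smul, Matrix.mul_one, Matrix.mul_assoc]
    have hgv : ∀ x, φ (g (J x)) = k *ᵥ φ (g x) := fun x => by
      rw [← cj_apply', ← cj_apply', hJ, ← hG, Matrix.mulVec_mulVec, Matrix.mulVec_mulVec, hkg]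
    rcases root_cases hK hj h2 hj2 hk2 with h5 | h5
    · exact Or.inl fun x => φ.injective (by rw [hgv, h5, hJ])
    · refine Or.inr fun x => φ.injective ?_
      rw [map_sub, hgv, h5, hJ, Matrix.sub_mulVec, Matrix.smul_mulVec, Matrix.one_mulVec, map_smul, sub_sub_cancel]

/-- hyperbolic pairs in a hyperbolic plane -/
theorem hyp_cases {e f x y : V} (h : Hyp Q e f) (h' : Hyp Q x y) (hx : x ∈ Submodule.span F {e, f})
    (hy : y ∈ Submodule.span F {e, f}) : ∃ a b : F, a * b = 1 ∧ ((x = a • e ∧ y = b • f) ∨ (x = a • f ∧ y = b • e)) := by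
  obtain ⟨p, r, rfl⟩ := Submodule.mem_span_pair.1 hx
  obtain ⟨s, u, rfl⟩ := Submodule.mem_span_pair.1 hy
  have h1 := h'.left
  have h2 := h'.right
  have h3 := h'.pair
  rw [Q_comb, h.left, h.right, h.pair] at h1 h2
  rw [polar_comb, h.left, h.right, h.pair] at h3
  have h4 : p * r = 0 := by linear_combination h1
  have h5 : s * u = 0 := by linear_combination h2
  have h6 : p * u + r * s = 1 := by linear_combination h3
  rcases mul_eq_zero.1 h4 with rfl | rfl
  · have h7 : u = 0 := by linear_combination r * h5 - u * h6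
    exact ⟨r, s, by linear_combination h6, Or.inr (by simp [h7])⟩
  · have h7 : s = 0 := by linear_combination p * h5 - s * h6
    exact ⟨p, u, by linear_combination h6, Or.inl (by simp [h7])⟩

/-- no group commuting with `J` up to sign is transitive on the hyperbolic planes -/
theorem not_trans (hG : Good Q) (h2 : (2 : F) ≠ 0) {Y : Subgroup (V ≃ₗ[F] V)} (hY : Y ≤ O Q) {J : Module.End F V}
    (hJ : ∀ (a : F) x, J x = a • x → x = 0) (hc : ∀ g ∈ Y, (∀ x, J (g x) = g (J x)) ∨ (∀ x, J (g x) = -g (J x)))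
    {D : Submodule F V} (hD : Hp Q D) (hT : ∀ s ∈ E Q, ∃ y ∈ Y, D.map (y : V →ₗ[F] V) = D.map (s : V →ₗ[F] V)) : False := by
  obtain ⟨e, f, hef, rfl⟩ := hD
  have k : ∀ ε : F, ε * ε = 1 → ∀ x y, Hyp Q x y →
      (polar Q x (J y) + ε * polar Q y (J x)) ^ 2 = (polar Q e (J f) + ε * polar Q f (J e)) ^ 2 := fun ε hε x y hxy => by
    obtain ⟨s, hs, rfl, rfl⟩ := hG.trans_hyp hef hxy
    obtain ⟨g, hg, h1⟩ := hT s hs
    rw [Submodule.map_span, Submodule.map_span, Set.image_pair, Set.image_pair] at h1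
    have h3 : (polar Q (g e) (J (g f)) + ε * polar Q (g f) (J (g e))) ^ 2 = (polar Q e (J f) + ε * polar Q f (J e)) ^ 2 := by
      rcases hc g hg with h4 | h4
      · rw [h4, h4, polar_map (hY hg), polar_map (hY hg)]
      · rw [h4, h4, polar_neg_right, polar_neg_right, polar_map (hY hg), polar_map (hY hg)]
        ring
    obtain ⟨a, b, hab, h5⟩ := hyp_cases hxy (hef.map (hY hg)) (h1 ▸ Submodule.subset_span (by simp))
      (h1 ▸ Submodule.subset_span (by simp))
    rw [← h3]
    rcases h5 with ⟨h5, h6⟩ | ⟨h5, h6⟩ <;> simp only [h5, h6, map_smul, polar_smul_left, polar_smul_right, smul_eq_mul]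
    · generalize polar Q (s e) (J (s f)) = A, polar Q (s f) (J (s e)) = B
      linear_combination (-(a * b + 1) * (A + ε * B) ^ 2) * hab
    · generalize polar Q (s e) (J (s f)) = A, polar Q (s f) (J (s e)) = B
      linear_combination (-(a * b + 1) * (B + ε * A) ^ 2) * hab + (B ^ 2 - A ^ 2) * hε
  have k2 : ∀ x y z, Hyp Q x y → Q z = 0 → polar Q x z = 0 → polar Q y z = 0 → polar Q z (J x) = 0 := fun x y z hxy hz h3 h4 => by
    have h5 : ∀ t : F, Hyp Q x (y + t • z) := fun t => ⟨hxy.left,
      by rw [Q_add, QuadraticMap.map_smul, hxy.right, hz, polar_smul_right, h4]; simp,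
      by rw [polar_add_right, polar_smul_right, h3, hxy.pair]; simp⟩
    have h6 : ∀ ε : F, ε * ε = 1 → polar Q x (J z) + ε * polar Q z (J x) = 0 := fun ε hε => by
      have h7 := (k ε hε _ _ (h5 1)).trans (k ε hε _ _ hxy).symm
      have h8 := (k ε hε _ _ (h5 (-1))).trans (k ε hε _ _ hxy).symm
      simp only [map_add, map_smul, polar_add_left, polar_add_right, polar_smul_left, polar_smul_right, smul_eq_mul] at h7 h8
      have h9 : 2 * (polar Q x (J z) + ε * polar Q z (J x)) ^ 2 = 0 := by linear_combination h7 + h8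
      exact pow_eq_zero_iff two_ne_zero |>.1 ((mul_eq_zero.1 h9).resolve_left h2)
    have h7 : 2 * polar Q z (J x) = 0 := by linear_combination h6 1 (by ring) - h6 (-1) (by ring)
    exact (mul_eq_zero.1 h7).resolve_left h2
  obtain ⟨z, w, hzw, h3, h4, h5, h6⟩ := hG.exists_hyp2 hef
  have h7 : polar Q e (J e) = 0 := by
    have h8 := k2 e (f + z) (w - e) ⟨hef.left, by rw [Q_add, hef.right, hzw.left, h5]; simp,
      by rw [polar_add_right, hef.pair, h3, add_zero]⟩
      (by rw [sub_eq_add_neg, Q_add, QuadraticMap.map_neg, polar_neg_right, hzw.right, hef.left, polar_comm Q w e, h4]; simp)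
      (by rw [polar_sub_right, h4, hef.polar_left, sub_zero])
      (by rw [polar_add_left, polar_sub_right, polar_sub_right, h6, hef.pair', hzw.pair, polar_comm Q z e, h3]; simp)
    rw [polar_sub_left, k2 e f w hef hzw.right h4 h6] at h8
    simpa using h8
  refine hef.left_ne (hJ (polar Q f (J e)) e (sub_eq_zero.1 (hG.nondeg _ fun v => ?_)))
  have h8 := sing_induction_perp hzw h3 h4 h5 h6 (P := fun v => polar Q v (J e) = 0)
    (fun a c _ _ _ _ ha hc => by rw [polar_add_left, ha, hc, add_zero]) (fun a ha hea hfa => k2 e f a hef ha hea hfa) _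
    (polar_proj_left hef v) (polar_proj_right hef v)
  rw [LieClassical.OrthTrans.proj, polar_sub_left, polar_sub_left, polar_smul_left, polar_smul_left, h7] at h8
  rw [polar_sub_left, polar_smul_left, polar_comm Q (J e) v]
  simp only [smul_eq_mul] at h8 ⊢
  linear_combination h8

/-! ### halves -/

theorem exists_O [FiniteDimensional F V] (hQ : Nondeg Q) (d : Module.End F V) (hd : ∀ x, Q (d x) = Q x) :
    ∃ e ∈ O Q, ∀ x, e x = d x := by
  have hi : Function.Injective d := (injective_iff_map_eq_zero d).2 fun x hx => hQ x fun y => by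
    have h1 := hd (x + y)
    rw [map_add, hx, zero_add, hd, Q_add, ← hd x, hx, map_zero] at h1
    linear_combination -h1
  exact ⟨LinearEquiv.ofInjectiveEndo d hi, hd, fun _ => rfl⟩

theorem proj_comm {Y : Subgroup (V ≃ₗ[F] V)} {W W' : Submodule F V} (h : IsCompl W W') (hW : Iv Y W) (hW' : Iv Y W')
    {g : V ≃ₗ[F] V} (hg : g ∈ Y) (x : V) : W.projection W' h (g x) = g (W.projection W' h x) := by
  have h1 : g x = g (W.projection W' h x) + g (x - W.projection W' h x) := by rw [← map_add, add_sub_cancel]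
  rw [h1, map_add, Submodule.projection_apply_of_mem_left h (hW g hg _ (Submodule.projection_apply_mem h x)),
    Submodule.projection_apply_of_mem_right h (hW' g hg _ (Submodule.sub_projection_mem h x)), add_zero]

theorem Ts.polar {W : Submodule F V} (h : Ts Q W) {x y : V} (hx : x ∈ W) (hy : y ∈ W) : polar Q x y = 0 := by
  have h1 := h _ (W.add_mem hx hy)
  rw [Q_add, h x hx, h y hy] at h1
  simpa using h1

theorem compl [FiniteDimensional F V] {m : ℕ} (hd : finrank F V = 2 * m) {W W' : Submodule F V} (h : Hf Q m W W') :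
    IsCompl W W' := by
  refine ⟨disjoint_iff.2 h.inf, codisjoint_iff.2 (Submodule.eq_top_of_finrank_eq ?_)⟩
  have h1 := Submodule.finrank_sup_add_finrank_inf_eq W W'
  rw [h.inf, finrank_bot, h.dim, h.dim'] at h1
  omega

end Jk

open Jk

/-- [J] invariant quadratic forms of a transitive group -/
theorem boxJ_of (hPl : BoxPl) : BoxJ := by
  intro F V _ _ _ _ _ Q m hQ Y Q' hY hY' hT
  have hG := hQ.good
  rcases hT with hT | ⟨h3, c, hc, hT⟩ | ⟨hT, hirr⟩
  · obtain ⟨U, hU, hd⟩ := hQ.plus
    obtain ⟨x, hx, hx0, hx'⟩ := exists_sing_mem (Q := Q') U (by have := hQ.dim; have := hQ.five; omega)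
    refine prop_of_sing hG Q' fun y hy => ?_
    by_cases hy0 : y = 0
    · rw [hy0, map_zero]
    · obtain ⟨g, hg, a, e⟩ := hT y x hy0 hx0 hy (hU x hx)
      rw [← mem_O.1 (hY' hg) y, e, QuadraticMap.map_smul, hx', smul_zero]
  · refine prop_of_sing hG Q' fun z hz => ?_
    by_cases hz0 : z = 0
    · rw [hz0, map_zero]
    obtain ⟨f, hf⟩ := exists_hyp hG.nondeg hz hz0
    obtain ⟨x, y, hxy, h1, h2, -, -⟩ := hG.exists_hyp2 hf
    obtain ⟨v, hv, hzv⟩ : ∃ v, Q v = c ∧ polar Q z v = 0 := ⟨(1 : F) • x + c • y,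
      by rw [Q_comb, hxy.left, hxy.right, hxy.pair]; ring,
      by rw [polar_add_right, polar_smul_right, polar_smul_right, h1, h2]; simp⟩
    have k : ∀ t : F, t * t * Q' z + t * polar Q' z v = 0 := fun t => by
      obtain ⟨g, hg, e⟩ := hT v (t • z + (1 : F) • v) hv (by rw [Q_comb, hz, hv, hzv]; ring)
      have h4 : Q' (t • z + (1 : F) • v) = Q' v := by
        rw [← mem_O.1 (hY' hg) v]
        rcases e with e | e
        · rw [e]
        · rw [e, QuadraticMap.map_neg]
      rw [Q_comb] at h4
      linear_combination h4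
    obtain ⟨t, ht0, ht1⟩ : ∃ t : F, t ≠ 0 ∧ t ≠ 1 := by
      classical
      by_contra hn
      push Not at hn
      have h4 : (Finset.univ : Finset F) ⊆ {0, 1} := fun t _ => by
        by_cases h0 : t = 0
        · simp [h0]
        · simp [hn t h0]
      have h5 := (Finset.card_le_card h4).trans Finset.card_le_two
      rw [Finset.card_univ, ← Nat.card_eq_fintype_card] at h5
      omega
    have h4 : t * (t - 1) * Q' z = 0 := by linear_combination k t - t * k 1
    exact (mul_eq_zero.1 h4).resolve_left (mul_ne_zero ht0 (sub_ne_zero.2 ht1))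
  · obtain ⟨-, p2, -, -, p5, -⟩ := hPl F V Q m hQ
    by_cases h2 : (2 : F) = 0
    · obtain ⟨μ, hμ⟩ := polar_prop hG Q' fun z u hz hu hzu => by
        obtain ⟨a, b, hab, e, h1, h3, h4, h5⟩ := exists_ap p2 p5 z u
        have hB : polar Q a b ≠ 0 := fun h0 => one_ne_zero (hab 1 1 (by
          rw [Q_comb, h0, e]
          linear_combination Q b * h2)).1
        have k : ∀ s t : F, polar Q' (a + s • z) (b + t • u) = polar Q' a b := fun s t => by
          have h6 : Q (a + s • z) = Q a := by
            rw [Q_add, QuadraticMap.map_smul, hz, polar_smul_right, polar_comm Q a z, h1]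
            simp
          have h7 : Q (b + t • u) = Q b := by
            rw [Q_add, QuadraticMap.map_smul, hu, polar_smul_right, polar_comm Q b u, h5]
            simp
          have h8 : polar Q (a + s • z) (b + t • u) = polar Q a b := by
            simp only [polar_add_left, polar_add_right, polar_smul_left, polar_smul_right, polar_comm Q a u, h3, h4, hzu]
            simp
          have h9 := Mx_eq hY hY' hT hab e h6 h7 h8
          simp only [Mx, h2, zero_mul, sub_zero, h8] at h9
          exact mul_right_cancel₀ hB h9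
        have k1 := k 1 0
        have k2 := k 0 1
        have k3 := k 1 1
        simp only [polar_add_left, polar_add_right, one_smul, zero_smul, add_zero] at k1 k2 k3
        linear_combination k3 - k1 - k2
      let R : QuadraticForm F V := Q' - μ • Q
      have hR : ∀ x, R x = Q' x - μ * Q x := fun x => rfl
      let N : Submodule F V :=
        { carrier := {x | R x = 0}
          zero_mem' := map_zero R
          add_mem' := fun {x y} hx hy => by
            have h6 : R x = 0 := hx
            have h7 : R y = 0 := hy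
            show R (x + y) = 0
            rw [hR] at h6 h7 ⊢
            rw [Q_add, Q_add (Q := Q), hμ]
            linear_combination h6 + h7
          smul_mem' := fun a x hx => by
            have h6 : R x = 0 := hx
            show R (a • x) = 0
            rw [QuadraticMap.map_smul, h6, smul_zero] }
      have hN : N = ⊤ := by
        by_contra hN
        obtain ⟨x, -, hx0, hx⟩ := exists_sing_mem (Q := R) ⊤ (by rw [finrank_top]; have := hG.dim; omega)
        refine hirr ⟨N, fun h0 => hx0 ?_, hN, fun g hg w hw => ?_⟩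
        · have h6 : x ∈ N := hx
          rwa [h0] at h6
        · have h6 : R w = 0 := hw
          show R (g w) = 0
          rwa [hR, mem_O.1 (hY hg), mem_O.1 (hY' hg), ← hR]
      refine ⟨μ, fun x => ?_⟩
      have h6 : x ∈ N := hN ▸ Submodule.mem_top
      exact sub_eq_zero.1 ((hR x).symm.trans h6)
    · refine prop_of_sing hG Q' fun z hz => ?_
      obtain ⟨a, b, hab, e, h1, h3, -, -⟩ := exists_ap p2 p5 z z
      have hb : Q b ≠ 0 := fun h0 => one_ne_zero (hab 0 1 (by rw [zero_smul, zero_add, one_smul, h0])).2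
      have k : ∀ s : F, Mx Q' Q (a + s • z) b = Mx Q' Q a b := fun s => by
        refine Mx_eq hY hY' hT hab e ?_ rfl ?_
        · rw [Q_add, QuadraticMap.map_smul, hz, polar_smul_right, polar_comm Q a z, h1]
          simp
        · rw [polar_add_left, polar_smul_left, h3, smul_zero, add_zero]
      have k1 := k 1
      have k2 := k (-1)
      simp only [Mx, Q_add, polar_add_left, polar_smul_left, polar_smul_right, QuadraticMap.map_smul, smul_eq_mul, hz, h3,
        polar_comm Q a z, h1] at k1 k2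
      have h4 : 2 * 2 * Q b * Q' z = 0 := by linear_combination -k1 - k2
      exact (mul_eq_zero.1 h4).resolve_left (mul_ne_zero (mul_ne_zero h2 h2) hb)

/-- [K] groups normalising a quadratic field -/
theorem boxK : BoxK := by
  intro F V _ _ _ _ _ Q m hQ Y hY
  have h0 : 0 < finrank F V := by have := hQ.good.dim; omega
  refine ⟨?_, fun h3 hO D hD hT => ?_⟩
  · obtain ⟨c, hc⟩ := H248.Cov.exists_t F
    obtain ⟨J, hJ, h⟩ := exists_J hY h0 hc
    refine ⟨J, hJ, fun g hg x => ?_⟩
    rcases h g hg with h1 | h1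
    · rw [h1, h1]
    · rw [h1, h1, map_sub, map_smul, sub_sub_cancel]
  · have h4 : ∀ z : F, z ^ 3 = z := fun z => by
      have h5 := FiniteField.pow_card z
      rwa [← Nat.card_eq_fintype_card, h3] at h5
    have h5 : (3 : F) = 0 := by
      have h6 := FiniteField.cast_card_eq_zero F
      rw [← Nat.card_eq_fintype_card, h3] at h6
      exact_mod_cast h6
    have h2 : (2 : F) ≠ 0 := fun h2 => one_ne_zero (α := F) (by linear_combination h5 - h2)
    obtain ⟨J, hJ, h⟩ := exists_J hY h0 (c := 0) fun z hz => h2 (by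
      linear_combination (2 + 2 * z * z) * hz - 2 * z * h4 z - 2 * z * z * h5)
    exact not_trans hQ.good h2 hO hJ (fun g hg => (h g hg).imp id fun h1 x => by rw [h1, zero_smul, zero_sub]) hD hT

/-- [HF] isometries commuting with a group that fixes two or three halves -/
theorem boxHf : BoxHf := by
  intro F V _ _ _ _ _ Q m hQ Y W W' _ h hW hW'
  have hc := compl hQ.dim h
  have m1 := Submodule.projection_apply_mem hc
  have m2 := Submodule.sub_projection_mem hc
  have hx : ∀ x, Q x = polar Q (W.projection W' hc x) (x - W.projection W' hc x) := fun x => by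
    have h1 := Q_add (Q := Q) (W.projection W' hc x) (x - W.projection W' hc x)
    rw [add_sub_cancel, h.ts _ (m1 x), h.ts' _ (m2 x)] at h1
    simpa using h1
  refine ⟨fun a ha => ?_, fun W'' h1 h2 hW'' => ?_⟩
  · obtain ⟨d, hd, e⟩ := exists_O hQ.good.nondeg (a • W.projection W' hc + a⁻¹ • (LinearMap.id - W.projection W' hc)) fun x => by
      show Q (a • W.projection W' hc x + a⁻¹ • (x - W.projection W' hc x)) = Q x
      rw [Q_comb, h.ts _ (m1 x), h.ts' _ (m2 x), ← hx, mul_inv_cancel₀ ha]
      ring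
    replace e : ∀ x, d x = a • W.projection W' hc x + a⁻¹ • (x - W.projection W' hc x) := e
    refine ⟨d, hd, fun w hw => ?_, fun w hw => ?_, fun g hg x => ?_⟩
    · rw [e, Submodule.projection_apply_of_mem_left hc hw, sub_self, smul_zero, add_zero]
    · rw [e, Submodule.projection_apply_of_mem_right hc hw, sub_zero, smul_zero, zero_add]
    · show d (g x) = g (d x)
      rw [e, e, proj_comm hc hW hW' hg, map_add, map_smul, map_smul, map_sub]
  · have hc' := (compl hQ.dim h2).symm
    obtain ⟨d, hd, e⟩ := exists_O hQ.good.nondeg (W''.projection W' hc' + (LinearMap.id - W.projection W' hc)) fun x => by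
      show Q (W''.projection W' hc' x + (x - W.projection W' hc x)) = Q x
      have h3 := Ts.polar h.ts' (W'.sub_mem (m2 x) (Submodule.sub_projection_mem hc' x)) (m2 x)
      rw [sub_sub_sub_cancel_left, polar_sub_left, ← hx] at h3
      rw [Q_add, h1.ts' _ (Submodule.projection_apply_mem hc' x), h.ts' _ (m2 x)]
      linear_combination h3
    replace e : ∀ x, d x = W''.projection W' hc' x + (x - W.projection W' hc x) := e
    refine ⟨d, hd, fun a => ?_, fun g hg x => ?_⟩
    · by_contra hn
      push Not at hn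
      have h5 := hQ.five
      obtain ⟨w, hw, hw0⟩ := Submodule.exists_mem_ne_zero_of_ne_bot (p := W) fun h0 => by
        have h3 := h.dim
        rw [h0, finrank_bot] at h3
        omega
      obtain ⟨w', hw', hw0'⟩ := Submodule.exists_mem_ne_zero_of_ne_bot (p := W') fun h0 => by
        have h3 := h.dim'
        rw [h0, finrank_bot] at h3
        omega
      have h3 := hn w'
      rw [e, Submodule.projection_apply_of_mem_right hc hw', Submodule.projection_apply_of_mem_right hc' hw', zero_add,
        sub_zero] at h3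
      have h4 : a = 1 := smul_left_injective F hw0' (h3.symm.trans (one_smul F w').symm)
      have h6 := hn w
      rw [e, Submodule.projection_apply_of_mem_left hc hw, sub_self, add_zero, h4, one_smul] at h6
      have h7 : w ∈ W ⊓ W'' := ⟨hw, h6 ▸ Submodule.projection_apply_mem hc' w⟩
      rw [h1.inf] at h7
      exact hw0 h7
    · show d (g x) = g (d x)
      rw [e, e, proj_comm hc hW hW' hg, proj_comm hc' hW'' hW' hg, map_add, map_sub]

end Cfsg.Agent.SM.Op
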