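import Cfsg.Agent.SM.Op.Defs
import Cfsg.Agent.SM.Op.L14A
import Cfsg.Agent.SM.Ex78.Base
import Cfsg.Agent.H128.Rg.RefAbs
import Cfsg.Agent.H826.RgF.Both
import Cfsg.Agent.H875.KB.Gen
import Cfsg.Agent.S0000

/-!
# SM (S3570), `Ω₁₄⁺(2)`: the linear reduction `boxLR14` (helper2)
-/

set_option autoImplicit false
set_option linter.unusedSectionVars false

namespace Cfsg.Agent.SM.Op

open Module QuadraticMap Cfsg Cfsg.Geo Cfsg.Agent.LieClassical.OrthCore Cfsg.Agent.LieClassical.OrthTrans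
  Cfsg.Agent.H955 Cfsg.Agent.H954.TSing Cfsg.Agent.H884.El Cfsg.Agent.H449.Reg Cfsg.Agent.H826.RgF Cfsg.Agent.H128.Rg
open Cfsg.Agent.H951 (fx cm)
open Cfsg.Agent.H278.Cov (Red Ext)
open Cfsg.Agent.H2.Rb (Concl ord_2_13)
open scoped MatrixGroups

namespace L14

variable {F V : Type} [Field F] [Fintype F] [AddCommGroup V] [Module F V] [FiniteDimensional F V] {Q : QuadraticForm F V}
  {X Y A : Subgroup (V ≃ₗ[F] V)} {m : ℕ}

theorem fin_G : Finite (V ≃ₗ[F] V) :=
  have : Finite V := Module.finite_of_finite F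
  Finite.of_injective (fun g : V ≃ₗ[F] V => (g : V → V)) DFunLike.coe_injective

/-- a prime divisor of `|Ω|` divides the order of a factor -/
theorem side (h : Pd Q X Y) {r : ℕ} (hr : r.Prime) (hd : r ∣ Nat.card (E Q)) : r ∣ Nat.card X ∨ r ∣ Nat.card Y := by
  have := fin_G (F := F) (V := V)
  have h1 : Ex78.Pd (X.subgroupOf (E Q)) (Y.subgroupOf (E Q)) := fun g => by
    obtain ⟨x, hx, y, hy, e⟩ := h.fac g g.2
    exact ⟨⟨x, h.leX hx⟩, hx, ⟨y, h.leY hy⟩, hy, Subtype.ext e⟩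
  have h2 := h1.prime_dvd hr hd
  rwa [Nat.card_congr (Subgroup.subgroupOfEquivOfLe h.leX).toEquiv,
    Nat.card_congr (Subgroup.subgroupOfEquivOfLe h.leY).toEquiv] at h2

/-- odd primes of `|O(Q)|` divide `|Ω(Q)|` -/
theorem dvd_E (hG : Good Q) {r : ℕ} (hr : r.Prime) (ho : Odd r) (hd : r ∣ Nat.card (O Q)) : r ∣ Nat.card (E Q) := by
  obtain ⟨g, hg, e⟩ := el_of_dvd hr hd
  exact El.dvd ⟨g, H875.KB.mem_E_of_pow hG hg ho (e ▸ pow_orderOf_eq_one g), e⟩

/-- **Lemma A** -/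
theorem lr1 (h : Pl Q m) (hX : X ≤ O Q) {r : ℕ} (hr : PP (Nat.card F) (2 * m - 2) r) (hd : r ∣ Nat.card X) (hrd : Rd X) :
    LR1 Q X := by
  have h5 := h.five
  have hn := h.dim
  obtain ⟨x, hx, hxr, hx1⟩ := (el_of_dvd hr.prime hd).exists_elt hr.prime
  obtain ⟨h1, h2⟩ := fx_type h.good.nondeg h.plus h5 hn hr (hX hx) hxr hx1
  obtain ⟨S, hS0, hS, hSx⟩ := rd_fix h.good.nondeg hX hr (by omega) (by omega) hx hxr hx1 hrd
  have h3 := Submodule.finrank_mono hSx
  exact ⟨_, ⟨h1, h2⟩, fun W hW hd4 => le_fx hr (by omega) (hX hx) hxr (fun w hw => hW x hx w hw) (by omega),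
    ⟨S, hS0, hS, by omega⟩, _, r, hr, by omega, el_of_dvd hr.prime hd⟩

/-- from matrices to a quadratic space -/
theorem abs_of (hQ : Nondeg Q) (hA : A ≤ O Q) {n k : ℕ} (hn : finrank F V = n) (hten : 10 ≤ n) (hE : ¬ E Q ≤ A)
    (h : ∀ R : Subgroup (GL (Fin n) F), Nat.card R = Nat.card A → ActsIrreducibly (matrixSet R) → Concl n k R) :
    Rd A ∨ ∃ s, s.Prime ∧ s ∣ Nat.gcd n k ∧ AExt s A := by
  let φ : V ≃ₗ[F] (Fin n → F) :=
    LinearEquiv.ofFinrankEq _ _ (by rw [Module.finrank_fintype_fun_eq_card, Fintype.card_fin, hn])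
  have hQ'' := H884.OddForm.isNondegenerate_of_nondeg _ (nondeg_tq hQ φ)
  by_cases hred : Red (A.map (cj φ).toMonoidHom)
  · exact Or.inl (red_abs φ hred)
  right
  rcases og_core (d := Nat.gcd n k) (by rw [Fintype.card_fin]; exact hten) hQ'' (by
    rintro _ ⟨x, hx, rfl⟩
    exact LieClassical.OrthFinite.mem_isometryGroup_iff.1 (cj_iso φ (hA hx)))
    (h _ (Subgroup.card_map_of_injective (cj φ).injective) (irr_of_not_red hred)) with ⟨s, K, hs, hsd, hK, hle⟩ | h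
  · exact ⟨s, hs, hsd, n, φ, K, hs, hK, hle⟩
  · exact absurd (E_le_of φ (by rw [Fintype.card_fin]; omega) hQ'' h) hE

theorem two_of {s k : ℕ} (hs : s.Prime) (h : s ∣ Nat.gcd 14 k) (hk : Nat.gcd 14 k = 2) : s = 2 :=
  (Nat.prime_dvd_prime_iff_eq hs Nat.prime_two).1 (hk ▸ h)

theorem pp7 (hq : Nat.card F = 2) : PP (Nat.card F) 7 127 := hq ▸ ⟨by norm_num, by
  rw [orderOf_eq_iff (by norm_num)]
  exact ⟨by decide +kernel, by decide +kernel⟩⟩

theorem pp5 (hq : Nat.card F = 2) : PP (Nat.card F) 5 31 := hq ▸ ⟨by norm_num, by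
  rw [orderOf_eq_iff (by norm_num)]
  exact ⟨by decide +kernel, by decide +kernel⟩⟩

/-- a proper subgroup with `127` has no prime `r` with `ord_r(2) = e ≥ 8` -/
theorem kill (hq : Nat.card F = 2) (h : Pl Q 7) (hA : A ≤ O Q) (hE : ¬ E Q ≤ A) {e r : ℕ} (hr : PP (Nat.card F) e r)
    (he : 8 ≤ e) (hk : Nat.gcd 14 e = 2) (h1 : r ∣ Nat.card A) (h2 : 127 ∣ Nat.card A)
    (hL : ∀ R : Subgroup (GL (Fin 14) F), r ∣ Nat.card R → 127 ∣ Nat.card R → ActsIrreducibly (matrixSet R) → Concl 14 e R) :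
    False := by
  have hQ := h.good.nondeg
  have hn : finrank F V = 14 := h.dim
  have hw := pp7 hq
  rcases abs_of hQ hA hn (by norm_num) hE (k := e) fun R hR => hL R (hR ▸ h1) (hR ▸ h2) with hrd | ⟨s, hs, hsd, hK⟩
  · obtain ⟨x, hx, hxr, hx1⟩ := (el_of_dvd hr.prime h1).exists_elt hr.prime
    obtain ⟨S, hS0, hS, hSx⟩ := rd_fix hQ hA hr (by omega) (by omega) hx hxr hx1 hrd
    obtain ⟨hd, -, -⟩ := block hr (by omega) (by omega) (hA hx) hxr hx1
    obtain ⟨z, hz, hzw, hz1⟩ := (el_of_dvd hw.prime h2).exists_elt hw.prime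
    have h3 := Submodule.finrank_mono hSx
    have h4 : S ≤ fx (z : Module.End F V) := le_fx hw (by omega) (hA hz) hzw (fun s hs => hS z hz s hs) (by omega)
    have h5 := iso_of hw (by omega) (hA hz) hzw
    have h6 := (h5.odd_case hQ (H522.Rg.coe_ne_one hz1) hw (by decide) (by omega)).1
    have h7 := h5.finrank_add
    have h8 := Submodule.finrank_mono h4
    exact hS0 (Submodule.finrank_eq_zero.1 (by omega))
  · obtain rfl := two_of hs hsd hk
    exact H522.Rg.o_not_two_odd hQ hA hw (by decide) (by omega) (by omega) h2 hK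

theorem main (hq : Nat.card F = 2) (h : Pl Q 7) (hP : Pd Q X Y) (h13 : 13 ∣ Nat.card X) : LR1 Q X := by
  have hKS : ∀ (T : Type) [Group T] [Finite T] [IsSimpleGroup T], IsKnownSimple' T := fun _ _ _ _ => S0000.result
  have hQ := h.good.nondeg
  have hn : finrank F V = 14 := h.dim
  have hX := hP.leX.trans E_le_O
  have hY := hP.leY.trans E_le_O
  have p13 : PP (Nat.card F) 12 13 := hq ▸ ⟨by norm_num, ord_2_13⟩
  have p11 : PP (Nat.card F) 10 11 := hq ▸ ⟨by norm_num, ord_2_11⟩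
  have p17 : PP (Nat.card F) 8 17 := hq ▸ ⟨by norm_num, ord_2_17⟩
  have hO := card_O_of_isPlus hQ (m := 7) (by norm_num) h.dim h.plus
  rw [hq] at hO
  have sd : ∀ r : ℕ, r.Prime → Odd r → r ∣ Nat.card (O Q) → r ∣ Nat.card X ∨ r ∣ Nat.card Y :=
    fun r hr ho hd => side hP hr (dvd_E h.good hr ho hd)
  refine lr1 h hX p13 h13 (by_contra fun hrd => ?_)
  have h127 : 127 ∣ Nat.card Y := (sd 127 (by norm_num) (by decide) (by rw [hO]; decide +kernel)).resolve_left fun k =>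
    kill hq h hX hP.neX p13 (by norm_num) rfl h13 k (H2.Rb.ref_2_14_13_127 hKS hq)
  have h11 : 11 ∣ Nat.card X := (sd 11 (by norm_num) (by decide) (by rw [hO]; decide +kernel)).resolve_right fun k =>
    kill hq h hY hP.neY p11 (by norm_num) rfl k h127 (ref_11_127 hKS hq)
  have h17 : 17 ∣ Nat.card X := (sd 17 (by norm_num) (by decide) (by rw [hO]; decide +kernel)).resolve_right fun k =>
    kill hq h hY hP.neY p17 le_rfl rfl k h127 (ref_17_127 hKS hq)
  have h23 : ¬ 23 ∣ Nat.card X := fun k =>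
    absurd (k.trans (Subgroup.card_dvd_of_le hX)) (by rw [hO]; decide +kernel)
  rcases abs_of hQ hX hn (by norm_num) hP.neX (k := 12) fun R hR =>
    ref_13_17 hKS hq R (hR ▸ h13) (hR ▸ h17) (hR ▸ h11) (hR ▸ h23) with k | ⟨s, hs, hsd, hK⟩
  · exact hrd k
  · obtain rfl := two_of hs hsd rfl
    exact not_two' (m := 7) hQ (fun g hg => polar_O (hX hg)) (by norm_num) hn.le p13 p11 h13 h11 hrd hK

end L14

theorem boxLR14 : BoxLR14 := fun F V _ _ _ _ _ Q m h hm hq X Y hP => by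
  subst hm
  have hO := card_O_of_isPlus h.good.nondeg (m := 7) (by norm_num) h.dim h.plus
  rw [hq] at hO
  rcases L14.side hP (r := 13) (by norm_num) (L14.dvd_E h.good (by norm_num) (by decide) (by rw [hO]; decide +kernel)) with
    k | k
  · exact .inl (L14.main hq h hP k)
  · exact .inr (.inl (L14.main hq h hP.symm k))

end Cfsg.Agent.SM.Op
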