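import Cfsg.Agent.SM.Op.Lr
import Cfsg.Agent.H100.Ppd.Basic
import Cfsg.Agent.S2119
import Cfsg.Agent.S5847
import Cfsg.Agent.S5848

/-!
# SM (S3570), socle `PΩ⁺₁₀(q)`, `q ≤ 4`: `boxLR10` (helper25)
-/

set_option autoImplicit false
set_option linter.unusedSectionVars false

namespace Cfsg.Agent.SM.Op

open Module QuadraticMap Cfsg Cfsg.Geo
open Cfsg.Agent.LieClassical.OrthCore Cfsg.Agent.LieClassical.OrthTrans
open Cfsg.Agent.H449.Reg Cfsg.Agent.H826.RgF Cfsg.Agent.H955 Cfsg.Agent.H884.El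
open Cfsg.Agent.H951 (fx cm Inv)
open Cfsg.Agent.H278.Cov (Red)
open Cfsg.Agent.H915.LD (Core core_of_residual)
open Cfsg.Agent.H100.Ppd (conjSoc scalar_of_conjSoc mem_normalizer)
open Cfsg.Agent.SM.Op.Lr
open scoped MatrixGroups Matrix

namespace L10

section mat

variable {F : Type} [Field F] [Fintype F] {Q : (Fin 10 → F) → F} {H P : Subgroup (GL (Fin 10) F)}

theorem red_of {W : Submodule F (Fin 10 → F)} (h1 : finrank F W ≠ 0) (h2 : finrank F W ≠ 10)
    (hH : H = subspaceStabilizer W ⊓ omegaGL Q) : Red H := by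
  refine ⟨W, ?_, ?_, by rw [hH]; exact inf_le_left⟩
  · rintro rfl
    exact h1 (finrank_bot F _)
  · rintro rfl
    apply h2
    rw [finrank_top, Module.finrank_fintype_fun_eq_card, Fintype.card_fin]

theorem red_ts (hQ : IsNondegenerateQuadraticForm Q) {W : Submodule F (Fin 10 → F)} (h1 : W ≠ ⊥) (h2 : IsTotallySingularQuad Q W)
    (hH : H = subspaceStabilizer W ⊓ omegaGL Q) : Red H := by
  refine ⟨W, h1, ?_, by rw [hH]; exact inf_le_left⟩
  rintro rfl
  have h3 : ∀ v, Q v = 0 := fun v => h2 v trivial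
  have h4 : (Pi.single 0 1 : Fin 10 → F) ≠ 0 := by
    intro h
    have := congrFun h 0
    simp at this
  obtain ⟨⟨x, hx⟩, -⟩ := hQ.nondegenerate _ h4
  apply hx
  rw [QuadraticMap.polar, h3, h3, h3, sub_zero, sub_zero]

theorem red_ns (hQ : IsNondegenerateQuadraticForm Q) {v : Fin 10 → F} (hv : Q v ≠ 0)
    (hH : H = subspaceStabilizer (Submodule.span F {v}) ⊓ omegaGL Q) : Red H := by
  have h0 : v ≠ 0 := by
    rintro rfl
    apply hv
    have := hQ.smul 0 0
    rwa [zero_smul, zero_pow two_ne_zero, zero_mul] at this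
  have h1 : finrank F (Submodule.span F {v}) = 1 := finrank_span_singleton h0
  exact red_of (by rw [h1]; norm_num) (by rw [h1]; norm_num) hH

theorem card_dvd (hc : IsResidualCore H P) : Nat.card H ∣ (Fintype.card F - 1) * Nat.card (MulAut (H915.LD.Soc P)) := by
  classical
  have hC := core_of_residual hc
  let f : H →* MulAut (H915.LD.Soc P) :=
    (conjSoc hC.absIrred).comp (Subgroup.inclusion fun g hg => mem_normalizer (hc.normal g hg))
  have h1 : Nat.card (scalars (Fin 10) F) ∣ Fintype.card F - 1 := by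
    rw [← Fintype.card_units, ← Nat.card_eq_fintype_card]
    exact Subgroup.card_range_dvd _
  rw [← f.ker.card_mul_index, Subgroup.index_ker]
  refine Nat.mul_dvd_mul (Dvd.dvd.trans ?_ h1) (Subgroup.card_subgroup_dvd_card _)
  rw [← Subgroup.card_map_of_injective H.subtype_injective]
  apply Subgroup.card_dvd_of_le
  rintro _ ⟨x, hx, rfl⟩
  exact scalar_of_conjSoc hC hx

/-- the residual class -/
theorem res (h4 : Fintype.card F ≤ 4) (hQ : IsNondegenerateQuadraticForm Q) (hp : IsPlusTypeOn Q ⊤)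
    (hH : IsMaximalIn (omegaGL Q) H) (hS : InOrthogonalResidualClass H) : Nat.card H ∣ 958003200 := by
  have h2 : 1 < Fintype.card F := Fintype.one_lt_card
  have h3 : (Fintype.card F).Prime → Fintype.card F ≠ 4 := fun a b => absurd (b ▸ a) (by norm_num)
  obtain ⟨P, hc, h | h | ⟨⟨e⟩, h⟩ | h⟩ := S5848.result Q hQ hp H hH hS
  · obtain ⟨-, a, b, c⟩ := h
    have := h3 a
    omega
  · obtain ⟨-, a, b, c⟩ := h
    have := h3 a
    omega
  · have h5 := card_dvd hc
    rw [h, Nat.card_congr (MulAut.congr e).toEquiv, ← Nat.card_congr (Equiv.ofBijective _ (S2119.result 12 (by norm_num) (by norm_num))),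
      Nat.card_perm, Nat.card_fin] at h5
    exact h5
  · have := h.2
    omega

end mat

variable {F V : Type} [Field F] [Fintype F] [AddCommGroup V] [Module F V] [FiniteDimensional F V] {Q : QuadraticForm F V}
  {X Y A : Subgroup (V ≃ₗ[F] V)}

theorem cases (h : Pl Q 5) (h4 : Nat.card F ≤ 4) (hA : A ≤ E Q) (hne : ¬ E Q ≤ A) {p a d r : ℕ} (hp : p.Prime)
    (hF : Nat.card F = p ^ a) (hr : PP p (a * d) r) (hd : 5 < d) (hrA : r ∣ Nat.card A) :
    Rd A ∨ (Nat.card F = 3 ∧ AExt 2 A) ∨ Nat.card A ∣ 958003200 := by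
  have h2 := one_lt_q F
  have ha : 1 ≤ a := by
    rcases Nat.eq_zero_or_pos a with rfl | ha
    · rw [pow_zero] at hF
      omega
    · exact ha
  have hr' : PP (Nat.card F) d r := hF ▸ hr.of_pow ha
  have hc : Nat.card F = Fintype.card F := Nat.card_eq_fintype_card
  obtain ⟨φ, H, h1, hp', h3, h5⟩ := exists_max (n := 10) h rfl hA hne
  have hrA' : r ∣ Nat.card (A.map (cj φ).toMonoidHom) := by rw [card_map]; exact hrA
  rcases S5847.result _ h1 hp' H h3 with k | k | k | k | k | k | k | k | k | k | k | k | k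
  · obtain ⟨W, k1, k2, -, k3⟩ := k
    exact Or.inl (rd_of φ h5 (red_ts h1 k1 k2 k3))
  · obtain ⟨-, W, k1, k2, -, -, -, k3⟩ := k
    exact Or.inl (rd_of φ h5 ⟨W, k1, k2, by rw [k3]; exact inf_le_left⟩)
  · obtain ⟨W, k1, -, -, k3⟩ := k
    exact Or.inl (rd_of φ h5 (red_of (by rw [k1]; norm_num) (by rw [k1]; norm_num) k3))
  · obtain ⟨-, W, k1, -, -, k3⟩ := k
    exact Or.inl (rd_of φ h5 (red_of (by rw [k1]; norm_num) (by rw [k1]; norm_num) k3))
  · obtain ⟨W, k1, -, k3⟩ := k
    exact Or.inl (rd_of φ h5 (red_of (by rw [k1]; norm_num) (by rw [k1]; norm_num) k3))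
  · obtain ⟨-, v, k1, k3⟩ := k
    exact Or.inl (rd_of φ h5 (red_ns h1 k1 k3))
  · obtain ⟨⟨p, -, k1, k2⟩, -⟩ := k
    omega
  · have := k.1
    omega
  · have := k.1
    omega
  · obtain ⟨-, D, k1, -, k3⟩ := k
    have h6 := decomp_le k1.decomp (h5.trans (by rw [k3]; exact inf_le_left)) hr' hd hrA'
    have h7 := hr'.lt (by omega)
    omega
  · obtain ⟨k0, K, k1, -, k3⟩ := k
    rw [Nat.odd_iff] at k0
    exact Or.inr (Or.inl ⟨by omega, 10, φ, K, Nat.prime_two, k1, h5.trans (by rw [k3]; exact inf_le_left)⟩)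
  · obtain ⟨F₀, s, P, ζ, k1, k2, -, -, k3⟩ := k
    exact (kill_subfield (h5.trans (by rw [k3]; exact inf_le_left)) k1 (hc.trans k2) hp hF hr
      (by rw [Fintype.card_fin]; omega) (by omega) hrA').elim
  · exact Or.inr (Or.inr (by
      rw [← card_map φ]
      exact (Subgroup.card_dvd_of_le h5).trans (res (by omega) h1 hp' h3 k)))

/-- `q = 3` : no proper subgroup has order divisible by `7 * 11 * 13` -/
theorem three (h : Pl Q 5) (hF : Nat.card F = 3) (hY : Y ≤ E Q) (hne : ¬ E Q ≤ Y) (h7 : 7 ∣ Nat.card Y) (h11 : 11 ∣ Nat.card Y)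
    (h13 : 13 ∣ Nat.card Y) : False := by
  have hQ := h.good.nondeg
  have hO := hY.trans E_le_O
  have q7 : PP 3 (1 * 6) 7 := pp (by norm_num) (by norm_num) (by decide) (by decide)
  have p7 : PP (Nat.card F) 6 7 := hF ▸ q7
  have p11 : PP (Nat.card F) 5 11 := hF ▸ pp (by norm_num) (by norm_num) (by decide) (by decide)
  rcases cases h (by omega) hY hne Nat.prime_three (hF.trans (pow_one 3).symm) q7 (by norm_num) h7 with ⟨W, w0, w1, hW⟩ | ⟨-, k⟩ | k
  · obtain ⟨y, hy, hyr, hy1⟩ := elt p7.prime h7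
    obtain ⟨z, hz, hzr, hz1⟩ := elt p11.prime h11
    obtain ⟨a1, a2, a3⟩ := block p7 (by norm_num) (by rw [h.dim]; norm_num) (hO hy) hyr hy1
    have hi := iso_of p11 (by norm_num) (hO hz) hzr
    obtain ⟨b1, -, -⟩ := hi.odd_case hQ (coe_ne_one hz1) p11 (by decide) (by rw [h.dim]; norm_num)
    have b2 : cm (z : Module.End F V) = ⊤ := Submodule.eq_top_of_finrank_eq (by rw [b1, h.dim])
    have b3 := hi.dvd p11 (W := W) (hW z hz)
    rw [b2, inf_top_eq] at b3
    have b4 : finrank F W ≠ 0 := fun e => w0 (Submodule.finrank_eq_zero.1 e)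
    have b5 := Submodule.finrank_lt w1
    rw [h.dim] at a1 b5
    rcases a3 W (hW y hy) with c | c <;> have := Submodule.finrank_mono c <;> omega
  · have := aext_odd hQ hO p11 (by decide) (by norm_num) (by rw [h.dim]; norm_num) h11 k
    omega
  · exact absurd (h13.trans k) (by norm_num)

theorem key (h : Pl Q 5) (h4 : Nat.card F ≤ 4) (hP : Pd Q X Y) {p a r : ℕ} (hp : p.Prime) (hF : Nat.card F = p ^ a) (ha : 1 ≤ a)
    (hr : PP p (a * 8) r) (hn : ¬ r ∣ 958003200) (hrX : r ∣ Nat.card X) : LR1 Q X := by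
  have hQ := h.good.nondeg
  have hX := hP.leX.trans E_le_O
  have hr' : PP (Nat.card F) 8 r := hF ▸ hr.of_pow ha
  by_cases hred : Rd X
  · exact lr1 h hX hr' hrX hred
  exfalso
  rcases cases h h4 hP.leX hP.neX hp hF hr (by norm_num) hrX with k | ⟨h3, k⟩ | k
  · exact hred k
  · have p7 : PP (Nat.card F) 6 7 := h3 ▸ pp (by norm_num) (by norm_num) (by decide) (by decide)
    have p11 : PP (Nat.card F) 5 11 := h3 ▸ pp (by norm_num) (by norm_num) (by decide) (by decide)
    have p13 : PP (Nat.card F) 3 13 := by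
      rw [h3]
      exact pp (by norm_num) (by norm_num) (by decide) (by decide)
    refine three h h3 hP.leY hP.neY
      ((side hP p7.prime (dvd_E h p7 (e := 3) (by norm_num) (by norm_num) (by norm_num) (by norm_num))).resolve_left fun b =>
        not_two' hQ (fun g hg => polar_O (hX hg)) h.five h.dim.le hr' p7 hrX b hred k)
      ((side hP p11.prime (dvd_E_half h p11)).resolve_left fun b => ?_)
      ((side hP p13.prime (dvd_E h p13 (e := 3) (by norm_num) (by norm_num) (by norm_num) (by norm_num))).resolve_left fun b => ?_)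
    · have := aext_odd hQ hX p11 (by decide) (by norm_num) (by rw [h.dim]; norm_num) b k
      omega
    · have := aext_odd hQ hX p13 (by decide) (by norm_num) (by rw [h.dim]; norm_num) b k
      omega
  · exact hn (hrX.trans k)

theorem main (h : Pl Q 5) (h4 : Nat.card F ≤ 4) (hP : Pd Q X Y) {p a r : ℕ} (hp : p.Prime) (hF : Nat.card F = p ^ a) (ha : 1 ≤ a)
    (hr : PP p (a * 8) r) (hn : ¬ r ∣ 958003200) : LR Q X Y := by
  have hr' : PP (Nat.card F) 8 r := hF ▸ hr.of_pow ha
  rcases side hP hr.prime (dvd_E h hr' (e := 4) (by norm_num) (by norm_num) (by norm_num) (by norm_num)) with b | b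
  · exact Or.inl (key h h4 hP hp hF ha hr hn b)
  · exact Or.inr (Or.inl (key h h4 hP.symm hp hF ha hr hn b))

end L10

/-- **[SM-OP2]** -/
theorem boxLR10 : BoxLR10 := by
  rintro F V _ _ _ _ _ Q m h rfl h4 X Y hP
  have h2 := one_lt_q F
  obtain hF | hF | hF : Nat.card F = 2 ^ 1 ∨ Nat.card F = 3 ^ 1 ∨ Nat.card F = 2 ^ 2 := by omega
  · exact L10.main h h4 hP Nat.prime_two hF le_rfl (r := 17) (pp (by norm_num) (by norm_num) (by decide) (by decide)) (by norm_num)
  · exact L10.main h h4 hP Nat.prime_three hF le_rfl (r := 41) (pp (by norm_num) (by norm_num) (by decide) (by decide)) (by norm_num)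
  · exact L10.main h h4 hP Nat.prime_two hF (by norm_num) (r := 257) (pp (by norm_num) (by norm_num) (by decide) (by decide))
      (by norm_num)

end Cfsg.Agent.SM.Op
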