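import Cfsg.Agent.SM.Op.Lr
import Cfsg.Agent.H989.Cov.Twelve
import Cfsg.Agent.S5872

/-!
# SM (S3570), socle `Ω⁺₁₂(2)`: `boxLR12` (helper25)
-/

set_option autoImplicit false
set_option linter.unusedSectionVars false

namespace Cfsg.Agent.SM.Op

open Module QuadraticMap Cfsg Cfsg.Geo
open Cfsg.Agent.LieClassical.OrthCore Cfsg.Agent.LieClassical.OrthTrans
open Cfsg.Agent.H449.Reg Cfsg.Agent.H826.RgF Cfsg.Agent.H955 Cfsg.Agent.H884.El
open Cfsg.Agent.SM.Op.Lr
open scoped MatrixGroups Matrix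

namespace L12

theorem res {F : Type} [Field F] [Fintype F] (hF : Fintype.card F = 2) {Q : (Fin 12 → F) → F} (hQ : IsNondegenerateQuadraticForm Q)
    (hp : IsPlusTypeOn Q ⊤) : H989.Cov.ResP Q := by
  intro H hH hS
  obtain ⟨P, p, hc, hp, -, h | h | h | h | h⟩ := S5872.result Q hQ hp H hH hS
  · have h1 := h.2.1
    have h2 := h.2.2
    omega
  · rcases h.2 with ⟨h1, h2, -⟩ | ⟨h1, -⟩
    · omega
    · rw [hF] at h1
      have h2 : Nat.Prime (p ^ 3) := by rw [← h1]; exact Nat.prime_two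
      exact Nat.Prime.not_prime_pow (by norm_num) h2
  · have h1 := h.2.1
    have h2 := h.2.2.2.1
    omega
  · have h1 := h.2.1
    have h2 := h.2.2
    omega
  · have h1 := h.2.1
    have h2 := h.2.2
    omega

variable {F V : Type} [Field F] [Fintype F] [AddCommGroup V] [Module F V] [FiniteDimensional F V] {Q : QuadraticForm F V}
  {X Y A : Subgroup (V ≃ₗ[F] V)}

theorem cases (h : Pl Q 6) (hF : Nat.card F = 2) (hA : A ≤ E Q) (hne : ¬ E Q ≤ A) {d r : ℕ} (hr : PP (Nat.card F) d r)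
    (hd : 6 < d) (hrA : r ∣ Nat.card A) : Rd A ∨ ∃ s, (s = 2 ∨ s = 3) ∧ AExt s A := by
  have hF' : Fintype.card F = 2 := by rw [← Nat.card_eq_fintype_card, hF]
  obtain ⟨φ, H, h1, h2, h3, h4⟩ := exists_max (n := 12) h rfl hA hne
  rcases H989.Cov.cases_plus hF' h1 h2 h3 with (k | ⟨t, k, D, k1, k2, k3, k4⟩ | ⟨s, K, k1, k2, k3⟩) | hc
  · exact Or.inl (rd_of φ h4 k)
  · have h5 := decomp_le k3 (h4.trans k4) hr (by omega) (by rw [card_map]; exact hrA)
    have h6 := hr.lt (by omega)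
    omega
  · exact Or.inr ⟨s, k1, 12, φ, K, by rcases k1 with rfl | rfl <;> norm_num, k2, h4.trans k3⟩
  · exact absurd hc (res hF' h1 h2 H h3)

theorem key (h : Pl Q 6) (hF : Nat.card F = 2) (hP : Pd Q X Y) (h11 : 11 ∣ Nat.card X) : LR Q X Y := by
  have hQ := h.good.nondeg
  have p11 : PP (Nat.card F) 10 11 := hF ▸ pp (by norm_num) (by norm_num) (by decide) (by decide)
  have p17 : PP (Nat.card F) 8 17 := hF ▸ pp (by norm_num) (by norm_num) (by decide) (by decide)
  have p31 : PP (Nat.card F) 5 31 := hF ▸ pp (by norm_num) (by norm_num) (by decide) (by decide)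
  have hX := hP.leX.trans E_le_O
  have hY := hP.leY.trans E_le_O
  have no : ∀ {A : Subgroup (V ≃ₗ[F] V)} {s : ℕ}, A ≤ O Q → (s = 2 ∨ s = 3) → AExt s A → ¬ 31 ∣ Nat.card A := fun hA hs hK hd => by
    have h1 := aext_odd hQ hA p31 (by decide) (by norm_num) (by rw [h.dim]; norm_num) hd hK
    rcases hs with rfl | rfl <;> omega
  by_cases hred : Rd X
  · exact Or.inl (lr1 h hX p11 h11 hred)
  obtain ⟨s, hs, hK⟩ := (cases h hF hP.leX hP.neX p11 (by norm_num) h11).resolve_left hred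
  obtain ⟨x, hx, hxr, hx1⟩ := elt p11.prime h11
  have h31 : 31 ∣ Nat.card Y :=
    (side hP p31.prime (dvd_E h p31 (e := 5) (by norm_num) (by norm_num) (by norm_num) (by norm_num))).resolve_left (no hX hs hK)
  obtain rfl : s = 2 := s_two (by rcases hs with rfl | rfl <;> norm_num) hK hx p11.prime hxr (by omega)
    (fx_type hQ h.plus h.five h.dim p11 (hX hx) hxr hx1).1
  have h17 : 17 ∣ Nat.card Y :=
    (side hP p17.prime (dvd_E h p17 (e := 4) (by norm_num) (by norm_num) (by norm_num) (by norm_num))).resolve_left fun a =>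
      not_two' hQ (fun g hg => polar_O (hX hg)) h.five h.dim.le p11 p17 h11 a hred hK
  have hr : Rd Y := (cases h hF hP.leY hP.neY p17 (by norm_num) h17).resolve_right fun ⟨s, a, b⟩ => no hY a b h31
  obtain ⟨D, d1, d2⟩ := sm_hp h (by decide) hY p17 p31 h17 h31 hr
  exact Or.inr (Or.inr (Or.inl ⟨D, d1, d2, fun _ => hK⟩))

end L12

/-- **[SM-OP3]** -/
theorem boxLR12 : BoxLR12 := by
  rintro F V _ _ _ _ _ Q m h rfl hF X Y hP
  have p11 : PP (Nat.card F) 10 11 := hF ▸ pp (by norm_num) (by norm_num) (by decide) (by decide)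
  rcases side hP p11.prime (dvd_E h p11 (e := 5) (by norm_num) (by norm_num) (by norm_num) (by norm_num)) with a | a
  · exact L12.key h hF hP a
  · exact Lr.symm (L12.key h hF hP.symm a)

end Cfsg.Agent.SM.Op
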