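import Cfsg.Agent.SM.Op.Defs
import Cfsg.Agent.SM.Ex78.Base
import Cfsg.Agent.H146.KW.CycGL
import Cfsg.Agent.H508.Sz.E4b
import Cfsg.Agent.H920.Rg.BetaX
import Cfsg.Agent.H997.Rg.PlusOdd
import Cfsg.Agent.S0293

/-!
# SM (S3570), socle `PΩ⁺_{2m}(q)`, `m ≥ 5`: tools for the linear reduction (helper99)

* `card_E`, `dvd_E`, `side`, `side1`: primitive primes in `Ω = X Y`;
* `lr1_of_rd` (lemma A), `rd_of_both` (lemma B), `hp_fx`, `sm_hp`, `dvd_of_small`;
* `lr_odd`, `lr_even`: the reduction from the designated primes.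
-/

set_option autoImplicit false
set_option linter.unusedSectionVars false

namespace Cfsg.Agent.SM.Op.Lg

open Module QuadraticMap Cfsg Cfsg.Geo
open Cfsg.Agent.LieClassical.OrthCore Cfsg.Agent.LieClassical.OrthTrans
open Cfsg.Agent.LieClassical.OrthFinite (omegaEquiv good_of_finite)
open Cfsg.Agent.H449.Reg (AExt cj)
open Cfsg.Agent.H826.RgF
open Cfsg.Agent.H955 (IsPlus perp res)
open Cfsg.Agent.H951 (fx cm)
open Cfsg.Agent.H884.El (PP)

variable {F V : Type} [Field F] [Fintype F] [AddCommGroup V] [Module F V] [FiniteDimensional F V]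
  {Q : QuadraticForm F V} {m e r a : ℕ} {X Y : Subgroup (V ≃ₗ[F] V)}

theorem finite_gl : Finite (V ≃ₗ[F] V) :=
  have : Finite V := Module.finite_of_finite F
  Finite.of_injective (fun g : V ≃ₗ[F] V => (g : V → V)) DFunLike.coe_injective

/-- the order of `Ω` -/
theorem card_E (h : Pl Q m) : Nat.card F ^ (m * (m - 1)) * (Nat.card F ^ m - 1) *
    ∏ i ∈ Finset.range (m - 1), (Nat.card F ^ (2 * (i + 1)) - 1) ∣ 4 * Nat.card (E Q) := by
  have h5 := h.five
  obtain ⟨φ, hφ⟩ := H955.exists_plus_equiv m Q h.good.nondeg h.dim h.plus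
  have hG : Good (LieClassical.QuadForms.plusForm m F) :=
    good_of_finite (H955.nondeg_plus m) (by rw [← φ.finrank_eq, h.dim]; omega)
  have h1 := Nat.card_congr ((omegaEquiv _).trans (MulEquiv.subgroupCongr hG.commutator_eq_E)).toEquiv
  rw [LieClassical.QuadForms.coe_plusForm] at h1
  rw [H508.Sz.card_E_congr hφ, ← h1, ← S0293.result (F := F) Nat.card_eq_fintype_card.symm m (by omega)]
  exact Nat.mul_dvd_mul (Nat.gcd_dvd_left _ _) (Subgroup.card_quotient_dvd_card _)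

theorem dvd_E (h : Pl Q m) {n k : ℕ} (hn : Odd n) (hk : k = m ∨ ∃ i, 1 ≤ i ∧ i < m ∧ k = 2 * i)
    (hd : n ∣ Nat.card F ^ k - 1) : n ∣ Nat.card (E Q) := by
  refine (Nat.Coprime.pow_right 2 (Nat.coprime_two_right.2 hn)).dvd_of_dvd_mul_left (hd.trans (dvd_trans ?_ (card_E h)))
  rcases hk with rfl | ⟨i, h1, h2, rfl⟩
  · exact (Dvd.intro_left _ rfl).mul_right _
  · have h3 := Finset.dvd_prod_of_mem (fun j => Nat.card F ^ (2 * (j + 1)) - 1) (Finset.mem_range.2 (show i - 1 < m - 1 by omega))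
    rw [Nat.sub_add_cancel h1] at h3
    exact h3.mul_left _

theorem cyc (hr : PP (Nat.card F) e r) (he : 1 ≤ e) (h1 : e ≤ finrank F V) (h2 : finrank F V < 2 * e)
    (Z : Subgroup (V ≃ₗ[F] V)) (P : Subgroup Z) (hP : IsPGroup r P) : IsCyclic P := by
  have := Fact.mk hr.prime
  rw [Nat.card_eq_fintype_card] at hr
  let φ := (Module.finBasis F V).equivFun
  exact H146.KW.isCyclic_of_GL (ι := Fin (finrank F V)) (hr.not_dvd he) he (hr.dvd_iff Fintype.card_pos)
    (by rwa [Fintype.card_fin]) (by rwa [Fintype.card_fin]) hP ((cj φ).toMonoidHom.comp (Z.subtype.comp P.subtype))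
    ((cj φ).injective.comp (Z.subtype_injective.comp P.subtype_injective))

theorem elt (hr : PP (Nat.card F) e r) (he : 1 ≤ e) (h1 : e ≤ finrank F V) (h2 : finrank F V < 2 * e)
    (h : r ^ a ∣ Nat.card X) : El X (r ^ a) := by
  have := Fact.mk hr.prime
  have := finite_gl (F := F) (V := V)
  obtain ⟨P, hP⟩ := Sylow.exists_subgroup_card_pow_prime r h
  obtain ⟨g, hg⟩ := (cyc hr he h1 h2 X P (IsPGroup.of_card hP)).exists_ofOrder_eq_natCard
  exact ⟨_, g.1.2, by rw [Subgroup.orderOf_coe, Subgroup.orderOf_coe, hg, hP]⟩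

theorem pd (h : Pd Q X Y) : Ex78.Pd (X.subgroupOf (E Q)) (Y.subgroupOf (E Q)) := fun g =>
  let ⟨x, hx, y, hy, e⟩ := h.fac g g.2
  ⟨⟨x, h.leX hx⟩, hx, ⟨y, h.leY hy⟩, hy, Subtype.ext e⟩

/-- a large primitive prime lies in one factor with its full power -/
theorem side (hP : Pl Q m) (h : Pd Q X Y) {i : ℕ} (hr : PP (Nat.card F) (2 * i) r) (h1 : i < m) (h2 : m < 2 * i)
    (hd : r ^ a ∣ Nat.card F ^ (2 * i) - 1) : El X (r ^ a) ∨ El Y (r ^ a) := by
  have := finite_gl (F := F) (V := V)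
  have hn := hP.dim
  have hE := dvd_E hP (hr.odd (by omega)).pow (Or.inr ⟨i, by omega, h1, rfl⟩) hd
  have key : ∀ Z : Subgroup (V ≃ₗ[F] V), Z ≤ E Q → ¬ r ∣ (Z.subgroupOf (E Q)).index → El Z (r ^ a) := by
    intro Z hZ h4
    rw [← (Z.subgroupOf (E Q)).card_mul_index, Nat.card_congr (Subgroup.subgroupOfEquivOfLe hZ).toEquiv] at hE
    exact elt hr (by omega) (by omega) (by omega)
      ((Nat.Coprime.pow_left a (hr.prime.coprime_iff_not_dvd.2 h4)).dvd_of_dvd_mul_right hE)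
  exact ((pd h).cyc hr.prime (cyc hr (by omega) (by omega) (by omega) _)).imp (key X h.leX) (key Y h.leY)

theorem card_dvd (h : Pd Q X Y) : Nat.card (E Q) ∣ Nat.card X * Nat.card Y := by
  have := finite_gl (F := F) (V := V)
  have h1 := (Y.subgroupOf (E Q)).card_mul_index
  rw [Nat.card_congr (Subgroup.subgroupOfEquivOfLe h.leY).toEquiv] at h1
  rw [← h1, mul_comm (Nat.card X), ← Nat.card_congr (Subgroup.subgroupOfEquivOfLe h.leX).toEquiv]
  exact Nat.mul_dvd_mul_left _ (pd h).index_dvd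

theorem side1 (h : Pd Q X Y) (hr : r.Prime) (hd : r ∣ Nat.card (E Q)) : El X r ∨ El Y r :=
  ((Nat.Prime.dvd_mul hr).1 (hd.trans (card_dvd h))).imp (el_of_dvd hr) (el_of_dvd hr)

theorem el_one (hr : r.Prime) (ha : 1 ≤ a) (h : El X (r ^ a)) : El X r := el_of_dvd hr (h.prime_dvd ha)

/-- **lemma A** -/
theorem lr1_of_rd (hP : Pl Q m) (hX : X ≤ O Q) (hr : PP (Nat.card F) (2 * m - 2) r) (h : El X r) (hrd : Rd X) : LR1 Q X := by
  have h5 := hP.five
  have hn := hP.dim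
  obtain ⟨x, hx, hxr, hx1⟩ := h.exists_elt hr.prime
  have h1 := fx_type hP.good.nondeg hP.plus h5 hn hr (hX hx) hxr hx1
  obtain ⟨S, h0, hS, h2⟩ := rd_fix hP.good.nondeg hX hr (by omega) (by omega) hx hxr hx1 hrd
  exact ⟨_, h1, fun W hW h4 => le_fx hr (by omega) (hX hx) hxr (hW x hx) (by omega),
    ⟨S, h0, hS, (Submodule.finrank_mono h2).trans (by rw [h1.1]; norm_num)⟩, _, r, hr, by omega, h⟩

theorem eq_two {s n k : ℕ} (hs : s.Prime) (h : s ∣ Nat.gcd n k) (hk : n - k = 2 ∨ n - k = 4) : s = 2 := by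
  have h1 := Nat.dvd_sub (h.trans (Nat.gcd_dvd_left _ _)) (h.trans (Nat.gcd_dvd_right _ _))
  refine (Nat.prime_dvd_prime_iff_eq hs Nat.prime_two).1 (hs.dvd_of_dvd_pow (n := 2) ?_)
  rcases hk with e | e <;> rw [e] at h1
  · exact h1.trans (by norm_num)
  · exact h1

/-- a field normalised by an element of order `r_{2m-2}` is quadratic -/
theorem ext_two (hP : Pl Q m) (hX : X ≤ O Q) (hr : PP (Nat.card F) (2 * m - 2) r) (h : El X r) {s : ℕ} (hs : s.Prime)
    (hK : AExt s X) : s = 2 := by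
  have h5 := hP.five
  obtain ⟨x, hx, hxr, hx1⟩ := h.exists_elt hr.prime
  refine s_two hs hK hx hr.prime hxr ?_ (fx_type hP.good.nondeg hP.plus h5 hP.dim hr (hX hx) hxr hx1).1
  rintro rfl
  have h1 := hK.dvd_finrank
  rw [hP.dim] at h1
  have h2 := hr.lt (by omega)
  have h3 := Nat.le_of_dvd (by omega) ((hr.prime.dvd_mul.1 h1).resolve_left fun h0 => by
    have := Nat.le_of_dvd two_pos h0
    omega)
  omega

/-- **lemma B** -/
theorem rd_of_both (hP : Pl Q m) (hX : X ≤ O Q) (hE : ¬ E Q ≤ X) {r2 i r4 j : ℕ} (hr2 : PP (Nat.card F) (2 * m - 2) r2)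
    (hr4 : PP (Nat.card F) (2 * m - 4) r4) (hi : 1 ≤ i) (hj : 1 ≤ j) (hL : LB F (2 * m) (r2 ^ i) (r4 ^ j))
    (h2 : El X (r2 ^ i)) (h4 : El X (r4 ^ j)) : Rd X := by
  by_contra hrd
  rcases hL hP.good.nondeg hP.dim X hX h2 h4 with k | ⟨s, hs, hK⟩ | k
  · exact hrd k
  · obtain rfl := ext_two hP hX hr2 (el_one hr2.prime hi h2) hs hK
    exact not_two' hP.good.nondeg (fun g hg u v => polar_O (hX hg) u v) hP.five hP.dim.le hr2 hr4 (h2.prime_dvd hi)
      (h4.prime_dvd hj) hrd hK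
  · exact hE k

/-- a non-degenerate plane of plus type -/
theorem hp_of_plus {D : Submodule F V} (h2 : finrank F D = 2) (hnd : Nondeg (res Q D)) (hp : IsPlus (res Q D)) : Hp Q D := by
  obtain ⟨U, hU, hUd⟩ := hp
  have hU0 : U ≠ ⊥ := by
    rintro rfl
    rw [finrank_bot, h2] at hUd
    omega
  obtain ⟨x, hxU, hx0⟩ := Submodule.exists_mem_ne_zero_of_ne_bot hU0
  obtain ⟨y, hy⟩ := exists_hyp hnd (hU x hxU) hx0
  have hy' : Hyp Q (x : V) y := ⟨hy.left, hy.right, by rw [← hy.pair]; rfl⟩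
  refine ⟨x, y, hy', (Submodule.eq_of_le_of_finrank_eq ?_ ?_).symm⟩
  · rw [Submodule.span_le]
    rintro z (rfl | rfl)
    · exact x.2
    · exact y.2
  · have hli : LinearIndependent F ![(x : V), y] := by
      rw [LinearIndependent.pair_iff]
      intro s t hst
      have h3 := congrArg (fun z => polar Q z (y : V)) hst
      have h4 := congrArg (fun z => polar Q z (x : V)) hst
      simp only [polar_add_left, polar_smul_left, hy'.pair, hy'.pair', hy'.polar_left, hy'.polar_right, polar_zero_left,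
        smul_eq_mul, mul_one, mul_zero, add_zero, zero_add] at h3 h4
      exact ⟨h3, h4⟩
    have h5 := finrank_span_eq_card hli
    rw [Matrix.range_cons, Matrix.range_cons, Matrix.range_empty, Set.union_empty, Set.singleton_union] at h5
    rw [h5, h2, Fintype.card_fin]

/-- the fixed space of an element of order `r_{m-1}`, `m` even -/
theorem hp_fx (hP : Pl Q m) (hm : Even m) (hr : PP (Nat.card F) (m - 1) r) {z : V ≃ₗ[F] V} (hz : z ∈ O Q) (hzr : z ^ r = 1)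
    (hz1 : z ≠ 1) : finrank F (fx (z : Module.End F V)) = 2 ∧ Hp Q (fx (z : Module.End F V)) := by
  have h5 := hP.five
  have hn := hP.dim
  have hQ := hP.good.nondeg
  have h := iso_of hr (by omega) hz hzr
  obtain ⟨h1, h2, -⟩ := h.odd_case hQ (H522.Rg.coe_ne_one hz1) hr (Nat.Even.sub_odd (by omega) hm odd_one) (by omega)
  have h3 := h.finrank_add
  have h4 := (H955.isPlus_iff_perp hQ (nondeg_cm' hQ hr (by omega) hz hzr) (hn ▸ even_two_mul m) (h1 ▸ even_two_mul _)).1 hP.plus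
  rw [perp_cm' hQ hr (by omega) hz hzr] at h4
  have h6 : finrank F (fx (z : Module.End F V)) = 2 := by omega
  exact ⟨h6, hp_of_plus h6 (nondeg_fx' hQ hr (by omega) hz hzr) (h4.1 h2)⟩

/-- a reducible group with `r_{2m-4}` and `r_{m-1}` -/
theorem sm_hp (hP : Pl Q m) (hm : Even m) (hY : Y ≤ O Q) {r4 w : ℕ} (hr4 : PP (Nat.card F) (2 * m - 4) r4)
    (hw : PP (Nat.card F) (m - 1) w) (h4 : El Y r4) (h : El Y w) (hrd : Rd Y) :
    ∃ D : Submodule F V, finrank F D = 2 ∧ Hp Q D ∧ Sm Y D := by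
  have h5 := hP.five
  have hn := hP.dim
  have h6 : 6 ≤ m := by
    obtain ⟨k, hk⟩ := hm
    omega
  obtain ⟨z, hz, hzr, hz1⟩ := h.exists_elt hw.prime
  obtain ⟨y, hy, hyr, hy1⟩ := h4.exists_elt hr4.prime
  obtain ⟨h1, h2⟩ := hp_fx hP hm hw (hY hz) hzr hz1
  obtain ⟨S, h0, hS, h3⟩ := rd_fix hP.good.nondeg hY hr4 (by omega) (by omega) hy hyr hy1 hrd
  have h7 := (block hr4 (by omega) (by omega) (hY hy) hyr hy1).1
  have h8 := Submodule.finrank_mono h3
  exact ⟨_, h1, h2, fun W hW k => le_fx hw (by omega) (hY hz) hzr (hW z hz) (by omega), ⟨S, h0, hS, by omega⟩, _, r4, hr4,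
    by omega, h4⟩

/-- a prime divisor of `q ^ m - 1` lies in the partner of a group with a small invariant subspace -/
theorem dvd_of_small (hP : Pl Q m) (h : Pd Q X Y) {b : ℕ} (hb : b.Prime) (hd : b ∣ Nat.card F ^ m - 1) {S : Submodule F V}
    (h0 : S ≠ ⊥) (hS : Iv Y S) (hs : Nat.card S < b) : El X b := by
  have := finite_gl (F := F) (V := V)
  have hV : Finite V := Module.finite_of_finite F
  have h5 := hP.five
  obtain ⟨v, hv, hv0⟩ := S.exists_mem_ne_zero_of_ne_bot h0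
  have h1 := H826.Rg920.card_orbit_stab (E Q) v
  have h2 : MulAction.orbit (E Q) v = {u | u ≠ 0 ∧ Q u = Q v} := by
    ext u
    constructor
    · rintro ⟨g, rfl⟩
      exact ⟨fun k => hv0 ((LinearEquiv.map_eq_zero_iff g.1).1 k), E_le_O g.2 v⟩
    · rintro ⟨hu0, hu⟩
      obtain ⟨g, hg, e⟩ := hP.good.trans_norm hv0 hu0 (Eq.symm hu)
      exact ⟨⟨g, hg⟩, e⟩
  obtain ⟨U, hU, hUd⟩ := hP.plus
  rw [hP.dim] at hUd
  have h3 : b ∣ (MulAction.orbit (E Q) v).ncard :=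
    h2 ▸ H920.Rg.cnt_norm hP.good.nondeg rfl hP.dim (by omega) ⟨U, by omega, hU⟩ hd (Q v)
  have h4 := H826.Rg920.card_orbit_stab Y v
  have h6 : Nat.card (MulAction.stabilizer Y v) ∣ Nat.card (MulAction.stabilizer (E Q) v) := by
    let φ : MulAction.stabilizer Y v →* MulAction.stabilizer (E Q) v :=
      { toFun := fun g => ⟨⟨g.1.1, h.leY g.1.2⟩, g.2⟩
        map_one' := rfl
        map_mul' := fun _ _ => rfl }
    exact Subgroup.card_dvd_of_injective φ fun a b k => Subtype.ext (Subtype.ext (congrArg (fun t => t.1.1) k))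
  have h7 := (Nat.mul_dvd_mul h3 h6).trans (h1 ▸ card_dvd h)
  rw [← h4, ← mul_assoc] at h7
  refine el_of_dvd hb (((Nat.Prime.dvd_mul hb).1 (Nat.dvd_of_mul_dvd_mul_right Nat.card_pos h7)).resolve_right fun k => ?_)
  have h8 : (MulAction.orbit Y v).ncard ≤ Nat.card S := Set.ncard_le_ncard (t := (S : Set V)) (by
    rintro _ ⟨g, rfl⟩
    exact hS g.1 g.2 v hv)
  have h9 := Nat.le_of_dvd ((Set.ncard_pos).2 ⟨v, MulAction.mem_orbit_self _⟩) k
  omega

variable {p f : ℕ}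

/-- `m` odd -/
theorem lr_odd (hP : Pl Q m) (hf : 1 ≤ f) (hF : Nat.card F = p ^ f) (hodd : Odd m) {r2 i r4 j w : ℕ}
    (hD : DOdd F p f m r2 i r4 j w) (h : Pd Q X Y) (h2 : El X (r2 ^ i)) : LR1 Q X := by
  have h5 := hP.five
  have hr2 : PP (Nat.card F) (2 * m - 2) r2 := hF ▸ hD.dc.pp2.of_pow hf
  have hr4 : PP (Nat.card F) (2 * m - 4) r4 := hF ▸ hD.dc.pp4.of_pow hf
  have hw : PP (Nat.card F) m w := hF ▸ hD.ppw.of_pow hf
  have hX := h.leX.trans E_le_O
  have hY := h.leY.trans E_le_O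
  have hwY : El Y w := (side1 h hw.prime (dvd_E hP (hw.odd (by omega)) (Or.inl rfl)
    ((hw.dvd_iff Nat.card_pos m).2 dvd_rfl))).resolve_left fun k =>
      H997.Rg.PlusOdd.abs hP.good.nondeg hX h5 hodd hP.dim hr2 hD.dc.pos2 (Or.inl rfl) hw hD.lo2 h2 k h.neX
  have e4 : 2 * (m - 2) = 2 * m - 4 := by omega
  have h4 : El X (r4 ^ j) := (side hP h (i := m - 2) (e4 ▸ hr4) (by omega) (by omega)
    (by rw [e4, hF]; exact hD.dc.dvd4)).resolve_right fun k =>
      H997.Rg.PlusOdd.abs hP.good.nondeg hY h5 hodd hP.dim hr4 hD.dc.pos4 (Or.inr rfl) hw hD.lo4 k hwY h.neY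
  exact lr1_of_rd hP hX hr2 (el_one hr2.prime hD.dc.pos2 h2)
    (rd_of_both hP hX h.neX hr2 hr4 hD.dc.pos2 hD.dc.pos4 hD.dc.lb h2 h4)

/-- `m` even -/
theorem lr_even (hP : Pl Q m) (hf : 1 ≤ f) (hF : Nat.card F = p ^ f) (hm : Even m) {r2 i r4 j w b c : ℕ}
    (hD : DEven F p f m r2 i r4 j w b c) (h : Pd Q X Y) (h2 : El X (r2 ^ i)) : LR1 Q X ∨ LR2 Q X Y := by
  have h5 := hP.five
  have hn := hP.dim
  have hQ := hP.good.nondeg
  have hr2 : PP (Nat.card F) (2 * m - 2) r2 := hF ▸ hD.dc.pp2.of_pow hf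
  have hr4 : PP (Nat.card F) (2 * m - 4) r4 := hF ▸ hD.dc.pp4.of_pow hf
  have hw : PP (Nat.card F) (m - 1) w := hF ▸ hD.ppw.of_pow hf
  have hX := h.leX.trans E_le_O
  have hY := h.leY.trans E_le_O
  by_cases hrd : Rd X
  · exact Or.inl (lr1_of_rd hP hX hr2 (el_one hr2.prime hD.dc.pos2 h2) hrd)
  right
  have hwo : Odd (m - 1) := Nat.Even.sub_odd (by omega) hm odd_one
  have e4 : 2 * (m - 2) = 2 * m - 4 := by omega
  have h4 : El Y (r4 ^ j) := (side hP h (i := m - 2) (e4 ▸ hr4) (by omega) (by omega)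
    (by rw [e4, hF]; exact hD.dc.dvd4)).resolve_left fun k =>
      hrd (rd_of_both hP hX h.neX hr2 hr4 hD.dc.pos2 hD.dc.pos4 hD.dc.lb h2 k)
  have ext : ∀ {t : ℕ}, LO F (2 * m) (2 * m - 2) (r2 ^ i) t → El X t → AExt 2 X := fun hL ht => by
    rcases hL hQ hn X hX h2 ht with k | ⟨s, hs, k, hK⟩ | k
    · exact absurd k hrd
    · exact eq_two hs k (by omega) ▸ hK
    · exact absurd k h.neX
  have hwY : El Y w := (side1 h hw.prime (dvd_E hP (hw.odd (by omega)) (Or.inr ⟨m - 1, by omega, by omega, rfl⟩)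
    ((hw.dvd_iff Nat.card_pos _).2 (Dvd.intro_left _ rfl)))).resolve_left fun k =>
      H522.Rg.o_not_two_odd hQ hX hw hwo (by omega) (by omega) k.dvd (ext hD.lo2 k)
  have hrY : Rd Y := by
    rcases hD.lo4 hQ hn Y hY h4 hwY with k | ⟨s, hs, k, hK⟩ | k
    · exact k
    · exact (H522.Rg.o_not_two_odd hQ hY hw hwo (by omega) (by omega) hwY.dvd (eq_two hs k (by omega) ▸ hK)).elim
    · exact absurd k h.neY
  obtain ⟨D, h1, h3, h6⟩ := sm_hp hP hm hY hr4 hw (el_one hr4.prime hD.dc.pos4 h4) hwY hrY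
  refine ⟨D, h3, h6, fun _ => ext hD.lob ?_⟩
  rcases hD.hb with rfl | ⟨hb, h30, hd, rfl, hp3, -⟩
  · exact ⟨1, one_mem _, orderOf_one⟩
  · obtain ⟨S, h0, hS, h7⟩ := h6.ex
    refine dvd_of_small hP h hb (hF ▸ hd) h0 hS ?_
    have h8 := (Submodule.finrank_mono (h6.le S hS h7)).trans h1.le
    rw [Module.natCard_eq_pow_finrank (K := F)]
    have h9 : Nat.card F ^ finrank F S ≤ 3 ^ 2 := (Nat.pow_le_pow_right Nat.card_pos h8).trans
      (Nat.pow_le_pow_left (by rw [hF, pow_one]; exact hp3) 2)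
    omega

end Cfsg.Agent.SM.Op.Lg
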