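import Cfsg.Agent.SM.Op.Defs
import Cfsg.Agent.SM.Om.Lin
import Cfsg.Agent.H826.RgF.Both
import Cfsg.Agent.H621.Pi.OrdO
import Cfsg.Agent.H621.EP.OrdO
import Cfsg.Agent.H884.ElKill
import Cfsg.Agent.H884.ElRows

/-!
# SM (S3570), socle `PΩ⁺_{2m}(q)`: tools for the small cases of the linear reduction (helper25)

`side`, `dvd_E`, `dvd_E_half` : primes; `lr1` : Lemma A; `lr2`; `exists_max` : coordinates and a maximal overgroup; `rd_of`, `aext_odd`.
-/

set_option autoImplicit false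
set_option linter.unusedSectionVars false

namespace Cfsg.Agent.SM.Op.Lr

open Module QuadraticMap Cfsg Cfsg.Geo
open Cfsg.Agent.LieClassical.OrthCore Cfsg.Agent.LieClassical.OrthTrans
open Cfsg.Agent.LieClassical.OrthFinite (glEquiv glEquiv_apply)
open Cfsg.Agent.H449.Reg Cfsg.Agent.H826.RgF Cfsg.Agent.H955 Cfsg.Agent.H884.El
open Cfsg.Agent.H951 (fx cm Inv)
open Cfsg.Agent.H278.Cov (Red)
open scoped MatrixGroups Matrix

variable {F V : Type} [Field F] [Fintype F] [AddCommGroup V] [Module F V] [FiniteDimensional F V] {Q : QuadraticForm F V}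
  {m : ℕ} {X Y A : Subgroup (V ≃ₗ[F] V)}

theorem pp {q e r : ℕ} (hr : r.Prime) (he : 0 < e) (h1 : (q : ZMod r) ^ e = 1) (h2 : ∀ i < e, 0 < i → (q : ZMod r) ^ i ≠ 1) :
    PP q e r := ⟨hr, (orderOf_eq_iff he).2 ⟨h1, h2⟩⟩

theorem symm (h : LR Q X Y) : LR Q Y X := by
  rcases h with h | h | h | h
  · exact Or.inr (Or.inl h)
  · exact Or.inl h
  · exact Or.inr (Or.inr (Or.inr h))
  · exact Or.inr (Or.inr (Or.inl h))

theorem side (h : Pd Q X Y) {r : ℕ} (hr : r.Prime) (hd : r ∣ Nat.card (E Q)) : r ∣ Nat.card X ∨ r ∣ Nat.card Y :=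
  hr.dvd_mul.1 (hd.trans ⟨_, (Om.card_of_fac h.leX h.leY h.fac).symm⟩)

/-- primes dividing `q ^ (2 e) - 1`, `e < m` -/
theorem dvd_E (h : Pl Q m) {d r e : ℕ} (hr : PP (Nat.card F) d r) (hd : 2 ≤ d) (he : 1 ≤ e) (hde : d ∣ 2 * e) (hem : e < m) :
    r ∣ Nat.card (E Q) := by
  have h5 := h.five
  have := hr.lt (by omega)
  exact H621.Pi.dvd_card_E h.good.nondeg (by rw [h.dim]; omega) hr.prime (by omega) (hr.not_dvd (by omega)) he
    (Or.inl ⟨by rw [h.dim]; omega, (hr.dvd_iff (one_lt_q F).le _).2 hde⟩)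

/-- primes dividing `q ^ m - 1` -/
theorem dvd_E_half (h : Pl Q m) {r : ℕ} (hr : PP (Nat.card F) m r) : r ∣ Nat.card (E Q) := by
  have h5 := h.five
  have := hr.lt (by omega)
  obtain ⟨U, hU, hd⟩ := h.plus
  refine H621.Pi.dvd_card_E h.good.nondeg (by rw [h.dim]; omega) hr.prime (by omega) (hr.not_dvd (by omega)) (e := m) (by omega)
    (Or.inr ⟨h.dim.symm, Or.inl ⟨⟨U, ⟨fun x hx y hy => ?_, hU⟩, hd⟩, (hr.dvd_iff (one_lt_q F).le _).2 dvd_rfl⟩⟩)
  change Q (x + y) - Q x - Q y = 0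
  rw [hU _ (U.add_mem hx hy), hU x hx, hU y hy, sub_zero, sub_zero]

theorem elt {r : ℕ} (hr : r.Prime) (hd : r ∣ Nat.card A) : ∃ x ∈ A, x ^ r = 1 ∧ x ≠ 1 := (el_of_dvd hr hd).exists_elt hr

/-- **Lemma A** -/
theorem lr1 (h : Pl Q m) (hX : X ≤ O Q) {r : ℕ} (hr : PP (Nat.card F) (2 * m - 2) r) (hd : r ∣ Nat.card X) (hred : Rd X) :
    LR1 Q X := by
  have h5 := h.five
  obtain ⟨x, hx, hxr, hx1⟩ := elt hr.prime hd
  obtain ⟨h1, h2⟩ := fx_type h.good.nondeg h.plus h5 h.dim hr (hX hx) hxr hx1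
  obtain ⟨S, s1, s2, s3⟩ := rd_fix h.good.nondeg hX hr (by omega) (by rw [h.dim]; omega) hx hxr hx1 hred
  exact ⟨_, ⟨h1, h2⟩, fun W hW hWd => le_fx hr (by omega) (hX hx) hxr (hW x hx) (by omega),
    ⟨S, s1, s2, (Submodule.finrank_mono s3).trans (by omega)⟩, ⟨_, r, hr, by omega, el_of_dvd hr.prime hd⟩⟩

theorem hp_of_plus {D : Submodule F V} (h2 : finrank F D = 2) (hnd : Nondeg (res Q D)) (hp : IsPlus (res Q D)) : Hp Q D := by
  obtain ⟨U, hU, hUd⟩ := hp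
  have hU0 : U ≠ ⊥ := by
    rintro rfl
    rw [finrank_bot, h2] at hUd
    omega
  obtain ⟨x, hxU, hx0⟩ := Submodule.exists_mem_ne_zero_of_ne_bot hU0
  obtain ⟨y, hy⟩ := exists_hyp hnd (hU x hxU) hx0
  have hy' : Hyp Q (x : V) y := ⟨hy.left, hy.right, by rw [← hy.pair]; rfl⟩
  refine ⟨x, y, hy', (Submodule.eq_of_le_of_finrank_eq ?_ ?_).symm⟩
  · rw [Submodule.span_le]
    rintro z (rfl | rfl)
    · exact x.2
    · exact y.2
  · have hli : LinearIndependent F ![(x : V), y] := by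
      rw [LinearIndependent.pair_iff]
      intro s t hst
      have h3 := congrArg (fun z => polar Q z (y : V)) hst
      have h4 := congrArg (fun z => polar Q z (x : V)) hst
      simp only [polar_add_left, polar_smul_left, hy'.pair, hy'.pair', hy'.polar_left, hy'.polar_right, polar_zero_left,
        smul_eq_mul, mul_one, mul_zero, add_zero, zero_add] at h3 h4
      exact ⟨h3, h4⟩
    have h5 := finrank_span_eq_card hli
    rw [Matrix.range_cons, Matrix.range_cons, Matrix.range_empty, Set.union_empty, Set.singleton_union] at h5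
    rw [h5, h2, Fintype.card_fin]

theorem coe_ne_one {x : V ≃ₗ[F] V} (hx : x ≠ 1) : (x : Module.End F V) ≠ 1 := fun h =>
  hx (LinearEquiv.ext fun v => LinearMap.congr_fun h v)

/-- `m` even: a reducible group with the primes `r_{2m-4}` and `r_{m-1}` -/
theorem sm_hp (h : Pl Q m) (hm : Even m) (hY : Y ≤ O Q) {r w : ℕ} (hr : PP (Nat.card F) (2 * m - 4) r)
    (hw : PP (Nat.card F) (m - 1) w) (hrY : r ∣ Nat.card Y) (hwY : w ∣ Nat.card Y) (hred : Rd Y) : ∃ D, Hp Q D ∧ Sm Y D := by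
  have h5 := h.five
  have hQ := h.good.nondeg
  obtain ⟨k, hk⟩ := hm
  obtain ⟨x, hx, hxr, hx1⟩ := elt hr.prime hrY
  obtain ⟨z, hz, hzr, hz1⟩ := elt hw.prime hwY
  have hi := iso_of hw (by omega) (hY hz) hzr
  obtain ⟨a1, a2, -⟩ := hi.odd_case hQ (coe_ne_one hz1) hw ⟨k - 1, by omega⟩ (by rw [h.dim]; omega)
  have a3 := hi.finrank_add
  rw [h.dim] at a3
  have a4 := ((hi.isPlus_fx hQ (by rw [h.dim]; exact even_two_mul m) (by rw [a1]; exact even_two_mul _)).1 h.plus).1 a2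
  obtain ⟨S, s1, s2, s3⟩ := rd_fix hQ hY hr (by omega) (by rw [h.dim]; omega) hx hxr hx1 hred
  obtain ⟨b1, -, -⟩ := block hr (by omega) (by rw [h.dim]; omega) (hY hx) hxr hx1
  rw [h.dim] at b1
  exact ⟨_, hp_of_plus (by omega) (nondeg_fx' hQ hw (by omega) (hY hz) hzr) a4,
    fun W hW hWd => le_fx hw (by omega) (hY hz) hzr (hW z hz) (by omega),
    ⟨S, s1, s2, (Submodule.finrank_mono s3).trans (by omega)⟩, ⟨_, r, hr, by omega, el_of_dvd hr.prime hrY⟩⟩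

/-! ### coordinates -/

variable {n : ℕ}

theorem card_map (φ : V ≃ₗ[F] (Fin n → F)) : Nat.card (A.map (cj φ).toMonoidHom) = Nat.card A :=
  Subgroup.card_map_of_injective (cj φ).injective

theorem map_E_le (hn5 : 5 ≤ n) (hQ : Nondeg Q) (φ : V ≃ₗ[F] (Fin n → F)) :
    (E Q).map (cj φ).toMonoidHom ≤ omegaGL (⇑(tq Q φ)) := by
  have hQ' := nondeg_tq hQ φ
  have hQ'' := H884.OddForm.isNondegenerate_of_nondeg _ hQ'
  rw [Subgroup.map_le_iff_le_comap, E, Subgroup.closure_le]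
  rintro _ ⟨u, w, hu, hw, rfl⟩
  have hu' : (H884.OmegaGL.bundle (⇑(tq Q φ)) hQ'') (φ u) = 0 := by
    change Q (φ.symm (φ u)) = 0
    rw [φ.symm_apply_apply, hu]
  have hw' : polar (H884.OmegaGL.bundle (⇑(tq Q φ)) hQ'') (φ u) (φ w) = 0 := by
    change polar (tq Q φ) (φ u) (φ w) = 0
    rw [polar_tq, φ.symm_apply_apply, φ.symm_apply_apply, hw]
  change cj φ (siegel Q u w hu hw) ∈ omegaGL (⇑(tq Q φ))
  rw [H884.OmegaGL.mem_omegaGL _ hQ'' (by rw [Fintype.card_fin]; exact hn5)]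
  have h2 : glEquiv (Fin n) F (cj φ (siegel Q u w hu hw)) = siegel _ (φ u) (φ w) hu' hw' := by
    apply LinearEquiv.ext
    intro v
    rw [glEquiv_apply, siegel_apply, cj_apply, siegel_apply, map_sub, map_sub, map_add, map_smul, map_smul, map_smul,
      φ.apply_symm_apply]
    have e1 : ∀ a b : V, polar (H884.OmegaGL.bundle (⇑(tq Q φ)) hQ'') (φ a) (φ b) = polar Q a b := by
      intro a b
      change polar (tq Q φ) (φ a) (φ b) = _
      rw [polar_tq, φ.symm_apply_apply, φ.symm_apply_apply]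
    have e2 : (H884.OmegaGL.bundle (⇑(tq Q φ)) hQ'') (φ w) = Q w := by
      change Q (φ.symm (φ w)) = _
      rw [φ.symm_apply_apply]
    have e3 : v = φ (φ.symm v) := (φ.apply_symm_apply v).symm
    rw [e2]
    conv_rhs => rw [e3, e1, e1]
    rw [φ.apply_symm_apply]
  rw [h2]
  exact siegel_mem_E hu' hw'

/-- coordinates and a maximal overgroup -/
theorem exists_max (h : Pl Q m) (hn : n = 2 * m) (hA : A ≤ E Q) (hne : ¬ E Q ≤ A) :
    ∃ (φ : V ≃ₗ[F] (Fin n → F)) (H : Subgroup (GL (Fin n) F)), IsNondegenerateQuadraticForm (⇑(tq Q φ)) ∧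
      IsPlusTypeOn (⇑(tq Q φ)) ⊤ ∧ IsMaximalIn (omegaGL (⇑(tq Q φ))) H ∧ A.map (cj φ).toMonoidHom ≤ H := by
  have h5 := h.five
  let φ : V ≃ₗ[F] (Fin n → F) := LinearEquiv.ofFinrankEq _ _ (by rw [Module.finrank_fintype_fun_eq_card, Fintype.card_fin, h.dim, hn])
  have h1 := map_E_le (n := n) (by omega) h.good.nondeg φ
  have h2 : A.map (cj φ).toMonoidHom < omegaGL (⇑(tq Q φ)) :=
    lt_of_le_of_ne ((Subgroup.map_mono hA).trans h1) fun e =>
      hne ((Subgroup.map_le_map_iff_of_injective (cj φ).injective).1 (h1.trans e.ge))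
  obtain ⟨N, hN, hm⟩ := Finite.exists_le_maximal (p := fun N : Subgroup (GL (Fin n) F) => N < omegaGL (⇑(tq Q φ))) h2
  refine ⟨φ, N, H884.OddForm.isNondegenerate_of_nondeg _ (nondeg_tq h.good.nondeg φ),
    H621.EP.plusTop_iff.2 (h.plus.of_equiv φ fun v => by rw [tq_apply, φ.symm_apply_apply]), ⟨hm.prop, fun M h3 h4 => ?_⟩, hN⟩
  rcases h4.eq_or_lt with h6 | h6
  · exact Or.inr h6
  · exact Or.inl (le_antisymm (hm.le_of_ge h6 h3) h3)

theorem rd_of (φ : V ≃ₗ[F] (Fin n → F)) {H : Subgroup (GL (Fin n) F)} (hA : A.map (cj φ).toMonoidHom ≤ H) (h : Red H) : Rd A := by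
  obtain ⟨W, hW0, hW1, hW⟩ := h
  refine ⟨W.comap (φ : V →ₗ[F] (Fin n → F)), fun h0 => hW0 ?_, fun h0 => hW1 ?_, fun a ha w hw => ?_⟩
  · rw [← Submodule.map_comap_eq_of_surjective (f := (φ : V →ₗ[F] (Fin n → F))) φ.surjective W, h0, Submodule.map_bot]
  · rw [← Submodule.map_comap_eq_of_surjective (f := (φ : V →ₗ[F] (Fin n → F))) φ.surjective W, h0, Submodule.map_top,
      LinearEquiv.range]
  · have h1 : cj φ a ∈ subspaceStabilizer W := hW (hA ⟨a, ha, rfl⟩)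
    have h2 : (cj φ a : Matrix (Fin n) (Fin n) F) *ᵥ φ w ∈ W := (h1 (φ w)).1 hw
    rw [cj_apply'] at h2
    exact h2

/-- a prime of odd order -/
theorem aext_odd (hQ : Nondeg Q) (hA : A ≤ O Q) {e r s : ℕ} (hr : PP (Nat.card F) e r) (he : Odd e) (he3 : 3 ≤ e)
    (hn : finrank F V < 4 * e) (hd : r ∣ Nat.card A) (h : AExt s A) : r = s ∨ s ∣ e := by
  obtain ⟨n, φ, K, hs, hK, hle⟩ := h
  refine H964.Rg.ext_odd (nondeg_tq hQ φ) (H := A.map (cj φ).toMonoidHom) ?_ hr he he3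
    (by rw [Fintype.card_fin, ← finrank_of_equiv φ]; exact hn) (by rw [card_map]; exact hd) hs hK hle
  rintro _ ⟨x, hx, rfl⟩
  exact cj_iso φ (hA hx)

end Cfsg.Agent.SM.Op.Lr
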