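import Cfsg.Agent.SM.Op.Defs
import Cfsg.Agent.SM.Sy.K1

/-!
# SM (S3570), socle `Ω⁺_{2m}(2)` on the non-singular vectors: `M` is not maximal (helper45)
-/

set_option autoImplicit false
set_option linter.unusedSectionVars false
set_option linter.unusedVariables false

namespace Cfsg.Agent.SM.Op

open Module QuadraticMap Cfsg Subgroup Equiv
open Cfsg.Agent.LieClassical.OrthCore Cfsg.Agent.LieClassical.OrthTrans Cfsg.Agent.ClassicalGeometry.OrthSemi
open Cfsg.Agent.LieClassical.OrthFinite (exists_sing_perp)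
open Cfsg.Agent.H449.Reg (img lg mem_img)

namespace Q2

variable {Ω : Type} [Fintype Ω] [DecidableEq Ω] {X H T M S : Subgroup (Perm Ω)}

/-- two actions with the same stabiliser -/
theorem exists_emb {G V : Type} [Group G] (φ : G →* Perm Ω) (ψ : G →* Perm V) {a : Ω} {v : V} (ht : ∀ b, ∃ g, φ g a = b)
    (h : ∀ g, φ g a = a ↔ ψ g v = v) : ∃ ι : Ω → V, Function.Injective ι ∧ ι a = v ∧ ∀ g b, ι (φ g b) = ψ g (ι b) := by
  choose w hw using ht
  have key : ∀ g g', φ g a = φ g' a ↔ ψ g v = ψ g' v := fun g g' => by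
    simpa only [map_mul, map_inv, Perm.mul_apply, Perm.inv_eq_iff_eq] using h (g'⁻¹ * g)
  refine ⟨fun b => ψ (w b) v, fun b b' e => by rw [← hw b, ← hw b']; exact (key _ _).2 e, (h _).1 (hw a), fun g b => ?_⟩
  show ψ (w (φ g b)) v = ψ g (ψ (w b) v)
  rw [← Perm.mul_apply, ← map_mul, ← key, hw, map_mul, Perm.mul_apply, hw]

variable {F V : Type} [Field F] [Fintype F] [AddCommGroup V] [Module F V] [FiniteDimensional F V] {Q : QuadraticForm F V}

/-- an affine map of order three keeps the non-singular vectors -/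
theorem exists_aff (h2 : (2 : F) = 0) (hs : ∀ c : F, c * c = c) {e f : V} (hh : Hyp Q e f) :
    ∃ L : V →ₗ[F] V, (∀ x, Q (L x + f) = Q x) ∧ ∀ x, L (L (L x + f) + f) + f = x := by
  let L : V →ₗ[F] V := LinearMap.id + (polarBilin Q f).smulRight f + (polarBilin Q e + polarBilin Q f).smulRight e
  have hL : ∀ x, L x + f = x + ((polar Q f x + 1) • f + (polar Q e x + polar Q f x) • e) := fun x => by
    show x + polar Q f x • f + (polar Q e x + polar Q f x) • e + f = _
    module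
  refine ⟨L, fun x => ?_, fun x => ?_⟩
  · simp only [hL, Q_add, polar_add_right, polar_smul_left, polar_smul_right, QuadraticMap.map_smul, hh.left, hh.right, hh.pair',
      polar_comm Q x e, polar_comm Q x f, smul_eq_mul]
    linear_combination (polar Q f x * polar Q f x + polar Q e x * polar Q f x + polar Q e x + polar Q f x) * h2 + hs (polar Q e x)
  · simp only [hL, polar_add_right, polar_smul_right, hh.polar_left, hh.polar_right, hh.pair, hh.pair', smul_eq_mul]
    linear_combination (norm := module) ((2 * polar Q e x + 4 * polar Q f x + 2) * h2) • f +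
      ((4 * polar Q e x + 6 * polar Q f x + 2) * h2) • e

theorem kill (u : Up X H T M S) (hG : Good Q) (hd : 7 ≤ finrank F V) (h01 : ∀ c : F, c = 0 ∨ c = 1) (ι : Ω → V)
    (hi : Function.Injective ι) (hN : ∀ x, Q x = 1 ↔ ∃ b, ι b = x) (hM : ∀ g ∈ M, ∃ γ : V →+ V, ∀ b, ι (g b) = γ (ι b)) : False := by
  have h2 : (2 : F) = 0 := (h01 2).resolve_right fun h => one_ne_zero (α := F) (by linear_combination h)
  have hv : ∀ x : V, x + x = 0 := fun x => by rw [← two_smul F, h2, zero_smul]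
  obtain ⟨e, f, hh⟩ := hG.exists_hyp
  obtain ⟨a, b, hh', h1, h3, h4, h5⟩ := hG.exists_hyp2 hh
  obtain ⟨c, hc0, hc, h6⟩ := exists_sing_perp (Q := Q) ![e, f, a, b] hd
  have h7 : polar Q e c = 0 := h6 0
  have h8 : polar Q f c = 0 := h6 1
  have h9 : polar Q a c = 0 := h6 2
  have h10 : polar Q b c = 0 := h6 3
  obtain ⟨L, hL, hL3⟩ := exists_aff h2 (fun c => by rcases h01 c with rfl | rfl <;> simp) hh
  have h11 : ∀ p, ∃ p', ι p' = L (ι p) + f := fun p => (hN _).1 ((hL _).trans ((hN _).2 ⟨p, rfl⟩))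
  choose k hk using h11
  have h12 : ∀ y, Q y = 0 → polar Q e y = 0 → polar Q f y = 0 → ∃ p, ι p = e + f + y := fun y k1 k2 k3 => (hN _).1 (by
    simp [Q_add, polar_add_left, k1, k2, k3, hh.left, hh.right, hh.pair])
  obtain ⟨p, hp⟩ := h12 0 (by simp) (by simp) (by simp)
  obtain ⟨q, hq⟩ := h12 a hh'.left h1 h4
  obtain ⟨s, hs⟩ := h12 c hc h7 h8
  obtain ⟨t, ht⟩ := h12 (a + c) (by simp [Q_add, hh'.left, hc, h9]) (by simp [polar_add_right, h1, h7]) (by simp [polar_add_right, h4, h8])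
  obtain ⟨z, hz⟩ := h12 b hh'.right h3 h5
  have h13 : ∀ {p q y y'}, ι p = e + f + y → ι q = e + f + y' → ∀ d, polar Q d y ≠ polar Q d y' → p ≠ q := fun k1 k2 d k3 k4 =>
    k3 (congrArg _ (add_left_cancel (k1.symm.trans (k4 ▸ k2))))
  obtain ⟨d, hd'⟩ := hG.nondeg.exists_polar_ne hc0
  have h14 : t ≠ z := h13 ht hz a (by simp [polar_add_right, h9, hh'.polar_left, hh'.pair])
  obtain ⟨g, hg, hgk⟩ := Sy.Ko.odd_mem u (r := fun x : Fin 4 → Ω => ι (x 0) + ι (x 1) + ι (x 2) + ι (x 3) = 0)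
    (fun g hg x hx => by
      obtain ⟨γ, hγ⟩ := hM g hg
      simp only [Function.comp, hγ, ← map_add, hx, map_zero])
    (Sy.Ko.not_alt4 (p := p) (q := q) (s := s) (t := t) (z := z)
      (h13 hp hq b (by simp [hh'.pair'])) (h13 hp hs d (by simpa [polar_comm Q d, eq_comm] using hd'))
      (h13 hp ht b (by simp [polar_add_right, h10, hh'.pair'])) (h13 hp hz a (by simp [hh'.pair]))
      (h13 hq hs b (by simp [h10, hh'.pair'])) (h13 hq ht d (by simpa [polar_add_right, polar_comm Q d] using hd'))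
      (h13 hq hz a (by simp [hh'.pair, hh'.polar_left])) (h13 hs ht b (by simp [polar_add_right, h10, hh'.pair']))
      (h13 hs hz a (by simp [h9, hh'.pair])) h14
      (show ι p + ι q + ι s + ι t = 0 by
        rw [hp, hq, hs, ht]
        linear_combination (norm := module) (2 * h2) • (e + f) + h2 • (a + c))
      fun (k1 : ι q + ι p + ι s + ι z = 0) => h14 (hi (by
        rw [hp, hq, hs] at k1
        rw [ht]
        linear_combination (norm := module) (2 * h2) • (e + f) + h2 • (a + c) - k1 )))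
    k (fun p => hi (by rw [hk, hk, hk, hL3])) fun x hx => by
      have h15 := congrArg L hx
      simp only [map_add, map_zero] at h15
      simp only [Function.comp, hk]
      linear_combination (norm := module) h15 + (2 * h2) • f
  obtain ⟨γ, hγ⟩ := hM g hg
  obtain ⟨y, hy⟩ := (hN (a + b)).1 (by simp [Q_add, hh'.left, hh'.right, hh'.pair])
  have h15 : ι y = ι q + ι z := by
    rw [hy, hq, hz]
    linear_combination (norm := module) (-h2) • (e + f)
  have h16 := hγ y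
  rw [h15, map_add, ← hγ, ← hγ, hgk, hgk, hgk, hk, hk, hk, h15, map_add] at h16
  exact hh.right_ne (by linear_combination (norm := module) -h16)

end Q2

theorem boxQ2 : BoxQ2 := by
  intro Ω _ _ X H T M S a F V _ _ _ _ _ Q m M' H' T' B' ρ v P hq hv hB
  have h01 : ∀ c : F, c = 0 ∨ c = 1 := fun c => by
    obtain ⟨y, hy, h⟩ := (Nat.card_eq_two_iff' (0 : F)).1 hq
    exact or_iff_not_imp_left.2 fun k => (h c k).trans (h 1 one_ne_zero).symm
  have hG := P.fr.good
  have h1 : ∀ g : Gam Q, ∀ x, Q x = 1 → Q (g.1 x) = 1 := fun g x hx => by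
    obtain ⟨σ, c, h⟩ := g.2
    rw [h.form, hx, map_one, mul_one, (h01 c).resolve_left h.ne]
  have hv1 := (h01 _).resolve_left hv
  have h0 : ∀ x, Q x = 1 → x ≠ 0 := fun x hx e => by simp [e] at hx
  have h2 : Function.Injective (Psi Q) := (MonoidHom.ker_eq_bot_iff _).1 (by
    rw [ker_Psi hG, eq_bot_iff]
    rintro _ ⟨c, rfl⟩
    rw [show c = 1 from Units.ext ((h01 c).resolve_left c.ne_zero), map_one]
    exact one_mem _)
  let G := M'.comap (Psi Q)
  let φ : G →* Perm Ω := ρ.comp ((Psi Q).subgroupComap M')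
  let ψ : G →* Perm V := (Gam Q).subtype.comp G.subtype
  have h3 : ∀ g ∈ M, ∃ γ, φ γ = g := fun g hg => by
    obtain ⟨g, rfl⟩ := P.range.ge hg
    obtain ⟨γ, e⟩ := P.fr.surj g.1
    exact ⟨⟨γ, show Psi Q γ ∈ M' from e ▸ g.2⟩, congrArg ρ (Subtype.ext e)⟩
  have h4 : ∀ x, Q x = 1 → ∃ γ, ψ γ v = x := fun x hx => by
    obtain ⟨g, hg, e⟩ := hG.trans_norm (h0 v hv1) (h0 x hx) (hv1.trans hx.symm)
    exact ⟨⟨lg ⟨g, hg⟩, P.fr.fac.asM.le ⟨⟨g, hg⟩, rfl⟩⟩, e⟩
  have h5 : ∀ g : Gam Q, Psi Q g ∈ B' → g.1 v = v := fun g hg => by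
    obtain ⟨c, hc⟩ := Submodule.mem_span_singleton.1 ((hB g hg).le (mem_img.2 ⟨v, Submodule.mem_span_singleton_self v, rfl⟩))
    rcases h01 c with rfl | rfl
    · exact absurd (hc.symm.trans (zero_smul F v)) (h0 _ (h1 g v hv1))
    · rw [← hc, one_smul]
  let K := M' ⊓ ((MulAction.stabilizer (Perm V) v).subgroupOf (Gam Q)).map (Psi Q)
  have h6 : K = B' := (P.fr.fac.bm.eq_or_eq (c := K) (fun b hb => ⟨P.fr.fac.bm.le hb, by
      obtain ⟨γ, rfl⟩ := P.fr.surj b
      exact ⟨γ, h5 γ hb, rfl⟩⟩) inf_le_left).resolve_right fun e => by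
    obtain ⟨x, y, hh⟩ := hG.exists_hyp
    obtain ⟨z, w, hh', k1, k2, k3, k4⟩ := hG.exists_hyp2 hh
    have h6 : ∀ x, Q x = 1 → x = v := fun x hx => by
      obtain ⟨γ, rfl⟩ := h4 x hx
      obtain ⟨δ, k5, k6⟩ := (e.ge γ.2).2
      exact (h2 k6 ▸ k5 : γ.1.1 v = v)
    exact hh'.left_ne (add_eq_left.1 ((h6 (x + y + z) (by
      simp [Q_add, polar_add_left, hh.left, hh.right, hh.pair, hh'.left, k1, k3])).trans (h6 (x + y) (by
      simp [Q_add, hh.left, hh.right, hh.pair])).symm))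
  obtain ⟨ι, hi, ha, h7⟩ := Q2.exists_emb φ ψ (a := a) (v := v)
    (fun b => by
      obtain ⟨t, ht, rfl⟩ := P.up.trans a b
      obtain ⟨γ, rfl⟩ := h3 t (P.up.socM.le (P.up.le ht))
      exact ⟨γ, rfl⟩)
    fun g => (P.mB _).trans ⟨h5 g.1, fun k => h6.le ⟨g.2, g.1, k, rfl⟩⟩
  refine Q2.kill P.up hG (by have := P.fr.dim; have := P.fr.five; omega) h01 ι hi (fun x => ⟨fun hx => ?_, ?_⟩) fun g hg => ?_
  · obtain ⟨γ, rfl⟩ := h4 x hx
    exact ⟨φ γ a, by rw [h7, ha]⟩
  · rintro ⟨b, rfl⟩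
    obtain ⟨t, ht, rfl⟩ := P.up.trans a b
    obtain ⟨γ, rfl⟩ := h3 t (P.up.socM.le (P.up.le ht))
    rw [h7, ha]
    exact h1 γ.1 v hv1
  · obtain ⟨γ, rfl⟩ := h3 g hg
    exact ⟨AddMonoidHom.mk' γ.1.1 (add_of_mem γ.1.2), h7 γ⟩

end Cfsg.Agent.SM.Op
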