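import Cfsg.Agent.SM.Op.Defs
import Cfsg.Agent.H179.XZ.Parity
import Cfsg.Agent.H410.BR.OmCard
import Cfsg.Agent.H31.BR.Arith

/-!
# SM/Op, row e: maximal totally singular subspaces (helper35)

* `two` : the stabiliser of `W` in `Sg Q v` fixes only `W` and `r_v W`;
* `cover`, `card_orb` : the two families, the size of a family.
-/

set_option autoImplicit false
set_option linter.unusedSectionVars false

namespace Cfsg.Agent.SM.Op.RE

open Module QuadraticMap Cfsg Subgroup
open Cfsg.Agent.LieClassical.OrthCore Cfsg.Agent.LieClassical.OrthTrans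
open Cfsg.Agent.H826.Rg (Sg siegel_mem_Sg exists_pairs)
open Cfsg.Agent.H955 (perp finrank_perp)
open Cfsg.Agent.H556.FD (polar_eq_zero_of_ts map_mul' ts_map)
open Cfsg.Agent.H410.BR (Typ quadPol)

variable {F V : Type} [Field F] [Fintype F] [AddCommGroup V] [Module F V] [FiniteDimensional F V] {Q : QuadraticForm F V}
  {m : ℕ} {v : V} {W W₁ W₂ : Submodule F V}

theorem mem_of_perp (p : Pl Q m) (hW : Ts Q W) (hd : finrank F W = m) {z : V} (hz : ∀ w ∈ W, polar Q w z = 0) : z ∈ W := by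
  have h1 : W = perp Q W := Submodule.eq_of_le_of_finrank_le (fun x hx w hw => polar_eq_zero_of_ts hW hw hx) (by
    rw [finrank_perp p.good.nondeg, p.dim, hd]
    omega)
  rw [h1]
  exact hz

theorem exists_np (p : Pl Q m) (hW : Ts Q W) (hd : finrank F W = m) {z : V} (hz : z ∉ W) : ∃ w ∈ W, polar Q w z ≠ 0 := by
  by_contra h
  push Not at h
  exact hz (mem_of_perp p hW hd h)

theorem map_eq_of_le {g : V ≃ₗ[F] V} (h : ∀ w ∈ W, g w ∈ W) : W.map (g : V →ₗ[F] V) = W :=
  Submodule.eq_of_le_of_finrank_eq (by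
    rintro _ ⟨w, hw, rfl⟩
    exact h w hw) (LinearEquiv.finrank_map_eq g W)

theorem le_or_le {A B : Submodule F V} (h : ∀ z ∈ W, z ∈ A ∨ z ∈ B) : W ≤ A ∨ W ≤ B := by
  by_contra k
  rw [not_or, SetLike.not_le_iff_exists, SetLike.not_le_iff_exists] at k
  obtain ⟨⟨x, hx, h1⟩, y, hy, h2⟩ := k
  rcases h _ (W.add_mem hx hy) with k | k
  · exact h1 ((A.add_mem_iff_left ((h y hy).resolve_right h2)).1 k)
  · exact h2 ((B.add_mem_iff_right ((h x hx).resolve_left h1)).1 k)

/-- **the fixed points of the stabiliser** -/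
theorem two (p : Pl Q m) (hv : Q v ≠ 0) (h1 : Ts Q W₁) (d1 : finrank F W₁ = m) (h2 : Ts Q W₂) (d2 : finrank F W₂ = m)
    (h : ∀ g ∈ Sg Q v, W₁.map (g : V →ₗ[F] V) = W₁ → W₂.map (g : V →ₗ[F] V) = W₂) :
    W₂ = W₁ ∨ W₂ = W₁.map (refl Q v hv : V →ₗ[F] V) := by
  have ha : ∀ u ∈ W₁, polar Q u v = 0 → ∀ z ∈ W₂, polar Q u z = 0 := by
    intro u hu huv z hz
    by_contra h0
    have hu0 : u ≠ 0 := fun k => h0 (by rw [k, polar_zero_left])
    have := p.five
    obtain ⟨-, x, y, -, -, hxy, hxv, hyv, hxu, hyu, -, -⟩ := exists_pairs p.good.nondeg (by rw [p.dim]; omega) hv (h1 u hu) hu0 huv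
    have hw : polar Q (x + y) u = 0 := by rw [polar_add_left, hxu, hyu, add_zero]
    have hw' : polar Q u (x + y) = 0 := polar_zero_of_comm hw
    have hq : Q (x + y) = 1 := by rw [Q_add, hxy.left, hxy.right, hxy.pair, zero_add, zero_add]
    have h3 := h _ (siegel_mem_Sg (h1 u hu) hw' huv (by rw [polar_add_left, hxv, hyv, add_zero])) (map_eq_of_le fun w hw => by
      rw [siegel_apply, polar_eq_zero_of_ts h1 hu hw, zero_smul, add_zero]
      exact W₁.sub_mem (W₁.sub_mem hw (W₁.smul_mem _ hu)) (W₁.smul_mem _ hu))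
    have h4 : siegel Q u (x + y) (h1 u hu) hw' z ∈ W₂ := h3 ▸ ⟨z, hz, rfl⟩
    have h5 := h2 _ (W₂.sub_mem h4 hz)
    rw [show siegel Q u (x + y) (h1 u hu) hw' z - z =
        polar Q u z • (x + y) + (-(polar Q (x + y) z + Q (x + y) * polar Q u z)) • u by
      rw [siegel_apply]
      module, Q_add, QuadraticMap.map_smul, QuadraticMap.map_smul, polar_smul_left, polar_smul_right, hw, h1 u hu, hq] at h5
    simp only [smul_eq_mul, mul_zero, mul_one, add_zero, mul_self_eq_zero] at h5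
    exact h0 h5
  obtain ⟨x, hx, hxv⟩ := exists_np p h1 d1 fun k => hv (h1 v k)
  have hb : ∀ z ∈ W₂, z ∈ W₁ ∨ z ∈ W₁.map (refl Q v hv : V →ₗ[F] V) := by
    intro z hz
    obtain ⟨b, hb⟩ : ∃ b : F, b * polar Q x v = polar Q x z := ⟨polar Q x z / polar Q x v, div_mul_cancel₀ _ hxv⟩
    have h3 : z - b • v ∈ W₁ := mem_of_perp p h1 d1 fun w hw => by
      have h4 := ha (polar Q x v • w - polar Q w v • x) (W₁.sub_mem (W₁.smul_mem _ hw) (W₁.smul_mem _ hx)) (by
        rw [polar_sub_left, polar_smul_left, polar_smul_left, smul_eq_mul, smul_eq_mul, mul_comm, sub_self]) z hz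
      rw [polar_sub_left, polar_smul_left, polar_smul_left, smul_eq_mul, smul_eq_mul, ← hb] at h4
      rw [polar_sub_right, polar_smul_right, smul_eq_mul]
      refine mul_left_cancel₀ hxv ?_
      linear_combination h4
    obtain ⟨y, rfl⟩ : ∃ y, z = y + b • v := ⟨z - b • v, (sub_add_cancel _ _).symm⟩
    rw [add_sub_cancel_right] at h3
    have h4 := h2 _ hz
    rw [Q_add, h1 y h3, QuadraticMap.map_smul, polar_smul_right, smul_eq_mul, smul_eq_mul] at h4
    by_cases h0 : b = 0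
    · left
      rwa [h0, zero_smul, add_zero]
    · refine Or.inr ⟨y, h3, ?_⟩
      have h5 : polar Q v y = -(b * Q v) := by
        rw [polar_comm]
        refine mul_left_cancel₀ h0 ?_
        linear_combination h4
      show refl Q v hv y = _
      rw [refl_apply, h5, mul_neg, mul_comm b, inv_mul_cancel_left₀ hv, neg_smul, sub_neg_eq_add]
  rcases le_or_le hb with k | k
  · exact Or.inl (Submodule.eq_of_le_of_finrank_eq k (d2.trans d1.symm))
  · exact Or.inr (Submodule.eq_of_le_of_finrank_eq k (by rw [LinearEquiv.finrank_map_eq, d1, d2]))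

theorem map_refl_refl (hv : Q v ≠ 0) (W : Submodule F V) :
    (W.map (refl Q v hv : V →ₗ[F] V)).map (refl Q v hv : V →ₗ[F] V) = W := by
  rw [← map_mul', refl_mul_self]
  exact Submodule.map_id W

/-- **two families cover everything** -/
theorem cover (p : Pl Q m) (hv : Q v ≠ 0) (hW : Ts Q W) (hd : finrank F W = m) (k : ℕ) :
    ∀ U : Submodule F V, Ts Q U → finrank F U = m → m ≤ finrank F ↥(W ⊓ U) + k →
      ∃ g ∈ E Q, U = W.map (g : V →ₗ[F] V) ∨ U = (W.map (g : V →ₗ[F] V)).map (refl Q v hv : V →ₗ[F] V) := by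
  have base : ∀ U : Submodule F V, finrank F U = m → W ≤ U → ∃ g ∈ E Q, U = W.map (g : V →ₗ[F] V) ∨
      U = (W.map (g : V →ₗ[F] V)).map (refl Q v hv : V →ₗ[F] V) := fun U hU h =>
    ⟨1, (E Q).one_mem, Or.inl ((Submodule.eq_of_le_of_finrank_eq h (hd.trans hU.symm)).symm.trans (Submodule.map_id W).symm)⟩
  induction k with
  | zero =>
    intro U _ hU h
    exact base U hU (inf_eq_left.1 (Submodule.eq_of_le_of_finrank_le inf_le_left (by omega)))
  | succ k ih =>
    intro U h1 hU h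
    by_cases h0 : W ≤ U
    · exact base U hU h0
    obtain ⟨x, hx, hxU⟩ := SetLike.not_le_iff_exists.1 h0
    obtain ⟨y, hy, hyx⟩ := exists_np p h1 hU hxU
    obtain ⟨z, hz, hq⟩ : ∃ z ∈ U, Q (z - x) = Q v := ⟨(-(Q v) / polar Q y x) • y, U.smul_mem _ hy, by
      rw [sub_eq_add_neg, Q_add, QuadraticMap.map_neg, hW x hx, h1 _ (U.smul_mem _ hy), polar_neg_right, polar_smul_left,
        smul_eq_mul, div_mul_cancel₀ _ hyx, neg_neg, zero_add, zero_add]⟩
    have hr : Q (z - x) ≠ 0 := hq ▸ hv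
    have h2 : W ⊓ U < W ⊓ U.map (refl Q (z - x) hr : V →ₗ[F] V) := by
      refine lt_of_le_of_ne (fun w hw => ⟨hw.1, w, hw.2, ?_⟩) fun e => hxU ?_
      · show refl Q (z - x) hr w = w
        rw [refl_apply, polar_sub_left, polar_eq_zero_of_ts h1 hz hw.2, polar_eq_zero_of_ts hW hx hw.1, sub_self, mul_zero,
          zero_smul, sub_zero]
      · exact (e.ge ⟨hx, z, hz, refl_sub_apply ((hW x hx).trans (h1 z hz).symm) hr⟩).2
    have h3 := Submodule.finrank_lt_finrank_of_lt h2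
    obtain ⟨g, hg, e⟩ := ih _ (ts_map (refl_mem_O hr) h1) (by rw [LinearEquiv.finrank_map_eq, hU]) (by omega)
    rw [← map_refl_refl hr U]
    rcases e with e | e
    · refine ⟨refl Q v hv * refl Q (z - x) hr * g, (E Q).mul_mem (p.good.refl_mul_refl_mem hr hv hq) hg, Or.inr ?_⟩
      rw [e, map_mul', map_mul', map_refl_refl]
    · refine ⟨refl Q (z - x) hr * refl Q v hv * g, (E Q).mul_mem (p.good.refl_mul_refl_mem hv hr hq.symm) hg, Or.inl ?_⟩
      rw [e, map_mul', map_mul']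

/-- **the size of a family** -/
theorem card_orb (p : Pl Q m) (hT : Typ Q m 0) (hv : Q v ≠ 0) (hW : Ts Q W) (hd : finrank F W = m) :
    (Set.range fun g : ↥(E Q) => W.map (g.1 : V →ₗ[F] V)).ncard = ∏ i ∈ Finset.range (m - 1), (Nat.card F ^ (i + 1) + 1) := by
  have : Finite V := Module.finite_of_finite F
  have : Finite (Submodule F V) := Finite.of_injective (fun U : Submodule F V => (U : Set V)) SetLike.coe_injective
  set A := Set.range fun g : ↥(E Q) => W.map (g.1 : V →ₗ[F] V) with hA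
  have h1 : {U : Submodule F V | (quadPol Q).TI U ∧ finrank F U = m} = A ∪ Submodule.map (refl Q v hv : V →ₗ[F] V) '' A := by
    have k : ∀ U : Submodule F V, (quadPol Q).TI U ↔ Ts Q U := fun U =>
      ⟨fun h => h.1, fun h => ⟨h, fun x hx y hy => polar_eq_zero_of_ts h hx hy⟩⟩
    ext U
    rw [Set.mem_ofPred_eq, k]
    constructor
    · rintro ⟨h1, h2⟩
      obtain ⟨g, hg, e | e⟩ := cover p hv hW hd m U h1 h2 (Nat.le_add_left _ _)
      · exact Or.inl ⟨⟨g, hg⟩, e.symm⟩
      · exact Or.inr ⟨_, ⟨⟨g, hg⟩, rfl⟩, e.symm⟩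
    · rintro (⟨g, rfl⟩ | ⟨_, ⟨g, rfl⟩, rfl⟩)
      · exact ⟨ts_map (E_le_O g.2) hW, by rw [LinearEquiv.finrank_map_eq, hd]⟩
      · exact ⟨ts_map (refl_mem_O hv) (ts_map (E_le_O g.2) hW), by rw [LinearEquiv.finrank_map_eq, LinearEquiv.finrank_map_eq, hd]⟩
  have h2 : Disjoint A (Submodule.map (refl Q v hv : V →ₗ[F] V) '' A) := by
    rw [Set.disjoint_left]
    rintro _ ⟨g, rfl⟩ ⟨_, ⟨k, rfl⟩, e⟩
    refine H179.XZ.refl_ne_of_mem_E p.good.nondeg p.dim hv (U := W.map (k.1 : V →ₗ[F] V))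
      (by rw [LinearEquiv.finrank_map_eq, hd]) (ts_map (E_le_O k.2) hW) (g * k⁻¹).2 (Eq.trans ?_ e.symm)
    rw [← map_mul', ← Subgroup.coe_mul, inv_mul_cancel_right]
  have h3 := congrArg Set.ncard h1
  rw [Set.ncard_union_eq h2, Set.ncard_image_of_injective _ (Submodule.map_injective_of_injective (refl Q v hv).injective),
    ← Nat.card_coe_set_eq] at h3
  have h4 : Nat.card ((quadPol Q).X m) = _ :=
    H31.BR.Arith.card_max (c := fun k => Nat.card ((quadPol Q).X k)) Finite.one_lt_card fun _ hk => hT.card_X hk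
  obtain ⟨n, rfl⟩ : ∃ n, m = n + 1 := ⟨m - 1, by have := p.five; omega⟩
  rw [Finset.prod_range_succ'] at h4
  have h5 : A.ncard + A.ncard = _ := h3.symm.trans h4
  simp only [add_zero, pow_zero] at h5
  rw [Nat.add_sub_cancel]
  omega

end Cfsg.Agent.SM.Op.RE
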