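import Cfsg.Agent.SM.Op.RETr
import Cfsg.Agent.SM.Op.REGeo

/-!
# SM/Op: rigidity of row e, `Ω_{2m-1}(q) < PΩ⁺_{2m}(q)` on a family of maximal totally singular subspaces (helper35)

`Md` : the model `φ : Ω(Q) → Sym Ω` of a frame; `Md.of_pf`, `Md.tr` (transport), `uniq`, `boxRE_of`.
-/

set_option autoImplicit false
set_option linter.unusedSectionVars false

namespace Cfsg.Agent.SM.Op

namespace RE

open Module QuadraticMap Cfsg Subgroup Equiv Tr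
open Cfsg.Agent.LieClassical.OrthCore Cfsg.Agent.LieClassical.OrthTrans Cfsg.Agent.ClassicalGeometry.OrthSemi
open Cfsg.Agent.LieClassical.OrthFinite (exists_sing_perp)
open Cfsg.Agent.H449.Reg (lg img_lg)
open Cfsg.Agent.H826.Rg (Sg siegel_mem_Sg Sg_le Sg_le_E Sg_le_St eq_one_of_central)
open Cfsg.Agent.H556.FD (polar_eq_zero_of_ts map_mul')
open Cfsg.Agent.H902

variable {F V : Type} [Field F] [Fintype F] [AddCommGroup V] [Module F V] [FiniteDimensional F V] {Q : QuadraticForm F V}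
  {m : ℕ} {v v' : V} {W W₁ W₂ : Submodule F V}
variable {Ω : Type} [Fintype Ω] [DecidableEq Ω] {X H T M S M₁ S₁ M₂ S₂ : Subgroup (Perm Ω)} {a b : Ω}

theorem Sg_le_smul (v : V) (c : F) : Sg Q v ≤ Sg Q (c • v) := Sg_le fun _ _ hu hw h1 h2 =>
  siegel_mem_Sg hu hw (by rw [polar_smul_right, h1, smul_zero]) (by rw [polar_smul_right, h2, smul_zero])

theorem Sg_eq (h : v' ∈ F ∙ v) (h0 : Q v' ≠ 0) : Sg Q v' = Sg Q v := by
  obtain ⟨c, rfl⟩ := Submodule.mem_span_singleton.1 h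
  have hc : c ≠ 0 := fun k => h0 (by rw [k, zero_smul, QuadraticMap.map_zero])
  refine le_antisymm ?_ (Sg_le_smul v c)
  conv_rhs => rw [← inv_smul_smul₀ hc v]
  exact Sg_le_smul _ _

theorem conj_Sg (hv : Q v ≠ 0) {γ : Gam Q} (h : H449.Reg.img γ (F ∙ v) = F ∙ v) {g : V ≃ₗ[F] V} (hg : g ∈ Sg Q v) :
    conjLin γ g ∈ Sg Q v := by
  obtain ⟨σ, c, hγ⟩ := γ.2
  have s := SS.ofGam hγ
  rw [← Sg_eq (v' := γ.1 v) (h ▸ ⟨v, Submodule.mem_span_singleton_self v, rfl⟩) (s.form_ne hv)]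
  exact s.cj_Sg hg

theorem move_vec (p : Pl Q m) (hv : Q v ≠ 0) : ∃ g ∈ E Q, (F ∙ v).map (g : V →ₗ[F] V) ≠ F ∙ v := by
  have := p.five
  obtain ⟨u, h0, hu, h1⟩ := exists_sing_perp (Q := Q) ![v] (by rw [p.dim]; omega)
  have h2 : Q (v + u) = Q v := by rw [Q_add, hu, show polar Q v u = 0 from h1 0, add_zero, add_zero]
  have h3 : ∀ x, Q x ≠ 0 → x ≠ 0 := fun x hx k => hx (by rw [k, QuadraticMap.map_zero])
  obtain ⟨g, hg, e⟩ := p.good.trans_norm (h3 _ hv) (h3 _ (h2 ▸ hv)) h2.symm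
  refine ⟨g, hg, fun k => ?_⟩
  have h4 : v + u ∈ F ∙ v := k ▸ ⟨v, Submodule.mem_span_singleton_self v, e⟩
  obtain ⟨c, rfl⟩ := Submodule.mem_span_singleton.1 (((F ∙ v).add_mem_iff_right (Submodule.mem_span_singleton_self v)).1 h4)
  rw [QuadraticMap.map_smul, smul_eq_mul, mul_eq_zero, or_iff_left hv, mul_self_eq_zero] at hu
  exact h0 (by rw [hu, zero_smul])

theorem move_ts (p : Pl Q m) (hW : Ts Q W) (hd : finrank F W = m) : ∃ g ∈ E Q, W.map (g : V →ₗ[F] V) ≠ W := by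
  have := p.five
  obtain ⟨w, hw, h0⟩ := Submodule.exists_mem_ne_zero_of_ne_bot (p := W) fun k => by
    rw [k, finrank_bot] at hd
    omega
  obtain ⟨y, hy⟩ := exists_hyp p.good.nondeg (hW w hw) h0
  obtain ⟨g, hg, e⟩ := p.good.trans_sing hy.left hy.right h0 hy.right_ne
  refine ⟨g, hg, fun k => one_ne_zero (hy.pair.symm.trans (polar_eq_zero_of_ts hW hw ?_))⟩
  exact k ▸ ⟨w, hw, e⟩

/-- the model of row e -/
structure Md (T S : Subgroup (Perm Ω)) (a : Ω) (Q : QuadraticForm F V) (m : ℕ) (v : V) (W : Submodule F V)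
    (φ : ↥(E Q) →* Perm Ω) : Prop where
  pl : Pl Q m
  ne : Q v ≠ 0
  ts : Ts Q W
  dim : finrank F W = m
  range : φ.range = S
  inj : ∀ g : ↥(E Q), g.1 ∈ Sg Q v → φ g = 1 → g = 1
  mT : ∀ t, t ∈ T ↔ ∃ g : ↥(E Q), g.1 ∈ Sg Q v ∧ φ g = t
  mB : ∀ g : ↥(E Q), φ g a = a ↔ W.map (g.1 : V →ₗ[F] V) = W

theorem Md.of_pf {M' H' T' B' : Subgroup (Au Q)} {ρ : M' →* Perm Ω} (h : Pf X H T M S a Q m M' H' T' B' ρ)
    (r : RE Q m H' B' v W) (hs : IsSimpleGroup (Sg Q v)) : Md T S a Q m v W (phi h) := by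
  have p := h.fr.toPl
  have f := h.fr.fac
  have hv0 : v ≠ 0 := fun k => r.ne (by rw [k, QuadraticMap.map_zero])
  have inj : ∀ g : ↥(E Q), g.1 ∈ Sg Q v → ps Q g = 1 → g = 1 := fun g hg e =>
    Subtype.ext (eq_one_of_central p.good g.2 (ps_eq_one p.good e) hv0 (Sg_le_St v hg).2)
  have h1 : i0 Q (Sg Q v) ≤ H' := by
    rintro _ ⟨g, hg, rfl⟩
    refine mem_of_fix p.good h.fr.surj f.hm f.asM.le r.fH (move_vec p r.ne) (γ := lg g) (f.asM.le ⟨g, rfl⟩) ?_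
    rw [img_lg, Submodule.map_span, Set.image_singleton]
    exact congrArg (fun x => F ∙ x) (Sg_le_St v hg).2
  have h2 : T' ≤ i0 Q (Sg Q v) := by
    refine f.asH.le_of_conj h1 ?_ fun k => ?_
    · rintro x hx _ ⟨g, hg, rfl⟩
      obtain ⟨γ, rfl⟩ := h.fr.surj x
      exact ⟨conjE Q γ g, conj_Sg r.ne (r.fH γ (f.asH.le hx)) hg, ps_conj γ g⟩
    · obtain ⟨g, hg⟩ := exists_ne (1 : Sg Q v)
      have h3 : ps Q ⟨g.1, Sg_le_E v g.2⟩ ∈ i0 Q (Sg Q v) := ⟨_, g.2, rfl⟩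
      rw [k, mem_bot] at h3
      exact hg (Subtype.ext (congrArg Subtype.val (inj _ g.2 h3) :))
  have h3 : ∀ g : ↥(E Q), g.1 ∈ Sg Q v → ps Q g ∈ T' := by
    let ψ : Sg Q v →* Au Q := (ps Q).comp (inclusion (Sg_le_E v))
    have hn : (T'.comap ψ).Normal := ⟨fun x hx g => by
      rw [mem_comap, map_mul, map_mul, map_inv]
      exact f.asH.conj _ (h1 ⟨_, g.2, rfl⟩) _ hx⟩
    rcases hn.eq_bot_or_eq_top with k | k
    · refine absurd (eq_bot_iff.2 fun t ht => ?_) f.asH.ne_bot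
      obtain ⟨g, hg, rfl⟩ := h2 ht
      have h4 : (⟨g.1, hg⟩ : Sg Q v) ∈ T'.comap ψ := ht
      rw [k, mem_bot] at h4
      rw [show g = 1 from Subtype.ext (congrArg Subtype.val h4 :), map_one]
      exact one_mem _
    · exact fun g hg => (k.ge (mem_top (⟨g.1, hg⟩ : Sg Q v)) :)
  refine ⟨p, r.ne, r.ts, r.dim, phi_range h, fun g hg e => inj g hg ?_, fun t => ⟨fun ht => ?_, ?_⟩, fun g => ?_⟩
  · rw [← map_one (phi h), phi_eq] at e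
    rw [e, map_one]
  · obtain ⟨g, rfl⟩ : t ∈ (phi h).range := (phi_range h).symm ▸ h.up.le ht
    obtain ⟨k, hk, e⟩ := h2 ((phi_T h g).1 ht)
    exact ⟨k, hk, (phi_eq h).2 e⟩
  · rintro ⟨g, hg, rfl⟩
    exact (phi_T h g).2 (h3 g hg)
  · rw [phi_B, ← img_lg]
    exact ⟨r.fB (lg g), mem_of_fix p.good h.fr.surj f.bm f.asM.le r.fB (move_ts p r.ts r.dim) (f.asM.le ⟨g, rfl⟩)⟩

variable {φ φ₁ φ₂ : ↥(E Q) →* Perm Ω}

/-- transport along a semisimilarity -/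
theorem Md.tr {K U : Type} [Field K] [Fintype K] [AddCommGroup U] [Module K U] [FiniteDimensional K U]
    {Q' : QuadraticForm K U} {σ : F ≃+* K} {c : K} {e : V ≃ U} (h : Md T S a Q m v W φ) (s : SS Q Q' σ c e) (p : Pl Q' m) :
    Md T S a Q' m (e v) (s.img W) (φ.comp s.cE.symm.toMonoidHom) := by
  have k : ∀ g, (φ.comp s.cE.symm.toMonoidHom) (s.cE g) = φ g := fun g => congrArg φ (s.cE.symm_apply_apply g)
  refine ⟨p, s.form_ne h.ne, s.ts h.ts, (s.finrank_img W).trans h.dim, ?_, fun g => ?_, fun t => ?_, fun g => ?_⟩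
  · rw [MonoidHom.range_comp, MonoidHom.range_eq_top.2 s.cE.symm.surjective, ← MonoidHom.range_eq_map, h.range]
  · obtain ⟨g, rfl⟩ := s.cE.surjective g
    rw [k, s.coe_cE, s.cj_Sg_iff]
    intro h1 h2
    rw [h.inj g h1 h2, map_one]
  · rw [h.mT, s.cE.surjective.exists]
    exact exists_congr fun g => by rw [k, s.coe_cE, s.cj_Sg_iff]
  · obtain ⟨g, rfl⟩ := s.cE.surjective g
    rw [k, s.coe_cE, s.map_img, s.img_inj, h.mB]

theorem Md.vec (h : Md T S a Q m v W φ) (hv : v ∈ F ∙ v') (h0 : Q v' ≠ 0) : Md T S a Q m v' W φ :=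
  ⟨h.pl, h0, h.ts, h.dim, h.range, Sg_eq hv h.ne ▸ h.inj, Sg_eq hv h.ne ▸ h.mT, h.mB⟩

theorem Md.eq_iff (h : Md T S a Q m v W φ) (g k : ↥(E Q)) :
    φ g a = φ k a ↔ W.map (g.1 : V →ₗ[F] V) = W.map (k.1 : V →ₗ[F] V) := by
  rw [← Perm.inv_eq_iff_eq, ← Perm.mul_apply, ← map_inv, ← map_mul, h.mB]
  refine ⟨fun e => ?_, fun e => ?_⟩
  · conv_rhs => rw [← e]
    rw [← map_mul', ← Subgroup.coe_mul, mul_inv_cancel_left]
  · rw [Subgroup.coe_mul, map_mul', e, ← map_mul', ← Subgroup.coe_mul, inv_mul_cancel]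
    exact Submodule.map_id W

/-- another point -/
theorem Md.move (h : Md T S a Q m v W φ) (k : ↥(E Q)) : Md T S (φ k a) Q m v (W.map (k.1 : V →ₗ[F] V)) φ :=
  ⟨h.pl, h.ne, H556.FD.ts_map (E_le_O k.2) h.ts, by rw [LinearEquiv.finrank_map_eq, h.dim], h.range, h.inj, h.mT, fun g => by
    rw [← Perm.mul_apply, ← map_mul, h.eq_iff, Subgroup.coe_mul, map_mul']⟩

/-- `Sg Q v ≃ T` -/
theorem Md.iso (h : Md T S a Q m v W φ) : ∃ ψ : Sg Q v ≃* T, ∀ g : Sg Q v, (ψ g).1 = φ ⟨g.1, Sg_le_E v g.2⟩ := by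
  let ψ : Sg Q v →* T := (φ.comp (inclusion (Sg_le_E v))).codRestrict T fun g => (h.mT _).2 ⟨_, g.2, rfl⟩
  refine ⟨MulEquiv.ofBijective ψ ⟨(injective_iff_map_eq_one ψ).2 fun g e => ?_, fun t => ?_⟩, fun _ => rfl⟩
  · exact Subtype.ext (congrArg Subtype.val (h.inj ⟨g.1, Sg_le_E v g.2⟩ g.2 (congrArg Subtype.val e)) :)
  · obtain ⟨g, hg, e⟩ := (h.mT t).1 t.2
    exact ⟨⟨g.1, hg⟩, Subtype.ext e⟩

theorem uniq0 (u₁ : Up X H T M₁ S₁) (u₂ : Up X H T M₂ S₂) (h₁ : Md T S₁ a Q m v W φ₁) (h₂ : Md T S₂ a Q m v W φ₂)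
    (hφ : ∀ g : ↥(E Q), g.1 ∈ Sg Q v → φ₁ g = φ₂ g) : M₁ = M₂ :=
  rig_hom u₁ u₂ φ₁ φ₂ h₁.range h₂.range (fun t ht => by
    obtain ⟨g, hg, e⟩ := (h₁.mT t).1 ht
    exact ⟨g, e, (hφ g hg).symm.trans e⟩) (a := a) fun g e => (h₂.mB g).2 ((h₁.mB g).1 e)

theorem uniq1 (u₁ : Up X H T M₁ S₁) (u₂ : Up X H T M₂ S₂) (h₁ : Md T S₁ a Q m v W₁ φ₁) (h₂ : Md T S₂ b Q m v W₂ φ₂)
    (hφ : ∀ g : ↥(E Q), g.1 ∈ Sg Q v → φ₁ g = φ₂ g) : M₁ = M₂ := by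
  obtain ⟨t, ht, rfl⟩ := u₁.trans b a
  obtain ⟨k, -, rfl⟩ := (h₂.mT t).1 ht
  have h3 := h₂.move k
  rcases two h₁.pl h₁.ne h₁.ts h₁.dim h3.ts h3.dim (fun g hg e => (h3.mB ⟨g, Sg_le_E v hg⟩).1 (by
    rw [← hφ ⟨g, Sg_le_E v hg⟩ hg]
    exact (h₁.mB ⟨g, Sg_le_E v hg⟩).2 e)) with e | e
  · exact uniq0 u₁ u₂ h₁ (e ▸ h3) hφ
  · have s := SS.ofO (refl_mem_O h₁.ne)
    have h4 := (h₁.tr s h₁.pl).vec (v' := v) (by
      show refl Q v h₁.ne v ∈ _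
      rw [LieClassical.OrthCore.refl_apply]
      exact Submodule.sub_mem _ (Submodule.mem_span_singleton_self v)
        (Submodule.smul_mem _ _ (Submodule.mem_span_singleton_self v))) h₁.ne
    rw [s.img_lin, ← e] at h4
    refine uniq0 u₁ u₂ h4 h3 fun g hg => Eq.trans (congrArg φ₁ ?_) (hφ g hg)
    refine s.cE.symm_apply_eq.2 (Subtype.ext ?_)
    have h5 := refl_conj (E_le_O g.2) h₁.ne (by rw [(Sg_le_St v hg).2]; exact h₁.ne)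
    simp only [(Sg_le_St v hg).2] at h5
    rw [s.coe_cE, s.cj_lin, eq_mul_inv_iff_mul_eq]
    exact mul_inv_eq_iff_eq_mul.1 h5

theorem uniq (u₁ : Up X H T M₁ S₁) (u₂ : Up X H T M₂ S₂) (h₁ : Md T S₁ a Q m v W₁ φ₁) (h₂ : Md T S₂ b Q m v W₂ φ₂)
    (av : Av Q m v) : M₁ = M₂ := by
  obtain ⟨ψ₁, e₁⟩ := h₁.iso
  obtain ⟨ψ₂, e₂⟩ := h₂.iso
  obtain ⟨γ, h1, h2⟩ := av.2.2 (ψ₁.trans ψ₂.symm)
  obtain ⟨σ, c, hγ⟩ := γ.2
  have s := SS.ofGam hγ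
  have h3 : γ.1 v ∈ F ∙ v := h1 ▸ ⟨v, Submodule.mem_span_singleton_self v, rfl⟩
  refine uniq1 u₁ u₂ ((h₁.tr s h₁.pl).vec h3 h₁.ne) h₂ fun g hg => ?_
  obtain ⟨g, rfl⟩ := s.cE.surjective g
  rw [s.coe_cE, ← Sg_eq h3 (s.form_ne h₁.ne), s.cj_Sg_iff] at hg
  have h4 : φ₁ g = (ψ₂ ((ψ₁.trans ψ₂.symm) ⟨g.1, hg⟩)).1 := by
    rw [MulEquiv.trans_apply, ψ₂.apply_symm_apply, e₁]
  rw [e₂] at h4
  exact (congrArg φ₁ (s.cE.symm_apply_apply g)).trans (h4.trans (congrArg φ₂ (Subtype.ext (h2 ⟨g.1, hg⟩).symm)))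

theorem Md.real (h : Md T S a Q m v W φ) (av : Av Q m v) :
    ∃ p f, Nat.card F = p ^ f ∧ Art.Real (.C (m - 1)) p f (Nat.card T) := by
  obtain ⟨p, _, f, hp, e⟩ := FiniteField.card' F
  obtain ⟨ψ, -⟩ := h.iso
  rw [← Nat.card_eq_fintype_card] at e
  exact ⟨p, f, e, Nat.card_congr ψ.toEquiv ▸ av.2.1 p f hp e⟩

theorem Md.card (h : Md T S a Q m v W φ) (u : Up X H T M S) (hT : H410.BR.Typ Q m 0) :
    Fintype.card Ω = ∏ i ∈ Finset.range (m - 1), (Nat.card F ^ (i + 1) + 1) := by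
  rw [← card_orb h.pl hT h.ne h.ts h.dim]
  refine card_of_stab (fun g => φ g a) (fun x => ?_) _ h.eq_iff
  obtain ⟨t, ht, e⟩ := u.trans a x
  obtain ⟨g, -, rfl⟩ := (h.mT t).1 ht
  exact ⟨g, e⟩

theorem big {k p f t : ℕ} (h : Art.Real (.C k) p f t) (hk : 4 ≤ k) : 25920 < t := by
  have h1 : (p ^ f) ^ k ^ 2 ≤ Nat.gcd 2 (p ^ f - 1) * t := le_of_real h
  have h2 : 2 ^ 4 ^ 2 ≤ (p ^ f) ^ k ^ 2 :=
    (Nat.pow_le_pow_right two_pos (Nat.pow_le_pow_left hk 2)).trans (Nat.pow_le_pow_left h.q_ge _)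
  have h3 : Nat.gcd 2 (p ^ f - 1) * t ≤ 2 * t := Nat.mul_le_mul_right _ (Nat.gcd_le_left _ two_pos)
  omega

theorem av_of (ho : BoxAvO) (he : BoxAvE) (p : Pl Q m) (hv : Q v ≠ 0) : Av Q m v := by
  by_cases h : (2 : F) = 0
  · exact he F V Q m p h v hv
  · exact ho F V Q m p h v hv

end RE

open RE Tr in
/-- **[RE]** -/
theorem boxRE_of (ho : BoxAvO) (he : BoxAvE) : BoxRE := by
  intro Ω _ _ X H T
  constructor
  · rintro M₁ ⟨S₁, a, F, _, _, m, _, _, _, _, _, v, W, h₁, r₁⟩ M₂ ⟨S₂, b, K, _, _, n, _, _, _, _, _, w, U, h₂, r₂⟩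
    have a₁ := av_of ho he h₁.fr.toPl r₁.ne
    have a₂ := av_of ho he h₂.fr.toPl r₂.ne
    have d₁ := Md.of_pf h₁ r₁ a₁.1
    have d₂ := Md.of_pf h₂ r₂ a₂.1
    obtain ⟨p, f, e₁, k₁⟩ := d₁.real a₁
    obtain ⟨q, g, e₂, k₂⟩ := d₂.real a₂
    have h5 := d₁.pl.five
    have h6 := d₂.pl.five
    obtain ⟨h3, rfl, rfl⟩ := same_real k₁ k₂ (big k₁ (by omega))
    obtain rfl : m = n := by
      have := H902.Art.Sh.C.inj h3
      omega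
    have σ : F ≃+* K := FiniteField.ringEquivOfCardEq (by
      rw [← Nat.card_eq_fintype_card, ← Nat.card_eq_fintype_card, e₁, e₂])
    obtain ⟨τ, c, e, s, rfl⟩ := ss_plus_vec σ d₂.pl.good r₁.ne r₂.ne
    exact uniq h₁.up h₂.up (d₁.tr s d₂.pl) d₂ a₂
  · rintro ⟨M, S, a, F, _, _, m, _, _, _, _, _, v, W, h, r⟩
    have a₁ := av_of ho he h.fr.toPl r.ne
    have d := Md.of_pf h r a₁.1
    obtain ⟨p, f, e, k⟩ := d.real a₁
    have h5 := d.pl.five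
    exact ⟨p, f, m, h5, k, e ▸ d.card h.up (H410.BR.typ_plus F (by omega))⟩

end Cfsg.Agent.SM.Op
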