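import Cfsg.Agent.SM.Op.RJ1
import Cfsg.Agent.SM.Sy.CO1
import Cfsg.Agent.SM.CSi.Cnt
import Cfsg.Agent.SM.Rig

/-!
# SM (S3570), socle `PΩ⁺_{2m}(q)`, box RJ: rigidity of row j (helper9)

`boxRJ_of (Aw : BoxAw) : BoxRJ`.  A frame is read as a homomorphism `π : E Q →* Perm Ω` (`PF`).
-/

set_option autoImplicit false
set_option linter.unusedSectionVars false
set_option linter.unusedVariables false

namespace Cfsg.Agent.SM.Op

open Module QuadraticMap Cfsg Subgroup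
open Cfsg.Agent.LieClassical.OrthCore Cfsg.Agent.LieClassical.OrthTrans Cfsg.Agent.ClassicalGeometry.OrthSemi
open Cfsg.Agent.H449.Reg (img lg mem_img img_one img_mul img_lg img_eq_of_Psi Psi_lg)
open Cfsg.Agent.H75.OrthIdx (sg sg_eq sg_apply)
open Cfsg.Agent.SM.Sy.CO (Sl Si)
open scoped Matrix

namespace RJ

/-- two homomorphisms with the same kernel -/
theorem exists_iso {G A B : Type*} [Group G] [Group A] [Group B] (f : G →* A) (g : G →* B) (h : f.ker = g.ker) (K : Subgroup G) :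
    ∃ e : K.map f ≃* K.map g, ∀ x (hx : x ∈ K), (e ⟨f x, mem_map_of_mem f hx⟩ : B) = g x := by
  have h1 : (f.subgroupMap K).ker = (g.subgroupMap K).ker := by
    ext x
    rw [MonoidHom.mem_ker, MonoidHom.mem_ker, Subtype.ext_iff, Subtype.ext_iff]
    exact SetLike.ext_iff.1 h x.1
  let a := QuotientGroup.quotientKerEquivOfSurjective _ (f.subgroupMap_surjective K)
  let b := QuotientGroup.quotientKerEquivOfSurjective _ (g.subgroupMap_surjective K)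
  refine ⟨(a.symm.trans (QuotientGroup.quotientMulEquivOfEq h1)).trans b, fun x hx => ?_⟩
  rw [show (⟨f x, mem_map_of_mem f hx⟩ : K.map f) = a (QuotientGroup.mk ⟨x, hx⟩) from rfl, MulEquiv.trans_apply,
    MulEquiv.trans_apply, a.symm_apply_apply]
  rfl

section one

variable {F V : Type} [Field F] [Fintype F] [AddCommGroup V] [Module F V] [FiniteDimensional F V] {Q : QuadraticForm F V} {m : ℕ}
  {W W' : Submodule F V} {v : V}

theorem ker_ps (hG : Good Q) : (ps Q).ker = center (E Q) := by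
  ext x
  constructor
  · intro h
    have h1 : conjE Q (lg x) = 1 := eq_one_of_quotAut (commutator_E hG) _ h
    refine mem_center_iff.2 fun y => ?_
    have h2 : x * y * x⁻¹ = y := DFunLike.congr_fun h1 y
    exact (mul_inv_eq_iff_eq_mul.1 h2).symm
  · intro h
    change Psi Q (lg x) = 1
    rw [Psi_lg, (QuotientGroup.eq_one_iff x).2 h, map_one]

theorem Psi_conj (g : Gam Q) (x : E Q) : Psi Q g * ps Q x * (Psi Q g)⁻¹ = ps Q (conjE Q g x) := by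
  change Psi Q g * Psi Q (lg x) * (Psi Q g)⁻¹ = Psi Q (lg _)
  rw [← map_inv, ← map_mul, ← map_mul]
  rfl

theorem max {M H T B X : Subgroup (Au Q)} (fr : Fr Q m M H T B) (hX : X ⋖ M) {U U' : Submodule F V}
    (h : ∀ g, Psi Q g ∈ X → g ∈ stP Q U U') (hn : ∃ x : E Q, lg x ∉ stP Q U U') {g : Gam Q} (hg : Psi Q g ∈ M)
    (hs : g ∈ stP Q U U') : Psi Q g ∈ X := by
  rcases hX.eq_or_eq (c := M ⊓ (stP Q U U').map (Psi Q)) (fun x hx => ⟨hX.le hx, by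
    obtain ⟨g, rfl⟩ := fr.surj x
    exact ⟨g, h g hx, rfl⟩⟩) inf_le_left with k | k
  · exact k.le ⟨hg, g, hs, rfl⟩
  · obtain ⟨x, hx⟩ := hn
    obtain ⟨y, hy, e⟩ := (k.ge (fr.fac.asM.le ⟨x, rfl⟩)).2
    refine absurd ?_ hx
    change (img _ U = U ∧ img _ U' = U') ∨ (img _ U = U' ∧ img _ U' = U)
    rw [← img_eq_of_Psi fr.good (N := lg x) e, ← img_eq_of_Psi fr.good (N := lg x) e]
    exact hy

theorem lg_pt (hv : v ≠ 0) {x : E Q} : lg x ∈ stP Q (F ∙ v) (F ∙ v) ↔ x.1 v ∈ F ∙ v := by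
  change (img _ _ = _ ∧ img _ _ = _) ∨ (img _ _ = _ ∧ img _ _ = _) ↔ _
  rw [or_self, and_self, img_lg]
  refine ⟨fun h => h.le ⟨v, Submodule.mem_span_singleton_self v, rfl⟩, fun h => ?_⟩
  refine Submodule.eq_of_le_of_finrank_eq ?_ (x.1.finrank_map_eq _)
  rw [Submodule.map_span, Set.image_singleton]
  exact (Submodule.span_singleton_le_iff_mem _ _).2 h

theorem move_pair (pl : Pl Q m) (h : Hf Q m W W') : ∃ x : E Q, lg x ∉ stP Q W W' := by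
  have h5 := pl.five
  obtain ⟨z, hz, z0, -⟩ := exists_s (Q := Q) (W := W') (by rw [h.dim']; omega) 0 0
  obtain ⟨s, hs, s0, s1, -⟩ := exists_s (Q := Q) (W := W) (by rw [h.dim]; omega) z z
  have k1 : s + z ∉ W := fun k => z0 (h.inf.le ⟨(W.add_mem_iff_right hs).1 k, hz⟩)
  obtain ⟨g, hg, e⟩ := pl.good.trans_norm s0 (v' := s + z) (fun k => k1 (k ▸ W.zero_mem)) (by rw [hf_form h hs hz, s1, h.ts s hs])
  refine ⟨⟨g, hg⟩, ?_⟩
  rintro (⟨k, -⟩ | ⟨k, -⟩)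
  · exact k1 (k.le ⟨s, hs, e⟩)
  · exact s0 (h.inf.le ⟨hs, (W'.add_mem_iff_left hz).1 (k.le ⟨s, hs, e⟩)⟩)

theorem move_pt (pl : Pl Q m) (h : Hf Q m W W') (hv : Q v ≠ 0) : ∃ x : E Q, lg x ∉ stP Q (F ∙ v) (F ∙ v) := by
  have h5 := pl.five
  have v0 : v ≠ 0 := fun e => hv (by rw [e, map_zero])
  obtain ⟨s, hs, s0, s1, -⟩ := exists_s (Q := Q) (W := W) (by rw [h.dim]; omega) v v
  have k : Q v = Q (s + v) := by rw [Q_add, h.ts s hs, s1, zero_add, add_zero]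
  obtain ⟨g, hg, e⟩ := pl.good.trans_norm v0 (fun e => hv (by rw [k, e, map_zero])) k
  refine ⟨⟨g, hg⟩, fun k => ?_⟩
  have h1 : g v ∈ F ∙ v := (lg_pt v0).1 k
  rw [e, Submodule.add_mem_iff_left _ (Submodule.mem_span_singleton_self v)] at h1
  obtain ⟨c, rfl⟩ := Submodule.mem_span_singleton.1 h1
  have h2 := h.ts _ hs
  rw [QuadraticMap.map_smul, smul_eq_mul, mul_eq_zero, or_iff_left hv, mul_self_eq_zero] at h2
  exact s0 (by rw [h2, zero_smul])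

theorem eq_T (Aw : BoxAw) {M H T B : Subgroup (Au Q)} (fr : Fr Q m M H T B) (r : RJ Q m H T B v W W') :
    T = i0 Q (Sw Q W W') := by
  have h5 := fr.five
  have hs := (Aw F V Q m fr.toPl r.three W W' r.hf).1
  have h1 : i0 Q (Sw Q W W') ≤ H := by
    rintro _ ⟨x, hx, rfl⟩
    exact max fr fr.fac.hm r.fH (move_pair fr.toPl r.hf) (fr.fac.asM.le ⟨x, rfl⟩) (lg_mem r.hf hx)
  have h2 : T ≤ i0 Q (Sw Q W W') := fr.fac.asH.le_of_conj h1 (by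
    rintro g hg _ ⟨x, hx, rfl⟩
    obtain ⟨g, rfl⟩ := fr.surj g
    rw [Psi_conj]
    exact ⟨_, conj_Sw r.hf (r.fH g (fr.fac.asH.le hg)) hx, rfl⟩) ((nontrivial_iff_ne_bot _).1 inferInstance)
  have h3 : (T.subgroupOf (i0 Q (Sw Q W W'))).Normal := ⟨fun x hx g => fr.fac.asH.conj g (h1 g.2) x hx⟩
  rcases h3.eq_bot_or_eq_top with k | k
  · exact absurd ((subgroupOf_eq_bot.1 k).eq_bot_of_le h2) fr.fac.asH.ne_bot
  · exact le_antisymm h2 (subgroupOf_eq_top.1 k)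

variable {Ω : Type} [Fintype Ω] [DecidableEq Ω] {X H T M S : Subgroup (Equiv.Perm Ω)} {a : Ω}

/-- the frame as a homomorphism from `E Q` -/
structure PF (T S : Subgroup (Equiv.Perm Ω)) (a : Ω) (Q : QuadraticForm F V) (m : ℕ) (π : E Q →* Equiv.Perm Ω) (v : V)
    (W W' : Submodule F V) : Prop where
  pl : Pl Q m
  three : Nat.card F = 3
  hf : Hf Q m W W'
  ne : Q v ≠ 0
  range : π.range = S
  ker : π.ker = center (E Q)
  mT : ((Sw Q W W').subgroupOf (E Q)).map π = T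
  st : ∀ x : E Q, π x a = a ↔ x.1 v ∈ F ∙ v

theorem exists_pf (Aw : BoxAw) {M' H' T' B' : Subgroup (Au Q)} {ρ : M' →* Equiv.Perm Ω}
    (p : Pf X H T M S a Q m M' H' T' B' ρ) (r : RJ Q m H' T' B' v W W') : ∃ π, PF T S a Q m π v W W' := by
  have hm : ∀ x, ps Q x ∈ M' := fun x => p.fr.fac.asM.le ⟨x, rfl⟩
  have hT := eq_T Aw p.fr r
  have v0 : v ≠ 0 := fun e => r.ne (by rw [e, map_zero])
  refine ⟨ρ.comp ((ps Q).codRestrict M' hm), p.fr.toPl, r.three, r.hf, r.ne, le_antisymm ?_ fun s hs => ?_, ?_,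
    le_antisymm ?_ fun t ht => ?_, fun x => ?_⟩
  · rintro _ ⟨x, rfl⟩
    exact (p.mS _).2 ⟨x, rfl⟩
  · obtain ⟨g, rfl⟩ := p.range.ge (p.up.socM.le hs)
    obtain ⟨x, hx⟩ := (p.mS g).1 hs
    exact ⟨x, congrArg ρ (Subtype.ext hx)⟩
  · rw [← MonoidHom.comap_ker, (MonoidHom.ker_eq_bot_iff ρ).2 p.inj, MonoidHom.comap_bot, MonoidHom.ker_codRestrict,
      ker_ps p.fr.good]
  · rintro _ ⟨x, hx, rfl⟩
    exact (p.mT _).2 (hT.ge ⟨x, hx, rfl⟩)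
  · obtain ⟨g, rfl⟩ := p.range.ge (p.up.socM.le (p.up.le ht))
    obtain ⟨x, hx, e⟩ := hT.le ((p.mT g).1 ht)
    exact ⟨x, hx, congrArg ρ (Subtype.ext e)⟩
  · rw [← lg_pt v0]
    exact (p.mB _).trans ⟨fun h => Or.inl ⟨r.fB _ h, r.fB _ h⟩, max p.fr p.fr.fac.bm
      (fun g hg => Or.inl ⟨r.fB g hg, r.fB g hg⟩) (move_pt p.fr.toPl r.hf r.ne) (hm x)⟩

variable {π : E Q →* Equiv.Perm Ω}

theorem PF.move (h : PF T S a Q m π v W W') (x : E Q) : PF T S (π x a) Q m π (x.1 v) W W' :=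
  ⟨h.pl, h.three, h.hf, by rw [E_le_O x.2]; exact h.ne, h.range, h.ker, h.mT, fun y => by
    have h1 := h.st (x⁻¹ * y * x)
    rw [map_mul, map_mul, map_inv] at h1
    refine (Equiv.Perm.inv_eq_iff_eq.symm.trans h1).trans ?_
    change x.1.symm (y.1 (x.1 v)) ∈ F ∙ v ↔ _
    simp only [Submodule.mem_span_singleton, LinearEquiv.eq_symm_apply, map_smul]⟩

theorem PF.card (h : PF T S a Q m π v W W') (ht : ∀ b, ∃ s ∈ S, s a = b) :
    2 * Fintype.card Ω = 3 ^ (m - 1) * (3 ^ m - 1) := by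
  have v0 : v ≠ 0 := fun e => h.ne (by rw [e, map_zero])
  have h2 : (2 : F) ≠ 0 := CS.Ix.two_ne_zero_of_odd (by rw [← Nat.card_eq_fintype_card, h.three]; decide)
  let P := (MulAction.stabilizer (Equiv.Perm Ω) a).comap π
  have h1 : MulAction.stabilizer (E Q) v ≤ P := fun x hx => (h.st x).2 (by
    rw [show x.1 v = v from hx]
    exact Submodule.mem_span_singleton_self v)
  have h3 : P.index = Fintype.card Ω := by
    rw [index_comap, h.range, CS.Ix.relIndex_stabilizer, Set.eq_univ_of_forall (s := {b | ∃ g ∈ S, g • a = b}) ht,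
      Set.ncard_univ, Nat.card_eq_fintype_card]
  have h4 : (MulAction.stabilizer (E Q) v).relIndex P = 2 := by
    rw [CS.Ix.relIndex_stabilizer, ← Set.ncard_pair (a := v) (b := -v) fun e => v0 ((smul_eq_zero.1 (by
      rw [two_smul]; exact eq_neg_iff_add_eq_zero.1 e)).resolve_left h2)]
    congr 1
    ext b
    constructor
    · rintro ⟨g, hg, rfl⟩
      obtain ⟨c, hc⟩ := Submodule.mem_span_singleton.1 ((h.st g).1 hg)
      have h5 : Q (g.1 v) = Q v := E_le_O g.2 v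
      rw [← hc, QuadraticMap.map_smul, smul_eq_mul, mul_eq_right₀ h.ne, mul_self_eq_one_iff] at h5
      change g.1 v = v ∨ g.1 v = -v
      rw [← hc]
      exact h5.imp (fun e => by rw [e, one_smul]) fun e => by rw [e, neg_one_smul]
    · rintro (rfl | rfl)
      · exact ⟨1, one_mem _, rfl⟩
      · obtain ⟨g, hg, e⟩ := h.pl.good.trans_norm v0 (neg_ne_zero.2 v0) (QuadraticMap.map_neg Q v).symm
        exact ⟨⟨g, hg⟩, (h.st _).2 (by
          change g v ∈ _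
          rw [e]
          exact Submodule.neg_mem _ (Submodule.mem_span_singleton_self v)), e⟩
  have h5 := relIndex_mul_index h1
  obtain ⟨k, rfl⟩ : ∃ k, m = k + 1 := ⟨m - 1, by have := h.pl.five; omega⟩
  rw [h3, h4, MulAction.index_stabilizer] at h5
  rw [h5, Nat.add_sub_cancel, ← h.three, ← CS.Ix.card_norm_plus' h.pl.good.nondeg h.pl.dim h.pl.plus h.ne]
  refine Nat.card_congr (Equiv.subtypeEquivRight fun w => ⟨?_, fun e => ?_⟩)
  · rintro ⟨g, rfl⟩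
    exact E_le_O g.2 v
  · obtain ⟨g, hg, e'⟩ := h.pl.good.trans_norm v0 (v' := w) (fun k => h.ne (by rw [← e, k, map_zero])) e.symm
    exact ⟨⟨g, hg⟩, e'⟩

theorem PF.iso (h : PF T S a Q m π v W W') :
    ∃ e : i0 Q (Sw Q W W') ≃* T, ∀ (x : E Q) (hx : x.1 ∈ Sw Q W W'), (e ⟨ps Q x, x, hx, rfl⟩ : Equiv.Perm Ω) = π x := by
  obtain ⟨e, he⟩ := exists_iso (ps Q) π ((ker_ps h.pl.good).trans h.ker.symm) ((Sw Q W W').subgroupOf (E Q))
  exact ⟨e.trans (MulEquiv.subgroupCongr h.mT), he⟩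

end one

section two

variable {F₁ V₁ F₂ V₂ : Type} [Field F₁] [Fintype F₁] [AddCommGroup V₁] [Module F₁ V₁] [FiniteDimensional F₁ V₁]
  [Field F₂] [Fintype F₂] [AddCommGroup V₂] [Module F₂ V₂] [FiniteDimensional F₂ V₂] {Q₁ : QuadraticForm F₁ V₁}
  {Q₂ : QuadraticForm F₂ V₂} {m : ℕ} {W₁ W₁' : Submodule F₁ V₁} {W₂ W₂' : Submodule F₂ V₂} {v₁ : V₁} {v₂ : V₂}
  {Ω : Type} [Fintype Ω] [DecidableEq Ω] {X H T M₁ S₁ M₂ S₂ : Subgroup (Equiv.Perm Ω)} {a : Ω}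
  {π₁ : E Q₁ →* Equiv.Perm Ω} {π₂ : E Q₂ →* Equiv.Perm Ω}

/-- transport -/
theorem PF.tr (h₁ : PF T S₁ a Q₁ m π₁ v₁ W₁ W₁') (g : V₁ ≃ V₂) (σ : F₁ ≃+* F₂) {v : V₁} (h : PF T S₂ a Q₂ m π₂ (g v) W₂ W₂')
    (ne : Q₁ v ≠ 0) (e : E Q₁ ≃* E Q₂) (sl : ∀ c v, g (c • v) = σ c • g v) (he : ∀ (x : E Q₁) v, (e x).1 (g v) = g (x.1 v))
    (hS : ∀ x : E Q₁, (e x).1 ∈ Sw Q₂ W₂ W₂' ↔ x.1 ∈ Sw Q₁ W₁ W₁') : PF T S₂ a Q₁ m (π₂.comp e.toMonoidHom) v W₁ W₁' := by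
  refine ⟨h₁.pl, h₁.three, h₁.hf, ne, ?_, ?_, ?_, fun x => ?_⟩
  · rw [MonoidHom.range_comp, MonoidHom.range_eq_top.2 e.surjective, ← MonoidHom.range_eq_map, h.range]
  · ext x
    exact (SetLike.ext_iff.1 h.ker (e x)).trans (MulEquivClass.apply_mem_center_iff e)
  · rw [← h.mT, ← map_map]
    congr 1
    ext y
    obtain ⟨x, rfl⟩ := e.surjective y
    exact (mem_map_iff_mem e.injective).trans (hS x).symm
  · refine (h.st (e x)).trans ?_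
    rw [he]
    simp only [Submodule.mem_span_singleton, σ.surjective.exists, ← sl, g.apply_eq_iff_eq]

theorem si_Sw {g : V₁ ≃+ V₂} {σ : F₁ ≃+* F₂} (h : Si Q₁ Q₂ g σ) (ts : Ts Q₂ W₂) (w : ∀ v ∈ W₁, g v ∈ W₂)
    (w' : ∀ v ∈ W₁', g v ∈ W₂') {x : V₁ ≃ₗ[F₁] V₁} (hx : x ∈ Sw Q₁ W₁ W₁') : h.sl.cj x ∈ Sw Q₂ W₂ W₂' :=
  Sw_ind (p := fun x => h.sl.cj x ∈ Sw Q₂ W₂ W₂') (fun u hu z hz h1 h2 => by
    have h3 : polar Q₂ (g u) (g z) = 0 := by rw [h.polar, h2, map_zero]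
    rw [← h.sl.eq_cj (y := sg Q₂ (g u) (g z)) fun v => by
      rw [sg_apply (ts _ (w u hu)) h3, sg_apply h1 h2, map_sub, map_sub, map_add, h.sl, h.sl, h.sl, h.polar, h.polar, h.form,
        map_mul]]
    exact sg_mem ts (w u hu) (w' z hz) h3) (by rw [map_one]; exact one_mem _)
    (fun x y hx hy => by rw [map_mul]; exact mul_mem hx hy) hx

theorem exists_si (h₁ : PF T S₁ a Q₁ m π₁ v₁ W₁ W₁') (h₂ : PF T S₂ a Q₂ m π₂ v₂ W₂ W₂') :
    ∃ g σ, Si Q₁ Q₂ g σ ∧ (∀ v, g v ∈ W₂ ↔ v ∈ W₁) ∧ ∀ v, g v ∈ W₂' ↔ v ∈ W₁' := by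
  obtain ⟨c₁, a₁, b₁, d₁⟩ := exists_std h₁.hf h₁.pl.good.nondeg h₁.pl.dim
  obtain ⟨c₂, a₂, b₂, d₂⟩ := exists_std h₂.hf h₂.pl.good.nondeg h₂.pl.dim
  let σ : F₁ ≃+* F₂ := FiniteField.ringEquivOfCardEq (by
    rw [← Nat.card_eq_fintype_card, ← Nat.card_eq_fintype_card, h₁.three, h₂.three])
  let s : (Fin m → F₁) ≃+ (Fin m → F₂) := AddEquiv.piCongrRight fun _ => σ.toAddEquiv
  let g := (c₁.toAddEquiv.trans (s.prodCongr s)).trans c₂.symm.toAddEquiv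
  have hg : ∀ v, c₂ (g v) = (s (c₁ v).1, s (c₁ v).2) := fun v => c₂.apply_symm_apply _
  have hs : ∀ (c : F₁) x, s (c • x) = σ c • s x := fun c x => funext fun i => σ.map_mul c (x i)
  refine ⟨g, σ, ⟨fun c v => c₂.injective ?_, fun v => ?_⟩, fun v => ?_, fun v => ?_⟩
  · rw [map_smul c₂, hg, hg, map_smul c₁, Prod.smul_fst, Prod.smul_snd, hs, hs, Prod.smul_mk]
  · rw [a₁, a₂, hg]
    exact (σ.toRingHom.map_dotProduct _ _).symm
  · rw [b₁, b₂, hg, s.map_eq_zero_iff]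
  · rw [d₁, d₂, hg, s.map_eq_zero_iff]

end two

section fin

variable {F V : Type} [Field F] [Fintype F] [AddCommGroup V] [Module F V] [FiniteDimensional F V] {Q : QuadraticForm F V} {m : ℕ}
  {W W' : Submodule F V} {v₁ v₂ : V} {Ω : Type} [Fintype Ω] [DecidableEq Ω] {X H T M₁ S₁ M₂ S₂ : Subgroup (Equiv.Perm Ω)} {a : Ω}
  {π₁ π₂ : E Q →* Equiv.Perm Ω}

theorem PF.gam (h₁ : PF T S₁ a Q m π₁ v₁ W W') {g : Gam Q} (hg : g ∈ stP Q W W') {v : V} (h : PF T S₂ a Q m π₂ (g.1 v) W W') :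
    PF T S₂ a Q m (π₂.comp (conjE Q g).toMonoidHom) v W W' := by
  obtain ⟨σ, c, hM⟩ := g.2
  refine h₁.tr g.1 σ h (fun e => h.ne (by rw [hM.form, e, map_zero, mul_zero])) (conjE Q g) hM.smul
    (fun x v => conjLin_apply' g x.1 v) fun x => ⟨fun k => ?_, conj_Sw h.hf hg⟩
  have := conj_Sw h.hf (inv_mem hg) k
  rwa [coe_conjE, ← conjLin_mul_left, inv_mul_cancel, conjLin_one_left] at this

theorem rig0 (u₁ : Up X H T M₁ S₁) (u₂ : Up X H T M₂ S₂) (h₁ : PF T S₁ a Q m π₁ v₁ W W') (h₂ : PF T S₂ a Q m π₂ v₁ W W')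
    (e : ∀ x : E Q, x.1 ∈ Sw Q W W' → π₂ x = π₁ x) : M₁ = M₂ := by
  obtain ⟨θ, hθ⟩ := exists_iso π₁ π₂ (h₁.ker.trans h₂.ker.symm) ⊤
  have r₁ := (MonoidHom.range_eq_map π₁).symm.trans h₁.range
  have r₂ := (MonoidHom.range_eq_map π₂).symm.trans h₂.range
  refine u₁.rig u₂ (((MulEquiv.subgroupCongr r₁.symm).trans θ).trans (MulEquiv.subgroupCongr r₂)) (fun t ht => ?_)
    (a := a) (b := a) ?_
  · obtain ⟨x, hx, rfl⟩ := h₁.mT.ge ht
    exact (hθ x trivial).trans (e x hx)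
  · rintro ⟨s, hs⟩ k
    obtain ⟨x, rfl⟩ := h₁.range.ge hs
    exact (DFunLike.congr_fun (hθ x trivial) a).trans ((h₂.st x).2 ((h₁.st x).1 k))

theorem rig1 (u₁ : Up X H T M₁ S₁) (u₂ : Up X H T M₂ S₂) (h₁ : PF T S₁ a Q m π₁ v₁ W W') (h₂ : PF T S₂ a Q m π₂ v₂ W W')
    (e : ∀ x : E Q, x.1 ∈ Sw Q W W' → π₂ x = π₁ x) : M₁ = M₂ := by
  have hf := h₁.hf
  have h5 := h₁.pl.five
  obtain ⟨w, hw, w', hw', rfl⟩ := hf_dec hf h₁.pl.dim v₁
  obtain ⟨y, hy, y', hy', rfl⟩ := hf_dec hf h₁.pl.dim v₂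
  have hne : polar Q w w' ≠ 0 := hf_form hf hw hw' ▸ h₁.ne
  have key : ∀ x ∈ Sw Q W W', x (w + w') = w + w' → x (y + y') ∈ F ∙ (y + y') := fun x hx k =>
    (h₂.st ⟨x, Sw_le hx⟩).1 (by
      rw [e _ hx, h₁.st]
      change x _ ∈ _
      rw [k]
      exact Submodule.mem_span_singleton_self _)
  obtain ⟨α, rfl⟩ := half hf h₁.pl.good.nondeg h₁.pl.dim (by omega) hw hw' hy hy' hne key
  obtain ⟨β, rfl⟩ := half (hf_symm hf) h₁.pl.good.nondeg h₁.pl.dim (by omega) hw' hw hy' hy (by rwa [polar_comm]) fun x hx => by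
    rw [add_comm w', add_comm y']
    exact key x (Sw_comm (hf_symm hf) hx)
  have h0 := h₂.ne
  rw [hf_form hf hy hy', polar_smul_left, polar_smul_right, smul_eq_mul, smul_eq_mul] at h0
  obtain ⟨d, hd⟩ := exists_d hf h₁.pl.dim (left_ne_zero_of_mul h0) (left_ne_zero_of_mul (right_ne_zero_of_mul h0))
  have hc : ∀ x : E Q, x.1 ∈ Sw Q W W' → conjE Q d x = x := fun x hx => Subtype.ext (LinearEquiv.ext fun z => by
    obtain ⟨z, rfl⟩ := d.1.surjective z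
    obtain ⟨s, hs, s', hs', rfl⟩ := hf_dec hf h₁.pl.dim z
    rw [coe_conjE, conjLin_apply', map_add, hd _ (Sw_inv hf hx s hs) _ (Sw_inv (hf_symm hf) (Sw_comm hf hx) s' hs'), hd s hs s' hs',
      map_add, map_smul, map_smul])
  have hs : d ∈ stP Q W W' := by
    refine Or.inl ⟨?_, ?_⟩ <;> refine Submodule.eq_of_le_of_finrank_eq ?_ (H449.Reg.finrank_img d _) <;> rintro _ ⟨z, hz, rfl⟩
    · rw [← add_zero z, hd z hz 0 W'.zero_mem, smul_zero, add_zero]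
      exact W.smul_mem _ hz
    · rw [← zero_add z, hd 0 W.zero_mem z hz, smul_zero, zero_add]
      exact W'.smul_mem _ hz
  rw [← hd w hw w' hw'] at h₂
  exact rig0 u₁ u₂ h₁ (h₁.gam hs h₂) fun x hx => (congrArg π₂ (hc x hx)).trans (e x hx)

theorem rig2 (Aw : BoxAw) (u₁ : Up X H T M₁ S₁) (u₂ : Up X H T M₂ S₂) (h₁ : PF T S₁ a Q m π₁ v₁ W W')
    (h₂ : PF T S₂ a Q m π₂ v₂ W W') : M₁ = M₂ := by
  obtain ⟨e₁, k₁⟩ := h₁.iso
  obtain ⟨e₂, k₂⟩ := h₂.iso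
  obtain ⟨g, hg, k⟩ := (Aw F V Q m h₁.pl h₁.three W W' h₁.hf).2.2 (e₁.trans e₂.symm)
  obtain ⟨v, rfl⟩ := g.1.surjective v₂
  refine rig1 u₁ u₂ h₁ (h₁.gam hg h₂) fun x hx => ?_
  have h3 := k ⟨ps Q x, x, hx, rfl⟩
  rw [Psi_conj] at h3
  rw [← k₁ x hx, ← e₂.apply_symm_apply (e₁ _)]
  exact (k₂ _ (conj_Sw h₁.hf hg hx)).symm.trans (congrArg (fun t => (e₂ t : Equiv.Perm Ω)) (Subtype.ext h3))

end fin

theorem mono : StrictMono fun k : ℕ => 3 ^ k * (3 ^ (k + 1) - 1) := strictMono_nat_of_lt_succ fun k => by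
  have h1 : 0 < 3 ^ k := by positivity
  exact Nat.mul_lt_mul'' (by omega) (by omega)

end RJ

open RJ in
/-- **[RJ]** -/
theorem boxRJ_of (Aw : BoxAw) : BoxRJ := by
  intro Ω _ _ X H T
  refine ⟨?_, ?_⟩
  · rintro M₁ ⟨S₁, a₁, F₁, _, _, m₁, M₁', H₁', T₁', B₁', ρ₁, v₁, W₁, W₁', p₁, r₁⟩
      M₂ ⟨S₂, a₂, F₂, _, _, m₂, M₂', H₂', T₂', B₂', ρ₂, v₂, W₂, W₂', p₂, r₂⟩
    obtain ⟨π₁, h₁⟩ := exists_pf Aw p₁ r₁
    obtain ⟨π₂, h₂⟩ := exists_pf Aw p₂ r₂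
    obtain rfl : m₁ = m₂ := by
      have c₁ := h₁.card fun b => (p₁.up.trans a₁ b).imp fun t ht => ⟨p₁.up.le ht.1, ht.2⟩
      have c₂ := h₂.card fun b => (p₂.up.trans a₂ b).imp fun t ht => ⟨p₂.up.le ht.1, ht.2⟩
      have f₁ := h₁.pl.five
      have f₂ := h₂.pl.five
      have := mono.injective (a₁ := m₁ - 1) (a₂ := m₂ - 1) (by
        rw [Nat.sub_add_cancel (by omega), Nat.sub_add_cancel (by omega), ← c₁, ← c₂])
      omega
    obtain ⟨t, ht, rfl⟩ := p₂.up.trans a₂ a₁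
    obtain ⟨x, rfl⟩ := h₂.range.ge (p₂.up.le ht)
    have h₃ := h₂.move x
    obtain ⟨g, σ, si, w, w'⟩ := exists_si h₁ h₃
    obtain ⟨v, hv⟩ := g.surjective (x.1 v₂)
    rw [← hv] at h₃
    refine rig2 Aw p₁.up p₂.up h₁ (h₁.tr g.toEquiv σ h₃ (fun e => h₃.ne (by rw [si.form, e, map_zero])) si.eE si.sl
      (fun x v => si.sl.cj_apply x.1 v) fun x => ⟨fun k => ?_, si_Sw si h₂.hf.ts (fun v => (w v).2) fun v => (w' v).2⟩)
    have := si_Sw si.symm h₁.hf.ts (W₂' := W₁') (fun v hv => (w _).1 (by rwa [g.apply_symm_apply]))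
      (fun v hv => (w' _).1 (by rwa [g.apply_symm_apply])) k
    exact si.sl.symm_cj x.1 ▸ this
  · rintro ⟨M, S, a, F, _, _, m, M', H', T', B', ρ, v, W, W', p, r⟩
    obtain ⟨π, h⟩ := exists_pf Aw p r
    obtain ⟨e, -⟩ := h.iso
    exact ⟨m, h.pl.five, Nat.card_congr e.toEquiv ▸ (Aw F _ _ m h.pl h.three W W' h.hf).2.1,
      h.card fun b => (p.up.trans a b).imp fun t ht => ⟨p.up.le ht.1, ht.2⟩⟩

end Cfsg.Agent.SM.Op
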