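import Cfsg.Agent.SM.Op.Defs
import Mathlib.FieldTheory.Finite.Extension

/-!
# SM, `PΩ⁺`: Siegel transformations and small algebras, the subfield case on a sphere (helper90)

`boxSieg`, `boxTau`; `Sg7.le_of_sing` : the singular vectors span the large subspaces.
-/

set_option autoImplicit false
set_option linter.unusedSectionVars false

namespace Cfsg.Agent.SM.Op

open Module QuadraticMap Polynomial
open Cfsg.Agent.LieClassical.OrthCore Cfsg.Agent.LieClassical.OrthTrans Cfsg.Agent.ClassicalGeometry.OrthSemi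
open Cfsg.Agent.LieClassical.OrthFinite (exists_sing_mem)
open Cfsg.Agent.H826.Rg (siegel_mem_Sg)
open Cfsg.Agent.H955 (perp mem_perp mem_perp' finrank_perp finrank_add_perp perp_perp perp_anti)

namespace Sg7

variable {F V : Type} [Field F] [Fintype F] [AddCommGroup V] [Module F V] [FiniteDimensional F V] {Q : QuadraticForm F V}

/-- the singular vectors span the large subspaces -/
theorem le_of_sing (hQ : Nondeg Q) {U K : Submodule F V} (hU : finrank F V + 2 < 2 * finrank F U)
    (h : ∀ u ∈ U, Q u = 0 → u ∈ K) : U ≤ K := by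
  obtain ⟨C, hC⟩ := Submodule.exists_isCompl (perp Q U)
  have h1 := Submodule.finrank_add_eq_of_isCompl hC
  have h2 := finrank_add_perp hQ U
  have h3 := Submodule.finrank_sup_add_finrank_inf_eq U C
  have h4 := Submodule.finrank_le (U ⊔ C)
  obtain ⟨u, hu, h0, h5⟩ := exists_sing_mem (Q := Q) (U ⊓ C) (by omega)
  obtain ⟨z, hz, h6⟩ : ∃ z ∈ U, polar Q z u ≠ 0 := by
    by_contra! e
    exact h0 (Submodule.disjoint_def.1 hC.disjoint u e hu.2)
  have h7 : ∀ x ∈ U, polar Q x u ≠ 0 → x ∈ K := fun x hx e => by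
    have h8 := h (x + (-(Q x / polar Q x u)) • u) (U.add_mem hx (U.smul_mem _ hu.1)) (by
      rw [Q_add, Q.map_smul, h5, polar_smul_right, smul_zero, smul_eq_mul]
      field_simp
      ring)
    exact (K.add_mem_iff_left (K.smul_mem _ (h u hu.1 h5))).1 h8
  intro x hx
  by_cases e : polar Q x u = 0
  · exact (K.add_mem_iff_left (h7 z hz h6)).1 (h7 _ (U.add_mem hx hz) (by rwa [polar_add_left, e, zero_add]))
  · exact h7 x hx e

theorem mem_perp_span {v x : V} : x ∈ perp Q (F ∙ v) ↔ polar Q v x = 0 :=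
  ⟨fun h => h v (Submodule.mem_span_singleton_self v), fun h w hw => by
    obtain ⟨a, rfl⟩ := Submodule.mem_span_singleton.1 hw
    rw [polar_smul_left, h, smul_zero]⟩

theorem rank_span (v : V) : finrank F (F ∙ v) ≤ 1 := (finrank_span_le_card _).trans (by simp)

theorem rank_inf (hQ : Nondeg Q) (U : Submodule F V) (v : V) : finrank F U ≤ finrank F ↥(U ⊓ perp Q (F ∙ v)) + 1 := by
  have h1 := Submodule.finrank_sup_add_finrank_inf_eq U (perp Q (F ∙ v))
  have h2 := Submodule.finrank_le (U ⊔ perp Q (F ∙ v))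
  have h3 := finrank_add_perp hQ (F ∙ v)
  have h4 := rank_span (F := F) v
  omega

theorem rank_sup (U : Submodule F V) (v : V) : finrank F ↥(U ⊔ F ∙ v) ≤ finrank F U + 1 :=
  (Submodule.finrank_add_le_finrank_add_finrank _ _).trans (Nat.add_le_add_left (rank_span v) _)

/-- a vector which is orthogonal to the singular vectors of `v ^ ⊥` -/
theorem mem_span (hQ : Nondeg Q) (hd : 5 ≤ finrank F V) {v z : V} (h : ∀ u, Q u = 0 → polar Q v u = 0 → polar Q z u = 0) :
    z ∈ F ∙ v := by
  have h1 := finrank_add_perp hQ (F ∙ v)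
  have h2 := rank_span (F := F) v
  have h3 := perp_anti (Q := Q) (le_of_sing hQ (U := perp Q (F ∙ v)) (K := perp Q (F ∙ z)) (by omega) fun u hu h0 =>
    mem_perp_span.2 (h u h0 (mem_perp_span.1 hu)))
  rw [perp_perp hQ, perp_perp hQ] at h3
  exact h3 (Submodule.mem_span_singleton_self z)

variable {m : ℕ} {v : V} {D : Subalgebra F (Module.End F V)}

theorem mem_orb {d : Module.End F V} (hd : d ∈ D) : d v ∈ orb D v := ⟨d, hd, rfl⟩

theorem rank_orb : finrank F (orb D v) ≤ finrank F D := Submodule.finrank_map_le _ _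

theorem eigen (hQ : Nondeg Q) (hm : finrank F V = 2 * m) (hD : Small m v D)
    (hN : ∀ (u w : V) (hu : Q u = 0) (hw : polar Q u w = 0), u ∈ perp Q (orb D v) → w ∈ perp Q (orb D v) →
      Nm (siegel Q u w hu hw) D) {d : Module.End F V} (hd : d ∈ D) {u : V} (hu : Q u = 0) (h1 : u ∈ perp Q (orb D v)) :
    d u ∈ F ∙ u := by
  by_contra h2
  have h3 : perp Q (orb D v) ⊓ perp Q (F ∙ u) ≤ (F ∙ u) ⊔ F ∙ d u := fun w hw => by
    by_cases e : w ∈ F ∙ u
    · exact Submodule.mem_sup_left e
    have h4 := mem_perp_span.1 hw.2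
    have h5 : ∀ x ∈ orb D v, siegel Q u w hu h4 x = x := fun x hx => by
      rw [siegel_apply, mem_perp'.1 h1 x hx, mem_perp'.1 hw.1 x hx, mul_zero, zero_smul, zero_smul, add_zero, sub_zero, sub_zero]
    obtain ⟨d', h6, h7⟩ := hN u w hu h4 h1 hw.1 d hd
    have h8 := h7 v
    rw [h5 _ (mem_orb hd), h5 v (mem_orb (one_mem D))] at h8
    obtain rfl := sub_eq_zero.1 (hD.inj _ (sub_mem h6 hd) (sub_eq_zero.2 h8))
    obtain ⟨y, h9, h10⟩ := exists_sep hQ (x := w) (z := u) fun c h => e (Submodule.mem_span_singleton.2 ⟨c, h.symm⟩)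
    have h11 := h7 y
    rw [siegel_apply, siegel_apply, h9, h10, mul_zero, zero_smul, zero_smul, one_smul, add_zero, sub_zero, map_sub] at h11
    have h12 : polar Q u (d' y) • w = (polar Q w (d' y) + Q w * polar Q u (d' y)) • u - d' u := by
      linear_combination (norm := module) -h11
    refine (Submodule.smul_mem_iff _ fun e' : polar Q u (d' y) = 0 => h2 ?_).1 (h12 ▸ sub_mem
      (Submodule.mem_sup_left (Submodule.smul_mem _ _ (Submodule.mem_span_singleton_self u)))
      (Submodule.mem_sup_right (Submodule.mem_span_singleton_self _)))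
    rw [e', zero_smul, eq_comm, sub_eq_zero] at h12
    exact Submodule.mem_span_singleton.2 ⟨_, h12⟩
  have h4 := Submodule.finrank_mono h3
  have h5 := rank_sup (F ∙ u) (d u)
  have h6 := rank_span (F := F) u
  have h7 := rank_inf hQ (perp Q (orb D v)) u
  have h8 := finrank_add_perp hQ (orb D v)
  have h9 := rank_orb (D := D) (v := v)
  have h10 := hD.dim
  omega

theorem exists_frob (σ : F ≃+* F) (h : σ ≠ RingEquiv.refl F) :
    ∃ p k : ℕ, p.Prime ∧ CharP F p ∧ p ≤ k ∧ p * k ≤ Fintype.card F ∧ ∀ a, σ a = a ^ k := by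
  obtain ⟨p, _, f, hp, hf⟩ := FiniteField.card' F
  have := Fact.mk hp
  let _ := ZMod.algebra F p
  obtain ⟨j, hj⟩ := FiniteField.exists_forall_apply_eq_pow (ZMod p) p F (AlgEquiv.ofRingEquiv (f := σ) fun x =>
    DFunLike.congr_fun (Subsingleton.elim (σ.toRingHom.comp (algebraMap (ZMod p) F)) (algebraMap (ZMod p) F)) x)
  have h1 : ∀ a, σ a = a ^ p ^ (j % f) := fun a => by
    refine (hj a).trans ?_
    conv_lhs => rw [Nat.card_zmod, ← Nat.div_add_mod j f, pow_add, pow_mul p, pow_mul, ← hf, FiniteField.pow_card_pow]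
  refine ⟨p, _, hp, ‹_›, Nat.le_self_pow (fun e => h (RingEquiv.ext fun a => ?_)) p, ?_, h1⟩
  · rw [h1, e, pow_zero, pow_one, RingEquiv.refl_apply]
  · rw [hf, ← pow_succ']
    exact Nat.pow_le_pow_right hp.pos (Nat.mod_lt _ f.pos)

/-- a function with two values -/
theorem coeff_zero {σ : F ≃+* F} (h : σ ≠ RingEquiv.refl F) {α β γ δ : F}
    (H : ∀ t, (α + β * σ t + γ * t + δ * (t * σ t)) ^ 2 = α ^ 2) : γ = 0 := by
  obtain ⟨p, k, hp, _, h1, h2, h3⟩ := exists_frob σ h
  have h0 := hp.two_le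
  let g : F[X] := C β * X ^ k + C γ * X + C δ * X ^ (k + 1)
  have h4 : ∀ c : F, (g + C c).natDegree ≤ k + 1 := fun c => by
    unfold g
    compute_degree!
  have h5 : ∀ c : F, g + C c = 0 → γ = 0 := fun c e => by
    have h6 := congrArg (coeff · 1) e
    simpa [g, coeff_X_pow, coeff_C, show 1 ≠ k by omega, show k ≠ 0 by omega] using h6
  have h6 : ∀ t, g.eval t * (g.eval t + 2 * α) = 0 := fun t => by
    have h7 := H t
    rw [h3] at h7
    simp only [g, eval_add, eval_mul, eval_C, eval_pow, eval_X]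
    linear_combination h7
  by_cases e : p = 2
  · subst e
    refine h5 0 (eq_zero_of_natDegree_lt_card_of_eval_eq_zero _ Function.injective_id (fun t => ?_) ((h4 0).trans_lt (by omega)))
    have h7 := h6 t
    rw [CharTwo.two_eq_zero, zero_mul, add_zero, mul_self_eq_zero] at h7
    rw [C_0, add_zero, id, h7]
  · have h7 := eq_zero_of_natDegree_lt_card_of_eval_eq_zero ((g + C 0) * (g + C (2 * α))) Function.injective_id
      (fun t => by rw [C_0, add_zero, eval_mul, eval_add (p := g), eval_C, id, h6])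
      (natDegree_mul_le.trans_lt ((add_le_add (h4 _) (h4 _)).trans_lt
        (lt_of_lt_of_le (by omega) ((Nat.mul_le_mul_right k (show 3 ≤ p by omega)).trans h2))))
    exact (mul_eq_zero.1 h7).elim (h5 _) (h5 _)

end Sg7

open Sg7

/-- **Siegel transformations and small algebras** -/
theorem boxSieg : BoxSieg := by
  intro F V _ _ _ _ _ Q m P v hv
  have hQ := P.good.nondeg
  have hm := P.dim
  have h5 := P.five
  refine ⟨fun U h1 h2 h3 h4 => h2 (le_antisymm (fun z hz => mem_span hQ P.good.dim fun u hu h6 => ?_)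
    ((Submodule.span_singleton_le_iff_mem _ _).2 h1)), fun D hD hN => ?_⟩
  · by_contra h7
    rw [polar_comm] at h6 h7
    have h8 : perp Q (F ∙ v) ⊓ perp Q (F ∙ u) ≤ U ⊔ F ∙ u := fun w hw => by
      have h9 := mem_perp_span.1 hw.2
      have h10 := h4 _ (siegel_mem_Sg hu h9 h6 (polar_zero_of_comm (mem_perp_span.1 hw.1))) z hz
      have h11 : polar Q u z • w = (siegel Q u w hu h9 z - z) + (polar Q w z + Q w * polar Q u z) • u := by
        rw [siegel_apply]
        module
      exact (Submodule.smul_mem_iff _ h7).1 (h11 ▸ Submodule.add_mem_sup (U.sub_mem h10 hz)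
        (Submodule.smul_mem _ _ (Submodule.mem_span_singleton_self u)))
    have h9 := Submodule.finrank_mono h8
    have h10 := rank_sup U u
    have h11 := rank_inf hQ (perp Q (F ∙ v)) u
    have h12 := finrank_add_perp hQ (F ∙ v)
    have h13 := rank_span (F := F) v
    omega
  · have h1 := finrank_add_perp hQ (orb D v)
    have h2 := rank_orb (D := D) (v := v)
    have h3 := hD.dim
    obtain ⟨u, hu, h0, h4⟩ := exists_sing_mem (Q := Q) (perp Q (orb D v)) (by omega)
    rcases hD.typ with h | ⟨h6, h7⟩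
    · obtain ⟨d, hd, h6⟩ := h u h0
      exact h6 (eigen hQ hm hD hN hd h4 hu)
    obtain ⟨d, hd, h8⟩ := SetLike.exists_of_lt (bot_lt_iff_ne_bot.2 hD.ne)
    obtain ⟨a, ha⟩ := Submodule.mem_span_singleton.1 (eigen hQ hm hD hN hd h4 hu)
    have h9 := h7 (d - algebraMap F _ a) (sub_mem hd (D.algebraMap_mem a)) fun e =>
      h8 (sub_eq_zero.1 e ▸ Subalgebra.algebraMap_mem _ a)
    have h10 := rank_inf hQ (perp Q (orb D v)) u
    have h11 := Submodule.finrank_mono (le_of_sing hQ (U := perp Q (orb D v) ⊓ perp Q (F ∙ u))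
      (K := LinearMap.ker (d - algebraMap F _ a)) (by omega) fun x hx h12 => by
        obtain ⟨b, hb⟩ := Submodule.mem_span_singleton.1 (eigen hQ hm hD hN hd h12 hx.1)
        obtain ⟨c, hc⟩ := Submodule.mem_span_singleton.1 (eigen hQ hm hD hN hd (u := u + x)
          (by rw [Q_add, h4, h12, mem_perp_span.1 hx.2, add_zero, add_zero]) (add_mem hu hx.1))
        rw [LinearMap.mem_ker, LinearMap.sub_apply, Module.algebraMap_end_apply, sub_eq_zero]
        rw [map_add, ← ha, ← hb] at hc
        by_cases e : c = b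
        · rw [e, smul_add, add_left_inj] at hc
          rw [← hb, smul_left_injective F h0 hc]
        · have h13 : x = ((c - b)⁻¹ * (a - c)) • u := by
            rw [mul_smul, eq_inv_smul_iff₀ (sub_ne_zero.2 e)]
            linear_combination (norm := module) hc
          rw [h13, map_smul, ← ha, smul_comm])
    omega

/-- **the subfield case on a sphere** -/
theorem boxTau : BoxTau := by
  intro F V _ _ _ _ _ Q m P Y c hY hc hT ⟨τ, σ, c', hτ, hσ, H⟩
  have hQ := P.good.nondeg
  have h1 : ∀ x y, Q x = c → Q y = c → polar Q y (τ.1 y) ^ 2 = polar Q x (τ.1 x) ^ 2 := fun x y hx hy => by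
    obtain ⟨g, hg, h2⟩ := hT x y hx hy
    obtain ⟨a, ha⟩ := H g hg
    have h3 := congrArg Q (ha x)
    rw [Q.map_smul, hY hg, hτ.form, hτ.form, hY hg, hx, smul_eq_mul, eq_comm,
      mul_eq_right₀ (mul_ne_zero hτ.ne ((map_ne_zero σ).2 hc))] at h3
    have h4 : polar Q (g x) (τ.1 (g x)) ^ 2 = polar Q x (τ.1 x) ^ 2 := by
      rw [ha, polar_smul_right, polar_map (hY hg), smul_eq_mul, mul_pow, pow_two a, h3, one_mul]
    rcases h2 with e | e
    · rwa [e] at h4
    · rwa [e, ← zero_sub, hτ.sub, hτ.map_zero, zero_sub, zero_sub, polar_neg_left, polar_neg_right, neg_neg] at h4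
  have h2 : ∀ x z, Q x = c → Q z = 0 → polar Q x z = 0 → Q (x + z) = c := fun x z hx hz e => by
    rw [Q_add, hx, hz, e, add_zero, add_zero]
  have h3 : ∀ x, Q x = c → τ.1 x ∈ F ∙ x := fun x hx => mem_span hQ P.good.dim fun z hz e =>
    coeff_zero hσ (α := polar Q x (τ.1 x)) (β := polar Q x (τ.1 z)) (δ := polar Q z (τ.1 z)) fun t => by
      rw [← h1 x (x + t • z) hx (h2 _ _ hx (by rw [Q.map_smul, hz, smul_zero]) (by rw [polar_smul_right, e, smul_zero])),
        hτ.add, hτ.smul, polar_comm Q (τ.1 x)]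
      simp only [polar_add_left, polar_add_right, polar_smul_left, polar_smul_right, smul_eq_mul]
      ring
  obtain ⟨x₁, x₂, h4⟩ := P.good.exists_hyp
  obtain ⟨x, hx⟩ : ∃ x, Q x = c := ⟨x₁ + c • x₂, by
    rw [Q_add, Q.map_smul, h4.left, h4.right, polar_smul_right, h4.pair, smul_zero, smul_eq_mul, mul_one, add_zero, zero_add]⟩
  obtain ⟨a, ha⟩ := Submodule.mem_span_singleton.1 (h3 x hx)
  have h5 : ∀ z, Q z = 0 → polar Q x z = 0 → τ.1 z = a • z := fun z hz e => by
    obtain ⟨b, hb⟩ := Submodule.mem_span_singleton.1 (h3 _ (h2 x z hx hz e))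
    have h6 : τ.1 z = (b - a) • x + b • z := by
      rw [hτ.add, ← ha] at hb
      linear_combination (norm := module) -hb
    have h7 := congrArg Q h6
    rw [hτ.form, hz, map_zero, mul_zero, Q_add, Q.map_smul, Q.map_smul, polar_smul_left, polar_smul_right, e, hz, hx, smul_zero,
      smul_zero, smul_zero, add_zero, add_zero, smul_eq_mul, eq_comm, mul_eq_zero, mul_self_eq_zero, sub_eq_zero] at h7
    rw [h6, h7.resolve_right hc, sub_self, zero_smul, zero_add]
  have h6 := finrank_add_perp hQ (F ∙ x)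
  have h7 := rank_span (F := F) x
  have h8 := P.good.dim
  obtain ⟨z, hz, h0, h9⟩ := exists_sing_mem (Q := Q) (perp Q (F ∙ x)) (by omega)
  have h10 := mem_perp_span.1 hz
  have h11 : τ.1 z ≠ 0 := fun e => h0 (τ.1.injective (e.trans hτ.map_zero.symm))
  refine hσ (RingEquiv.ext fun t => smul_left_injective F h11 ?_)
  have h12 := h5 (t • z) (by rw [Q.map_smul, h9, smul_zero]) (by rw [polar_smul_right, h10, smul_zero])
  rwa [hτ.smul, smul_comm, ← h5 z h9 h10] at h12

end Cfsg.Agent.SM.Op
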