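import Cfsg.Agent.SM.Op.Defs
import Cfsg.Agent.SM.CSi.Cnt

/-!
# SM (S3570), socle `PΩ⁺_{2m}(q)`: box `BoxTri`, a small invariant algebra (helper61)
-/

set_option autoImplicit false
set_option linter.unusedSectionVars false

namespace Cfsg.Agent.SM.Op

open Module QuadraticMap Cfsg Cfsg.Geo
open Cfsg.Agent.LieClassical.OrthCore Cfsg.Agent.LieClassical.OrthTrans Cfsg.Agent.ClassicalGeometry.OrthSemi
open Cfsg.Agent.H449.Reg (img mem_img finrank_img img_mul img_one)
open Cfsg.Agent.H826.RgF (Iv Rd)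

namespace Tri

/-- the subfield of degree `r` -/
theorem subfield {F K V : Type} [Field F] [Fintype F] [Ring K] [Algebra F K] [Finite K] (hK : IsField K)
    [AddCommGroup V] [Module F V] [Module K V] [IsScalarTower F K V] :
    finrank F K ∣ finrank F V ∧ ∀ r, r ≠ 0 → r ∣ finrank F K →
      ∃ D : Subalgebra F K, (∀ x, x ∈ D ↔ x ^ Fintype.card F ^ r = x) ∧ finrank F D = r := by
  let _ := hK.toField
  refine ⟨Dvd.intro _ (Module.finrank_mul_finrank F K V), fun r hr hd => ?_⟩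
  let φ := FiniteField.frobeniusAlgEquivOfAlgebraic F K
  have hφ : ∀ x, (φ ^ r) x = x ^ Fintype.card F ^ r := fun x => by
    rw [AlgEquiv.coe_pow, FiniteField.coe_frobeniusAlgEquivOfAlgebraic_iterate]
  refine ⟨(IntermediateField.fixedField (Subgroup.zpowers (φ ^ r))).toSubalgebra, fun x => ?_, ?_⟩
  · rw [IntermediateField.mem_toSubalgebra, IntermediateField.mem_fixedField_iff, ← hφ]
    refine ⟨fun h => h _ (Subgroup.mem_zpowers _), fun h f hf => ?_⟩
    exact (Subgroup.zpowers_le.2 (show φ ^ r ∈ MulAction.stabilizer _ x from h) hf : f ∈ MulAction.stabilizer _ x)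
  · have h1 := IntermediateField.finrank_fixedField_eq_card (Subgroup.zpowers (φ ^ r))
    have h2 := Module.finrank_mul_finrank F (IntermediateField.fixedField (Subgroup.zpowers (φ ^ r))) K
    have h3 : orderOf φ = finrank F K := FiniteField.orderOf_frobeniusAlgEquivOfAlgebraic F K
    rw [h1, Nat.card_zpowers, orderOf_pow_of_dvd hr (h3 ▸ hd), h3] at h2
    obtain ⟨k, hk⟩ := hd
    have h4 : 0 < finrank F K := Module.finrank_pos
    rw [hk, Nat.mul_div_cancel_left _ (Nat.pos_of_ne_zero hr)] at h2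
    exact Nat.eq_of_mul_eq_mul_right (Nat.pos_of_ne_zero (by rintro rfl; omega)) h2

variable {F V : Type} [Field F] [Fintype F] [AddCommGroup V] [Module F V] [FiniteDimensional F V] {Q : QuadraticForm F V}

/-- conjugation by a semisimilitude -/
def cg (g : Gam Q) : Module.End F V →+* Module.End F V where
  toFun d :=
    { toFun := fun v => g.1 (d (g.1⁻¹ v))
      map_add' := fun u v => by rw [add_of_mem ((Gam Q).inv_mem g.2), map_add, add_of_mem g.2]
      map_smul' := fun a v => by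
        obtain ⟨σ, c, hM⟩ := g.2
        rw [hM.inv.smul, map_smul, hM.smul, RingEquiv.apply_symm_apply]
        rfl }
  map_one' := LinearMap.ext fun v => apply_inv g.1 v
  map_mul' d d' := LinearMap.ext fun v => by
    change g.1 (d (d' (g.1⁻¹ v))) = g.1 (d (g.1⁻¹ (g.1 (d' (g.1⁻¹ v)))))
    rw [inv_apply]
  map_zero' := LinearMap.ext fun v => by
    obtain ⟨σ, c, hM⟩ := g.2
    exact hM.map_zero
  map_add' d d' := LinearMap.ext fun v => add_of_mem g.2 _ _

theorem cg_apply (g : Gam Q) (d : Module.End F V) (x : V) : cg g d (g.1 x) = g.1 (d x) := by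
  change g.1 (d (g.1⁻¹ (g.1 x))) = _
  rw [inv_apply]

theorem cg_inv (g : Gam Q) (d : Module.End F V) : cg g (cg g⁻¹ d) = d := LinearMap.ext fun v => by
  change g.1 (g.1⁻¹ (d (g.1⁻¹⁻¹ (g.1⁻¹ v)))) = _
  rw [apply_inv, inv_inv, apply_inv]

theorem cg_smul (g : Gam Q) (a : F) : ∃ b : F, ∀ d : Module.End F V, cg g (a • d) = b • cg g d := by
  obtain ⟨σ, c, hM⟩ := g.2
  exact ⟨σ a, fun d => LinearMap.ext fun v => hM.smul a _⟩

theorem cg_ne (g : Gam Q) {d : Module.End F V} (h : d ≠ 0) : cg g d ≠ 0 := fun h1 => by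
  have h2 := cg_inv g⁻¹ d
  rw [inv_inv, h1, map_zero] at h2
  exact h h2.symm

theorem nm_of {g : Gam Q} {D : Subalgebra F (Module.End F V)} (h : ∀ d ∈ D, cg g d ∈ D) : Nm g.1 D :=
  fun d hd => ⟨_, h d hd, cg_apply g d⟩

theorem isField [Nontrivial V] {Z : Subalgebra F (Module.End F V)} (h : ∀ z ∈ Z, z ≠ 0 → Function.Injective z) :
    IsField Z := by
  have : Finite V := Module.finite_of_finite F
  have : Finite (Module.End F V) := Module.finite_of_finite F
  have : NoZeroDivisors Z := ⟨fun {a b} hab => by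
    by_cases ha : a = 0
    · exact Or.inl ha
    · refine Or.inr (Subtype.ext (LinearMap.ext fun x => h a a.2 (fun h1 => ha (Subtype.ext h1)) ?_))
      have h2 : (a : Module.End F V) ((b : Module.End F V) x) = 0 := LinearMap.congr_fun (congrArg Subtype.val hab) x
      rw [h2]
      exact (map_zero _).symm⟩
  have : IsDomain Z := NoZeroDivisors.to_isDomain Z
  exact Finite.isDomain_to_isField Z

theorem mem_bot {d : Module.End F V} {a : F} (h : d = a • 1) : d ∈ (⊥ : Subalgebra F (Module.End F V)) :=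
  Algebra.mem_bot.2 ⟨a, by rw [Algebra.algebraMap_eq_smul_one, h]⟩

/-- the field case -/
theorem field_case {m : ℕ} (hd : finrank F V = 2 * m) (hm : 5 ≤ m) {v : V} (hv : v ≠ 0) {G : Subgroup (Gam Q)}
    {Z : Subalgebra F (Module.End F V)} (hZ : Z ≠ ⊥) (h : ∀ z ∈ Z, z ≠ 0 → Function.Injective z)
    (hG : ∀ g ∈ G, ∀ z ∈ Z, cg g z ∈ Z) : ∃ D : Subalgebra F (Module.End F V), Small m v D ∧ ∀ g ∈ G, Nm g.1 D := by
  have : Nontrivial V := nontrivial_of_ne v 0 hv
  have : Finite V := Module.finite_of_finite F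
  have : Finite (Module.End F V) := Module.finite_of_finite F
  obtain ⟨h1, h2⟩ := subfield (F := F) (V := V) (isField h)
  have h3 : finrank F Z ≠ 1 := fun h3 => hZ (Subalgebra.finrank_eq_one_iff.1 h3)
  have hr := Nat.minFac_prime h3
  obtain ⟨D, hD, hD'⟩ := h2 _ hr.ne_zero (Nat.minFac_dvd _)
  have h4 : finrank F (D.map Z.val) = (finrank F Z).minFac :=
    (D.equivMapOfInjective Z.val Subtype.val_injective).toLinearEquiv.finrank_eq.symm.trans hD'
  have h5 : D.map Z.val ≠ ⊥ := fun h5 => hr.one_lt.ne' (by rw [← h4, h5, Subalgebra.finrank_bot])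
  have h6 : D.map Z.val ≤ Z := by
    rintro _ ⟨x, -, rfl⟩
    exact x.2
  refine ⟨D.map Z.val, ⟨h5, ?_, fun d hd h0 => ?_, Or.inl fun u hu => ?_⟩, fun g hg => nm_of ?_⟩
  · rw [h4]
    have h7 := (Nat.minFac_dvd _).trans h1
    rw [hd] at h7
    rcases hr.dvd_mul.1 h7 with h8 | h8
    · have := Nat.le_of_dvd (by norm_num) h8
      omega
    · have := Nat.le_of_dvd (by omega) h8
      omega
  · by_contra h7
    exact hv (h d (h6 hd) h7 (by rw [h0, map_zero]))
  · by_contra h7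
    push Not at h7
    refine h5 (eq_bot_iff.2 fun d hd => ?_)
    obtain ⟨a, ha⟩ := Submodule.mem_span_singleton.1 (h7 d hd)
    by_contra h8
    have h9 : d - a • 1 ≠ 0 := fun h9 => h8 (mem_bot (sub_eq_zero.1 h9))
    refine hu (h _ (Z.sub_mem (h6 hd) (Z.smul_mem Z.one_mem a)) h9 ?_)
    rw [LinearMap.sub_apply, LinearMap.smul_apply, Module.End.one_apply, ha, sub_self, map_zero]
  · rintro _ ⟨x, hx, rfl⟩
    refine ⟨⟨_, hG g hg x x.2⟩, (hD _).2 (Subtype.ext ?_), rfl⟩
    have h7 := congrArg (fun y : Z => cg g y.1) ((hD x).1 hx)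
    simpa using h7

/-- the count on the sphere -/
theorem inj_of {m : ℕ} (hP : Pl Q m) {v : V} (hv : Q v ≠ 0) {G : Subgroup (Gam Q)}
    (htr : ∀ x, Q x = Q v → ∃ g ∈ G, g.1 v = x ∨ g.1 v = -x) {D : Subalgebra F (Module.End F V)}
    (h4 : finrank F D ≤ 4) (hk : ∀ d ∈ D, d ≠ 0 → finrank F (LinearMap.ker d) ≤ m)
    (hG : ∀ g ∈ G, ∀ z ∈ D, cg g z ∈ D) : ∀ d ∈ D, d v = 0 → d = 0 := by
  classical
  intro d hd h0
  by_contra hne
  have : Finite V := Module.finite_of_finite F
  have : Finite (Module.End F V) := Module.finite_of_finite F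
  have := Fintype.ofFinite V
  have := Fintype.ofFinite D
  obtain ⟨k, rfl⟩ : ∃ k, m = k + 1 := ⟨m - 1, by have := hP.five; omega⟩
  have h1 := CS.Ix.card_norm_plus' hP.good.nondeg hP.dim hP.plus hv
  have hq : 2 ≤ Nat.card F := Finite.one_lt_card
  have h2 : (Finset.univ.filter fun x => Q x = Q v) ⊆
      (Finset.univ.erase (0 : D)).biUnion fun z => (Finset.univ.filter fun x => z.1 x = 0).erase 0 := by
    intro x hx
    have hx' : Q x = Q v := (Finset.mem_filter.1 hx).2
    obtain ⟨g, hg, h3⟩ := htr x hx'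
    obtain ⟨σ, c, hM⟩ := g.2
    have h5 : cg g d (g.1 v) = 0 := by rw [cg_apply, h0, hM.map_zero]
    refine Finset.mem_biUnion.2 ⟨⟨_, hG g hg d hd⟩, Finset.mem_erase.2 ⟨fun h => cg_ne g hne (congrArg Subtype.val h),
      Finset.mem_univ _⟩, Finset.mem_erase.2 ⟨?_, Finset.mem_filter.2 ⟨Finset.mem_univ _, ?_⟩⟩⟩
    · rintro rfl
      exact hv (by rw [← hx', map_zero])
    · rcases h3 with h3 | h3
      · rwa [h3] at h5
      · rwa [h3, map_neg, neg_eq_zero] at h5
  have h3 := (Finset.card_le_card h2).trans (Finset.card_biUnion_le_card_mul _ _ (Nat.card F ^ (k + 1) - 1) fun z hz => by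
    rw [Finset.card_erase_of_mem (Finset.mem_filter.2 ⟨Finset.mem_univ _, map_zero z.1⟩ :
      (0 : V) ∈ Finset.univ.filter fun x => z.1 x = 0), ← Fintype.card_subtype,
      ← Nat.card_eq_fintype_card]
    refine Nat.sub_le_sub_right ?_ 1
    have h5 : Nat.card {x // z.1 x = 0} = Nat.card (LinearMap.ker z.1) := rfl
    rw [h5, Module.natCard_eq_pow_finrank (K := F)]
    exact Nat.pow_le_pow_right (by omega) (hk z.1 z.2 fun h => (Finset.mem_erase.1 hz).1 (Subtype.ext h)))
  rw [← Fintype.card_subtype, ← Nat.card_eq_fintype_card, h1, Finset.card_erase_of_mem (Finset.mem_univ _),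
    Finset.card_univ, ← Nat.card_eq_fintype_card, Module.natCard_eq_pow_finrank (K := F) (V := D)] at h3
  have h5 := Nat.le_of_mul_le_mul_right h3 (Nat.sub_pos_of_lt (Nat.one_lt_pow (by omega) hq))
  have h6 : Nat.card F ^ finrank F D ≤ Nat.card F ^ k :=
    Nat.pow_le_pow_right (by omega) (by have := hP.five; omega)
  have h7 : 0 < Nat.card F ^ finrank F D := by positivity
  omega

/-- the commuting algebra -/
def cA (N : Subgroup (V ≃ₗ[F] V)) : Subalgebra F (Module.End F V) where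
  carrier := {d | Cm N d}
  mul_mem' := fun {a b} ha hb g hg x => by
    rw [Module.End.mul_apply, Module.End.mul_apply, hb g hg, ha g hg]
  add_mem' := fun {a b} ha hb g hg x => by
    rw [LinearMap.add_apply, LinearMap.add_apply, hb g hg, ha g hg, map_add]
  algebraMap_mem' := fun a g hg x => by
    rw [Module.algebraMap_end_apply, Module.algebraMap_end_apply, map_smul]

theorem cA_cg {N : Subgroup (V ≃ₗ[F] V)} {g : Gam Q} (h : ∀ n ∈ N, conjLin g⁻¹ n ∈ N) {d : Module.End F V}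
    (hd : d ∈ cA N) : cg g d ∈ cA N := by
  intro n hn x
  have h1 := hd _ (h n hn) (g.1⁻¹ x)
  change d (g.1⁻¹ (n (g.1⁻¹⁻¹ (g.1⁻¹ x)))) = g.1⁻¹ (n (g.1⁻¹⁻¹ (d (g.1⁻¹ x)))) at h1
  rw [inv_inv, apply_inv] at h1
  change g.1 (d (g.1⁻¹ (n x))) = n (g.1 (d (g.1⁻¹ x)))
  rw [h1, apply_inv]

theorem iv_ker {N : Subgroup (V ≃ₗ[F] V)} {d : Module.End F V} (hd : d ∈ cA N) : Iv N (LinearMap.ker d) :=
  fun n hn w hw => by rw [LinearMap.mem_ker, hd n hn, LinearMap.mem_ker.1 hw, map_zero]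

theorem iv_range {N : Subgroup (V ≃ₗ[F] V)} {d : Module.End F V} (hd : d ∈ cA N) : Iv N (LinearMap.range d) := by
  rintro n hn _ ⟨w, rfl⟩
  exact ⟨n w, hd n hn w⟩

theorem iv_img {N : Subgroup (V ≃ₗ[F] V)} {g : Gam Q} (h : ∀ n ∈ N, conjLin g⁻¹ n ∈ N) {W : Submodule F V}
    (hW : Iv N W) : Iv N (img g W) := by
  rintro n hn _ ⟨w, hw, rfl⟩
  refine ⟨_, hW _ (h n hn) w hw, ?_⟩
  change g.1 (g.1⁻¹ (n (g.1⁻¹⁻¹ w))) = _
  rw [apply_inv, inv_inv]

section red

variable {m : ℕ} {N : Subgroup (V ≃ₗ[F] V)} (hd : finrank F V = 2 * m)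
  (hN : ∀ W : Submodule F V, Iv N W → W ≠ ⊥ → W ≠ ⊤ → finrank F W = m)

include hN

theorem eq_of_le {U W : Submodule F V} (hU : Iv N U) (hW : Iv N W) (h0 : U ≠ ⊥) (h1 : W ≠ ⊤) (h : U ≤ W) : U = W :=
  Submodule.eq_of_le_of_finrank_eq h (by
    rw [hN U hU h0 fun h2 => h1 (top_le_iff.1 (h2 ▸ h)), hN W hW (fun h2 => h0 (le_bot_iff.1 (h2 ▸ h))) h1])

theorem ker_le {d : Module.End F V} (hd : d ∈ cA N) (h : d ≠ 0) : finrank F (LinearMap.ker d) ≤ m := by
  by_cases h1 : LinearMap.ker d = ⊥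
  · rw [h1, finrank_bot]
    exact Nat.zero_le _
  · exact (hN _ (iv_ker hd) h1 fun h2 => h (LinearMap.ker_eq_top.1 h2)).le

/-- an invariant subspace which an idempotent keeps -/
theorem eq_or {e : Module.End F V} (he : e ∈ cA N) (hee : e * e = e) (h0 : e ≠ 0) (h1 : e ≠ 1) {U : Submodule F V}
    (hU : Iv N U) (hU0 : U ≠ ⊥) (hU1 : U ≠ ⊤) (h : ∀ u ∈ U, e u ∈ U) : U = LinearMap.range e ∨ U = LinearMap.ker e := by
  have hr : LinearMap.range e ≠ ⊤ := fun h2 => h1 (LinearMap.ext fun x => by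
    obtain ⟨y, rfl⟩ := LinearMap.range_eq_top.1 h2 x
    exact LinearMap.congr_fun hee y)
  have hk : LinearMap.ker e ≠ ⊤ := fun h2 => h0 (LinearMap.ker_eq_top.1 h2)
  by_cases h2 : U ≤ LinearMap.ker e
  · exact Or.inr (eq_of_le hN hU (iv_ker he) hU0 hk h2)
  · left
    obtain ⟨u, hu, hu'⟩ := SetLike.not_le_iff_exists.1 h2
    have h3 : U ⊓ LinearMap.range e ≠ ⊥ := fun h3 => hu' (by
      have : e u ∈ U ⊓ LinearMap.range e := ⟨h u hu, u, rfl⟩
      rwa [h3, Submodule.mem_bot] at this)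
    have h4 : Iv N (U ⊓ LinearMap.range e) := fun n hn w hw => ⟨hU n hn w hw.1, iv_range he n hn w hw.2⟩
    exact (eq_of_le hN h4 hU h3 hU1 inf_le_left).symm.trans (eq_of_le hN h4 (iv_range he) h3 hr inf_le_right)

include hd in
/-- the projection -/
theorem exists_idem {W W' : Submodule F V} (hW : Iv N W) (hW' : Iv N W') (h0 : W ≠ ⊥) (h1 : W ≠ ⊤) (h0' : W' ≠ ⊥)
    (h1' : W' ≠ ⊤) (hne : W ≠ W') : ∃ e ∈ cA N, e * e = e ∧ e ≠ 0 ∧ e ≠ 1 := by
  have h2 : W ⊓ W' = ⊥ := by
    by_contra h2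
    have h3 : Iv N (W ⊓ W') := fun n hn w hw => ⟨hW n hn w hw.1, hW' n hn w hw.2⟩
    exact hne ((eq_of_le hN h3 hW h2 h1 inf_le_left).symm.trans (eq_of_le hN h3 hW' h2 h1' inf_le_right))
  have h3 : IsCompl W W' := by
    refine ⟨disjoint_iff.2 h2, codisjoint_iff.2 (Submodule.eq_top_of_finrank_eq ?_)⟩
    have := Submodule.finrank_sup_add_finrank_inf_eq W W'
    rw [h2, finrank_bot, hN W hW h0 h1, hN W' hW' h0' h1'] at this
    omega
  let e : Module.End F V := W.subtype ∘ₗ W.projectionOnto W' h3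
  have e1 : ∀ w ∈ W, e w = w := fun w hw => congrArg Subtype.val (Submodule.projectionOnto_apply_left h3 ⟨w, hw⟩)
  have e2 : ∀ w ∈ W', e w = 0 := fun w hw => congrArg Subtype.val (Submodule.projectionOnto_apply_of_mem_right h3 hw)
  refine ⟨e, fun n hn x => ?_, LinearMap.ext fun x => e1 _ (W.projectionOnto W' h3 x).2, fun h => h0 ?_, fun h => h0' ?_⟩
  · obtain ⟨a, ha, b, hb, rfl⟩ := Submodule.mem_sup.1 (h3.sup_eq_top ▸ Submodule.mem_top : x ∈ W ⊔ W')
    rw [map_add, map_add, map_add, e1 a ha, e2 b hb, e1 _ (hW n hn a ha), e2 _ (hW' n hn b hb), add_zero, add_zero]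
  · refine (Submodule.eq_bot_iff _).2 fun w hw => ?_
    rw [← e1 w hw, h, LinearMap.zero_apply]
  · refine (Submodule.eq_bot_iff _).2 fun w hw => ?_
    rw [← e2 w hw, h, Module.End.one_apply]

/-- the inverse matrix unit -/
theorem exists_inv {e φ : Module.End F V} (he : e ∈ cA N) (hee : e * e = e) (h0 : e ≠ 0) (h1 : e ≠ 1) (hφ : φ ∈ cA N)
    (hφ0 : φ ≠ 0) (h2 : φ * e = φ) (h3 : e * φ = 0) :
    ∃ ψ ∈ cA N, e * ψ = ψ ∧ ψ * e = 0 ∧ ψ * φ = e ∧ φ * ψ = 1 - e := by
  have hk : LinearMap.ker e ≠ ⊤ := fun h => h0 (LinearMap.ker_eq_top.1 h)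
  have hk0 : LinearMap.ker e ≠ ⊥ := fun h => h1 (LinearMap.ext fun x =>
    LinearMap.ker_eq_bot.1 h (LinearMap.congr_fun hee x))
  have h4 : LinearMap.ker e = LinearMap.ker φ := eq_of_le hN (iv_ker he) (iv_ker hφ) hk0
    (fun h => hφ0 (LinearMap.ker_eq_top.1 h)) fun x hx => by
      rw [LinearMap.mem_ker, ← h2, Module.End.mul_apply, LinearMap.mem_ker.1 hx, map_zero]
  have h5 : LinearMap.range φ = LinearMap.ker e := eq_of_le hN (iv_range hφ) (iv_ker he)
    (fun h => hφ0 (LinearMap.range_eq_bot.1 h)) hk (by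
      rintro _ ⟨x, rfl⟩
      exact LinearMap.congr_fun h3 x)
  -- `φ + e` has the right inverse data on `ker e`
  have h6 : ∀ x, ∃ y, e y = y ∧ φ y = x - e x := by
    intro x
    have h7 : x - e x ∈ LinearMap.range φ := by
      rw [h5, LinearMap.mem_ker, map_sub, ← Module.End.mul_apply, hee, sub_self]
    obtain ⟨y, hy⟩ := h7
    exact ⟨e y, LinearMap.congr_fun hee y, (LinearMap.congr_fun h2 y).trans hy⟩
  have h7 : ∀ y y', e y = y → e y' = y' → φ y = φ y' → y = y' := by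
    intro y y' hy hy' h
    have h8 : y - y' ∈ LinearMap.ker e := by rw [h4, LinearMap.mem_ker, map_sub, h, sub_self]
    rwa [LinearMap.mem_ker, map_sub, hy, hy', sub_eq_zero] at h8
  choose f hf hf' using h6
  let ψ : Module.End F V :=
    { toFun := f
      map_add' := fun a b => h7 _ _ (hf _) (by rw [map_add, hf, hf]) (by rw [hf', map_add, map_add, hf', hf']; abel)
      map_smul' := fun a b => h7 _ _ (hf _) (by rw [map_smul, hf]) (by
        rw [hf', map_smul, map_smul, hf', smul_sub]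
        rfl) }
  refine ⟨ψ, fun n hn x => h7 _ _ (hf _) ?_ ?_, LinearMap.ext hf, LinearMap.ext fun x => h7 _ _ (hf _) (map_zero _) ?_,
    LinearMap.ext fun x => h7 _ _ (hf _) (LinearMap.congr_fun hee x) ?_, LinearMap.ext hf'⟩
  · rw [he n hn]
    exact congrArg n (hf x)
  · change φ (f (n x)) = φ (n (f x))
    rw [hf', hφ n hn, hf', map_sub, he n hn]
  · change φ (f (e x)) = φ 0
    rw [hf', map_zero, ← Module.End.mul_apply, hee, sub_self]
  · change φ (f (φ x)) = φ (e x)
    rw [hf', ← Module.End.mul_apply, h3, LinearMap.zero_apply, sub_zero, ← Module.End.mul_apply, h2]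

end red

theorem finrank_le_of_span {D : Subalgebra F (Module.End F V)} {n : ℕ} (b : Fin n → Module.End F V)
    (h : ∀ d ∈ D, d ∈ Submodule.span F (Set.range b)) : finrank F D ≤ n := by
  have h1 : Subalgebra.toSubmodule D ≤ Submodule.span F (Set.range b) := h
  have h2 := (Submodule.finrank_mono h1).trans (finrank_range_le_card b)
  rwa [Fintype.card_fin] at h2

/-- the algebra spanned by an idempotent -/
def two (e : Module.End F V) (hee : e * e = e) : Subalgebra F (Module.End F V) where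
  carrier := {d | ∃ a b : F, d = a • e + b • 1}
  mul_mem' := by
    rintro _ _ ⟨a, b, rfl⟩ ⟨c, d, rfl⟩
    refine ⟨a * c + a * d + b * c, b * d, ?_⟩
    simp only [add_mul, mul_add, smul_mul_assoc, mul_smul_comm, hee, one_mul, mul_one]
    module
  add_mem' := by
    rintro _ _ ⟨a, b, rfl⟩ ⟨c, d, rfl⟩
    exact ⟨a + c, b + d, by rw [add_smul, add_smul]; abel⟩
  algebraMap_mem' := fun a => ⟨0, a, by rw [zero_smul, zero_add, Algebra.algebraMap_eq_smul_one]⟩

theorem idem_notMem {e : Module.End F V} (hee : e * e = e) (h0 : e ≠ 0) (h1 : e ≠ 1) :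
    e ∉ (⊥ : Subalgebra F (Module.End F V)) := by
  intro h
  obtain ⟨a, ha⟩ := Algebra.mem_bot.1 h
  have ha0 : a ≠ 0 := by
    rintro rfl
    exact h0 (by rw [← ha, map_zero])
  have h2 : IsUnit e := ha ▸ (IsUnit.mk0 a ha0).map (algebraMap F (Module.End F V))
  exact h1 (h2.mul_left_cancel (by rw [hee, mul_one]))

theorem idem_eq {e e' : Module.End F V} (hee : e * e = e) (hee' : e' * e' = e') (h1 : LinearMap.range e' = LinearMap.range e)
    (h2 : LinearMap.ker e' = LinearMap.ker e) : e' = e := LinearMap.ext fun x => by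
  have h3 : x - e x ∈ LinearMap.ker e' := by
    rw [h2, LinearMap.mem_ker, map_sub, ← Module.End.mul_apply, hee, sub_self]
  obtain ⟨y, hy⟩ : e x ∈ LinearMap.range e' := h1 ▸ LinearMap.mem_range_self e x
  rw [LinearMap.mem_ker, map_sub, sub_eq_zero] at h3
  rw [h3, ← hy, ← Module.End.mul_apply, hee']

end Tri

open Tri

/-- **[TRI]** -/
theorem boxTri : BoxTri := by
  intro F V _ _ _ _ _ Q m hP G N v hv htr hirr hGN hN hAb
  have hv0 : v ≠ 0 := by
    rintro rfl
    exact hv (map_zero Q)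
  have : Nontrivial V := nontrivial_of_ne v 0 hv0
  have hm := hP.five
  have hA : ∀ g ∈ G, ∀ d ∈ cA N, cg g d ∈ cA N := fun g hg d hd => cA_cg (hGN _ (G.inv_mem hg)) hd
  by_cases hR : Rd N
  swap
  · refine field_case hP.dim hm hv0 (Z := cA N) (fun h => hAb ⟨hR, fun d hd => ?_⟩) (fun z hz h0 => ?_) hA
    · have h1 : d ∈ (⊥ : Subalgebra F (Module.End F V)) := h ▸ (hd : d ∈ cA N)
      obtain ⟨a, rfl⟩ := Algebra.mem_bot.1 h1
      exact ⟨a, fun x => rfl⟩
    · by_contra h1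
      exact hR ⟨_, fun h2 => h1 (LinearMap.ker_eq_bot.1 h2), fun h2 => h0 (LinearMap.ker_eq_top.1 h2), iv_ker hz⟩
  obtain ⟨W, h0, h1, hW⟩ := hR
  obtain ⟨g, hg, hgW⟩ : ∃ g ∈ G, img g W ≠ W := by
    by_contra h
    push Not at h
    exact (hirr W h).elim h0 h1
  have hW' := finrank_img g W
  obtain ⟨e, he, hee, he0, he1⟩ := exists_idem hP.dim hN hW (iv_img (hGN _ (G.inv_mem hg)) hW) h0 h1
    (fun h => h0 (Submodule.finrank_eq_zero.1 (by rw [← hW', h, finrank_bot])))
    (fun h => h1 (Submodule.eq_top_of_finrank_eq (by rw [← hW', h, finrank_top]))) hgW.symm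
  by_cases hc : ∀ d ∈ cA N, e * d = d * e
  · have hle : two e hee ≤ cA N := by
      rintro _ ⟨a, b, rfl⟩
      exact add_mem ((cA N).smul_mem he a) ((cA N).smul_mem (one_mem _) b)
    have h2 : finrank F (two e hee) ≤ 2 := finrank_le_of_span ![e, 1] (by
      rintro _ ⟨a, b, rfl⟩
      exact add_mem (Submodule.smul_mem _ a (Submodule.subset_span ⟨0, rfl⟩))
        (Submodule.smul_mem _ b (Submodule.subset_span ⟨1, rfl⟩)))
    have hG : ∀ g ∈ G, ∀ z ∈ two e hee, cg g z ∈ two e hee := by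
      rintro g hg _ ⟨a, b, rfl⟩
      obtain ⟨a', ha'⟩ := cg_smul g a
      obtain ⟨b', hb'⟩ := cg_smul g b
      rw [map_add, ha', hb', map_one]
      refine add_mem ((two e hee).smul_mem ?_ a') ((two e hee).smul_mem (one_mem _) b')
      have h3 := hA g hg e he
      have h4 : cg g e * cg g e = cg g e := by rw [← map_mul, hee]
      have h5 : cg g e ≠ 0 := cg_ne g he0
      have h6 : cg g e ≠ 1 := fun h => cg_ne g (sub_ne_zero.2 he1) (by rw [map_sub, h, map_one, sub_self])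
      have h7 := hc _ h3
      -- the four products
      have key : ∀ x ∈ cA N, x * x = x → x * e = x → x ≠ 0 → ∀ y ∈ cA N, y * y = y → y ≠ 0 → y ≠ 1 → x * y = x →
          y * x = x → x = y := by
        intro x hx hxx _ hx0 y hy hyy hy0 hy1 hxy hyx
        have hr : LinearMap.range y ≠ ⊤ := fun h2 => hy1 (LinearMap.ext fun z => by
          obtain ⟨t, rfl⟩ := LinearMap.range_eq_top.1 h2 z
          exact LinearMap.congr_fun hyy t)
        refine idem_eq hyy hxx (eq_of_le hN (iv_range hx) (iv_range hy) (fun h => hx0 (LinearMap.range_eq_bot.1 h)) hr ?_)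
          (eq_of_le hN (iv_ker hy) (iv_ker hx) (fun h => hy1 (LinearMap.ext fun z =>
            LinearMap.ker_eq_bot.1 h (LinearMap.congr_fun hyy z))) (fun h => hx0 (LinearMap.ker_eq_top.1 h)) ?_).symm
        · rintro _ ⟨z, rfl⟩
          exact ⟨x z, LinearMap.congr_fun hyx z⟩
        · intro z hz
          rw [LinearMap.mem_ker, ← hxy, Module.End.mul_apply, LinearMap.mem_ker.1 hz, map_zero]
      generalize cg g e = e' at h3 h4 h5 h6 h7
      have hx : e * e' * (e * e') = e * e' := by rw [mul_assoc, ← mul_assoc e', ← h7, mul_assoc e, h4, ← mul_assoc, hee]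
      have hxe : e * e' * e = e * e' := by rw [mul_assoc, ← h7, ← mul_assoc, hee]
      by_cases h8 : e * e' = 0
      · have h9 : (1 - e') * (1 - e') = 1 - e' := by rw [sub_mul, one_mul, mul_sub, mul_one, h4, sub_self, sub_zero]
        have h10 := key e he hee hee he0 (1 - e') (sub_mem (one_mem _) h3) h9 (sub_ne_zero.2 h6.symm)
          (fun h => h5 (sub_eq_self.1 h)) (by rw [mul_sub, mul_one, h8, sub_zero])
          (by rw [sub_mul, one_mul, ← h7, h8, sub_zero])
        exact ⟨-1, 1, by rw [h10, neg_one_smul, one_smul]; abel⟩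
      · have h9 := key _ (mul_mem he h3) hx hxe h8 e he hee he0 he1 hxe (by rw [← mul_assoc, hee])
        have h10 := key _ (mul_mem he h3) hx hxe h8 e' h3 h4 h5 h6 (by rw [mul_assoc, h4])
          (by rw [← mul_assoc, ← h7, mul_assoc, h4])
        exact ⟨1, 0, by rw [← h10, h9, one_smul, zero_smul, add_zero]⟩
    have hk : ∀ d ∈ two e hee, d ≠ 0 → finrank F (LinearMap.ker d) ≤ m := fun d hd => ker_le hN (hle hd)
    exact ⟨two e hee, ⟨fun h => idem_notMem hee he0 he1 (h ▸ (⟨1, 0, by rw [one_smul, zero_smul, add_zero]⟩ :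
      e ∈ two e hee)), by omega, inj_of hP hv htr (by omega) hk hG, Or.inr ⟨h2, hk⟩⟩, fun g hg => nm_of (hG g hg)⟩
  -- matrix units
  obtain ⟨e, he, hee, he0, he1, φ, hφ, hφ0, h2, h3⟩ : ∃ e ∈ cA N, e * e = e ∧ e ≠ 0 ∧ e ≠ 1 ∧ ∃ φ ∈ cA N, φ ≠ 0 ∧
      φ * e = φ ∧ e * φ = 0 := by
    push Not at hc
    obtain ⟨d, hd, hde⟩ := hc
    have hf : (1 - e) * (1 - e) = 1 - e := by rw [sub_mul, one_mul, mul_sub, mul_one, hee, sub_self, sub_zero]
    have hef : e * (1 - e) = 0 := by rw [mul_sub, mul_one, hee, sub_self]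
    by_cases h : (1 - e) * d * e = 0
    · refine ⟨1 - e, sub_mem (one_mem _) he, hf, sub_ne_zero.2 he1.symm, fun h => he0 (sub_eq_self.1 h), e * d * (1 - e),
        mul_mem (mul_mem he hd) (sub_mem (one_mem _) he), fun h' => hde ?_, by rw [mul_assoc, hf], ?_⟩
      · rw [mul_sub, mul_one, sub_eq_zero] at h'
        rw [sub_mul, sub_mul, one_mul, sub_eq_zero] at h
        rw [h', ← h]
      · rw [← mul_assoc, ← mul_assoc, sub_mul, one_mul, hee, sub_self, zero_mul, zero_mul]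
    · exact ⟨e, he, hee, he0, he1, _, mul_mem (mul_mem (sub_mem (one_mem _) he) hd) he, h, by rw [mul_assoc, hee],
        by rw [← mul_assoc, ← mul_assoc, hef, zero_mul, zero_mul]⟩
  obtain ⟨ψ, hψ, h4, h5, h6, h7⟩ := exists_inv hN he hee he0 he1 hφ hφ0 h2 h3
  have hφφ : φ * φ = 0 := by rw [← h2, mul_assoc, ← mul_assoc e, h3, zero_mul, mul_zero]
  have hψψ : ψ * ψ = 0 := by rw [← h4, mul_assoc, ← mul_assoc ψ, h5, zero_mul, mul_zero]
  let C : Subalgebra F (Module.End F V) := cA N ⊓ Subalgebra.centralizer F {φ, ψ}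
  have hC : ∀ x, x ∈ C ↔ x ∈ cA N ∧ φ * x = x * φ ∧ ψ * x = x * ψ := fun x => by
    simp only [C, Algebra.mem_inf, Subalgebra.mem_centralizer_iff, Set.mem_insert_iff, Set.mem_singleton_iff,
      forall_eq_or_imp, forall_eq]
  have hCi : ∀ z ∈ C, z ≠ 0 → Function.Injective z := by
    intro z hz hz0
    obtain ⟨hz1, hz2, hz3⟩ := (hC z).1 hz
    have hk : ∀ y : Module.End F V, y * z = z * y → ∀ u ∈ LinearMap.ker z, y u ∈ LinearMap.ker z := fun y hy u hu => by
      rw [LinearMap.mem_ker, ← Module.End.mul_apply, ← hy, Module.End.mul_apply, LinearMap.mem_ker.1 hu, map_zero]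
    by_contra h8
    rcases eq_or hN he hee he0 he1 (iv_ker hz1) (fun h => h8 (LinearMap.ker_eq_bot.1 h))
      (fun h => hz0 (LinearMap.ker_eq_top.1 h)) (fun u hu => by
        rw [← h6]
        exact hk ψ hz3 _ (hk φ hz2 u hu)) with h9 | h9
    · refine hφ0 (LinearMap.ext fun x => ?_)
      obtain ⟨y, hy⟩ := h9 ▸ hk φ hz2 _ (h9 ▸ LinearMap.mem_range_self e x)
      have h10 : e (e y) = e (φ (e x)) := congrArg e hy
      rw [← Module.End.mul_apply e e, hee, ← Module.End.mul_apply e φ, h3, hy, ← Module.End.mul_apply φ e, h2] at h10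
      exact h10
    · refine he1 (sub_eq_zero.1 (LinearMap.ext fun x => ?_)).symm
      have h10 : (1 - e) x ∈ LinearMap.ker z := by
        rw [h9, LinearMap.mem_ker, ← Module.End.mul_apply, mul_sub, mul_one, hee, sub_self, LinearMap.zero_apply]
      have h11 := hk ψ hz3 _ h10
      rw [h9, LinearMap.mem_ker, ← Module.End.mul_apply, h4, ← Module.End.mul_apply, mul_sub, mul_one, h5, sub_zero] at h11
      rw [← h7, Module.End.mul_apply, h11, map_zero, LinearMap.zero_apply]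
  have hhat : ∀ y ∈ cA N, e * y * e + φ * y * ψ ∈ C := fun y hy => (hC _).2
    ⟨add_mem (mul_mem (mul_mem he hy) he) (mul_mem (mul_mem hφ hy) hψ), by
      simp only [mul_add, add_mul, ← mul_assoc, h2, hφφ, zero_mul, add_zero]
      simp only [mul_assoc, h3, h6, mul_zero, zero_add], by
      simp only [mul_add, add_mul, ← mul_assoc, h5, h6, zero_mul, zero_add]
      simp only [mul_assoc, h4, hψψ, mul_zero, add_zero]⟩
  have hkey : ∀ x : Module.End F V, e * x * e = e * (e * x * e + φ * x * ψ) := fun x => by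
    simp only [mul_add, ← mul_assoc, hee, h3, zero_mul, add_zero]
  have hdec : ∀ y : Module.End F V, y = e * y * e + e * (y * φ) * e * ψ + φ * (e * (ψ * y) * e) +
      φ * (e * (ψ * y * φ) * e) * ψ := by
    intro y
    have e1 : e * (y * φ) * e * ψ = e * y * (1 - e) := by rw [mul_assoc _ e ψ, h4, ← h7]; simp only [mul_assoc]
    have e2 : φ * (e * (ψ * y) * e) = (1 - e) * y * e := by rw [← h7]; simp only [← mul_assoc, h2]
    have e3 : φ * (e * (ψ * y * φ) * e) * ψ = (1 - e) * y * (1 - e) := by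
      rw [← h7]
      simp only [← mul_assoc, h2]
      simp only [mul_assoc, h4]
    rw [e1, e2, e3]
    noncomm_ring
  have hcen : ∀ c ∈ C, ∀ y ∈ cA N, y * c = c * y := by
    intro c hc y hy
    obtain ⟨-, c1, c2⟩ := (hC c).1 hc
    have c1' : Commute φ c := c1
    have c2' : Commute ψ c := c2
    have c3 : Commute e c := h6 ▸ c2'.mul_left c1'
    have c4 : ∀ x ∈ cA N, Commute (e * x * e) c := fun x hx => by
      rw [hkey]
      exact c3.mul_left (congrArg Subtype.val ((isField hCi).mul_comm ⟨_, hhat x hx⟩ ⟨c, hc⟩))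
    have c5 : Commute y c := by
      rw [hdec y]
      exact (((c4 y hy).add_left ((c4 _ (mul_mem hy hφ)).mul_left c2')).add_left (c1'.mul_left (c4 _ (mul_mem hψ hy)))).add_left
        ((c1'.mul_left (c4 _ (mul_mem (mul_mem hψ hy) hφ))).mul_left c2')
    exact c5
  by_cases hC0 : C = ⊥
  swap
  · refine field_case hP.dim hm hv0 hC0 hCi fun g hg c hc => ?_
    have h8 : ∀ y ∈ cA N, y * cg g c = cg g c * y := fun y hy => by
      rw [← cg_inv g y, ← map_mul, ← map_mul, hcen c hc _ (hA _ (G.inv_mem hg) y hy)]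
    exact (hC _).2 ⟨hA g hg c ((hC c).1 hc).1, h8 φ hφ, h8 ψ hψ⟩
  have h8 : ∀ x ∈ cA N, ∃ a : F, e * x * e = a • e := fun x hx => by
    obtain ⟨a, ha⟩ := Algebra.mem_bot.1 (hC0 ▸ hhat x hx)
    exact ⟨a, by rw [hkey, ← ha, Algebra.algebraMap_eq_smul_one, mul_smul_comm, mul_one]⟩
  have h9 : finrank F (cA N) ≤ 4 := finrank_le_of_span ![e, ψ, φ, φ * ψ] (by
    intro y hy
    obtain ⟨a, ha⟩ := h8 y hy
    obtain ⟨b, hb⟩ := h8 _ (mul_mem hy hφ)
    obtain ⟨c, hc⟩ := h8 _ (mul_mem hψ hy)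
    obtain ⟨d, hd⟩ := h8 _ (mul_mem (mul_mem hψ hy) hφ)
    rw [hdec y, ha, hb, hc, hd, smul_mul_assoc, h4, mul_smul_comm, h2, mul_smul_comm, h2, smul_mul_assoc]
    exact add_mem (add_mem (add_mem (Submodule.smul_mem _ a (Submodule.subset_span ⟨0, rfl⟩))
      (Submodule.smul_mem _ b (Submodule.subset_span ⟨1, rfl⟩))) (Submodule.smul_mem _ c (Submodule.subset_span ⟨2, rfl⟩)))
      (Submodule.smul_mem _ d (Submodule.subset_span ⟨3, rfl⟩)))
  refine ⟨cA N, ⟨fun h => idem_notMem hee he0 he1 (h ▸ he), by omega,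
    inj_of hP hv htr h9 (fun d hd => ker_le hN hd) hA, Or.inl fun u hu => ?_⟩, fun g hg => nm_of (hA g hg)⟩
  by_contra h10
  push Not at h10
  have h11 : ∀ x ∈ cA N, x * x = 0 → x u = 0 := fun x hx hxx => by
    obtain ⟨a, ha⟩ := Submodule.mem_span_singleton.1 (h10 x hx)
    have h12 : (a * a) • u = 0 := by
      rw [mul_smul, ha, ← map_smul, ha, ← Module.End.mul_apply, hxx, LinearMap.zero_apply]
    rw [← ha, mul_self_eq_zero.1 ((smul_eq_zero.1 h12).resolve_right hu), zero_smul]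
  have h12 : (ψ * φ + φ * ψ) u = u := by rw [h6, h7, add_sub_cancel, Module.End.one_apply]
  rw [LinearMap.add_apply, Module.End.mul_apply, Module.End.mul_apply, h11 φ hφ hφφ, h11 ψ hψ hψψ, map_zero, map_zero,
    add_zero] at h12
  exact hu h12.symm

end Cfsg.Agent.SM.Op
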