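import Cfsg.Agent.SM.Op.Pl

/-!
# SM (S3570), socle `PΩ⁺_{2m}(q)`, `m ≥ 5`: invariant subspaces of a transitive group, `boxWS` (helper39)
-/

set_option autoImplicit false
set_option linter.unusedSectionVars false

namespace Cfsg.Agent.SM.Op

open Module QuadraticMap Polynomial
open Cfsg.Agent.LieClassical.OrthCore Cfsg.Agent.LieClassical.OrthTrans
open Cfsg.Agent.LieClassical.OrthFinite (good_of_finite)
open Cfsg.Agent.H955 (perp res mem_perp mem_perp' nondeg_res_iff finrank_add_perp perp_perp nondeg_perp perp_anti)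
open Cfsg.Agent.H386.Rg (Aniso)
open Cfsg.Agent.H826.RgF (Iv)
open Cfsg.Agent.H826.RgD (Q_lin nondeg_of_aniso)

namespace PlG

variable {F V : Type} [Field F] [AddCommGroup V] [Module F V] {Q : QuadraticForm F V}

theorem iv_pp {Y : Subgroup (V ≃ₗ[F] V)} (hY : Y ≤ O Q) {W : Submodule F V} (hW : Iv Y W) : Iv Y (perp Q W) :=
  fun g hg w hw u hu => by
    have h1 : g⁻¹ u ∈ W := hW _ (Y.inv_mem hg) u hu
    rw [← g.apply_symm_apply u, polar_map (hY hg)]
    exact hw _ h1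

theorem iv_inf {Y : Subgroup (V ≃ₗ[F] V)} {W W' : Submodule F V} (hW : Iv Y W) (hW' : Iv Y W') : Iv Y (W ⊓ W') :=
  fun g hg w hw => ⟨hW g hg w hw.1, hW' g hg w hw.2⟩

theorem ts_le {W : Submodule F V} (h : Ts Q W) : W ≤ perp Q W := fun x hx y hy => by
  have h1 := Q_add (Q := Q) y x
  rw [h _ (W.add_mem hy hx), h x hx, h y hy] at h1
  linear_combination -h1

theorem two_rep [Fintype F] (h2 : (2 : F) ≠ 0) {a b : F} (ha : a ≠ 0) (hb : b ≠ 0) (c : F) :
    ∃ x y : F, a * x ^ 2 + b * y ^ 2 = c := by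
  have h1 : (C a * X ^ 2 : F[X]).degree = 2 := degree_C_mul_X_pow 2 ha
  have h3 : (C b * X ^ 2 - C c : F[X]).degree = 2 := by
    rw [degree_sub_C, degree_C_mul_X_pow 2 hb]
    · rfl
    · rw [degree_C_mul_X_pow 2 hb]
      exact_mod_cast Nat.zero_lt_two
  obtain ⟨x, y, h⟩ := FiniteField.exists_root_sum_quadratic h1 h3
    (FiniteField.odd_card_of_char_ne_two fun e => h2 (by exact_mod_cast (ringChar.spec F 2).2 (e ▸ dvd_rfl)))
  simp only [eval_mul, eval_C, eval_pow, eval_X, eval_sub] at h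
  exact ⟨x, y, by linear_combination h⟩

variable [Fintype F] [FiniteDimensional F V]

/-- a subspace which misses a non-zero value has a large radical -/
theorem rad_big (h2 : (2 : F) ≠ 0) {U : Submodule F V} {c : F} (h : ∀ x ∈ U, Q x ≠ c) :
    finrank F U ≤ finrank F ↥(U ⊓ perp Q U) + 1 := by
  by_cases hT : Ts Q U
  · rw [inf_eq_left.2 (ts_le hT)]
    omega
  obtain ⟨x, hx, hx0⟩ : ∃ x ∈ U, Q x ≠ 0 := by
    by_contra hc
    exact hT fun w hw => by_contra fun e => hc ⟨w, hw, e⟩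
  let l : V →ₗ[F] F := polarBilin Q x
  have hl : ∀ y, l y = polar Q x y := fun _ => rfl
  have hT' : Ts Q (U ⊓ LinearMap.ker l) := fun y hy => by_contra fun hy0 => by
    obtain ⟨s, t, e⟩ := two_rep h2 hx0 hy0 c
    refine h _ (U.add_mem (U.smul_mem s hx) (U.smul_mem t hy.1)) ?_
    rw [Q_lin, ← hl, LinearMap.mem_ker.1 hy.2]
    linear_combination e
  have hxx : polar Q x x ≠ 0 := by
    rw [polar_self']
    exact mul_ne_zero h2 hx0
  have h3 : U ⊓ LinearMap.ker l ≤ U ⊓ perp Q U := fun y hy => ⟨hy.1, fun u hu => by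
    have h4 : u - (polar Q x u / polar Q x x) • x ∈ U ⊓ LinearMap.ker l :=
      ⟨U.sub_mem hu (U.smul_mem _ hx), LinearMap.mem_ker.2 (by
        rw [hl, polar_sub_right, polar_smul_right, smul_eq_mul, div_mul_cancel₀ _ hxx, sub_self])⟩
    have h5 := ts_le hT' hy _ h4
    rw [polar_sub_left, polar_smul_left, ← hl y, LinearMap.mem_ker.1 hy.2, smul_zero, sub_zero] at h5
    exact h5⟩
  have h4 := Submodule.finrank_mono h3
  have h5 := Submodule.finrank_sup_add_finrank_inf_eq U (LinearMap.ker l)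
  have h6 := Submodule.finrank_le (U ⊔ LinearMap.ker l)
  have h7 := LinearMap.finrank_range_add_finrank_ker l
  have h8 := Submodule.finrank_le (LinearMap.range l)
  rw [Module.finrank_self] at h8
  omega

theorem perp_ne_bot (hQ : Nondeg Q) {W : Submodule F V} (h : W ≠ ⊤) : perp Q W ≠ ⊥ := fun e => by
  have h2 := finrank_add_perp hQ W
  rw [e, finrank_bot, add_zero] at h2
  exact h (Submodule.eq_top_of_finrank_eq h2)

theorem perp_ne_top (hQ : Nondeg Q) {W : Submodule F V} (h : W ≠ ⊥) : perp Q W ≠ ⊤ := fun e => by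
  have h2 := finrank_add_perp hQ W
  rw [e, finrank_top] at h2
  exact h (Submodule.finrank_eq_zero.1 (by omega))

theorem miss (hG : Good Q) {Y : Subgroup (V ≃ₗ[F] V)} {c : F} (h : TrS Q Y c) {W : Submodule F V} (hW : Iv Y W)
    (h1 : W ≠ ⊤) : ∀ x ∈ W, Q x ≠ c := fun x hx e => h1 (sphere_top hG fun y hy => by
  obtain ⟨g, hg, e1 | e1⟩ := h x y e hy
  · exact e1 ▸ hW g hg x hx
  · exact W.neg_mem_iff.1 (e1 ▸ hW g hg x hx))

theorem ts_sphere (hG : Good Q) {m : ℕ} (hd : finrank F V = 2 * m) {Y : Subgroup (V ≃ₗ[F] V)} (hY : Y ≤ O Q) {c : F}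
    (h : TrS Q Y c) {W : Submodule F V} (hW : Iv Y W) (h0 : W ≠ ⊥) (h1 : W ≠ ⊤) : Ts Q W := by
  have hQ := hG.nondeg
  by_cases h2 : (2 : F) = 0
  · intro x hx
    by_contra hx0
    obtain ⟨t, ht⟩ := ClassicalGeometry.OrthDickson.exists_sq_of_two h2 (c / Q x)
    refine miss hG h hW h1 _ (W.smul_mem t hx) ?_
    rw [QuadraticMap.map_smul, ht, smul_eq_mul, div_mul_cancel₀ _ hx0]
  have h3 := rad_big h2 (miss hG h hW h1)
  have h4 := rad_big h2 (miss hG h (iv_pp hY hW) (perp_ne_top hQ h0))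
  rw [perp_perp hQ, inf_comm] at h4
  have h5 := finrank_add_perp hQ W
  have h6 := hG.dim
  have h7 : W ⊓ perp Q W ≠ ⊥ := fun e => by
    rw [e, finrank_bot] at h3 h4
    omega
  have h8 := rad_big h2 (miss hG h (iv_pp hY (iv_inf hW (iv_pp hY hW))) (perp_ne_top hQ h7))
  rw [perp_perp hQ] at h8
  have h9 : finrank F ↥(perp Q (W ⊓ perp Q W) ⊓ (W ⊓ perp Q W)) ≤ finrank F ↥(W ⊓ perp Q W) :=
    Submodule.finrank_mono inf_le_right
  have h10 := finrank_add_perp hQ (W ⊓ perp Q W)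
  have h11 : finrank F ↥(W ⊓ perp Q W) ≤ finrank F (perp Q W) := Submodule.finrank_mono inf_le_right
  have h12 : W ⊓ perp Q W = W := Submodule.eq_of_le_of_finrank_le inf_le_left (by omega)
  intro x hx
  have h13 : polar Q x x = 0 := (h12.ge hx).2 x hx
  rw [polar_self'] at h13
  exact (mul_eq_zero.1 h13).resolve_left h2

theorem plane_top (hG : Good Q) {Y : Subgroup (V ≃ₗ[F] V)} (h : TrP Q Y) {W : Submodule F V} (hW : Iv Y W)
    {P : Submodule F V} (hP : An Q P) (hle : P ≤ W) : W = ⊤ := sphere_top hG (c := 1) fun x hx => by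
  obtain ⟨b, hb⟩ := exists_pair hG (hx ▸ one_ne_zero : Q x ≠ 0)
  obtain ⟨g, hg, e⟩ := h P _ hP (an_span hb)
  obtain ⟨y, hy, rfl⟩ : x ∈ P.map (g : V →ₗ[F] V) := e ▸ left_mem x b
  exact hW g hg y (hle hy)

theorem ts_plane (hG : Good Q) (hd : 9 ≤ finrank F V) {Y : Subgroup (V ≃ₗ[F] V)} (h : TrP Q Y) {W : Submodule F V}
    (hW : Iv Y W) (h1 : W ≠ ⊤) : Ts Q W := fun x hx => by_contra fun hx0 => by
  have hQ := hG.nondeg
  obtain ⟨b, hb⟩ := exists_pair hG hx0
  have hP := an_span hb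
  have h2 : W ⊔ Submodule.span F {x, b} ≠ ⊤ := fun e => by
    have h3 := Submodule.finrank_sup_add_finrank_inf_eq W (Submodule.span F {x, b})
    rw [e, finrank_top, hP.1] at h3
    have h4 := finrank_add_perp hQ W
    obtain ⟨P', hP', h5⟩ := an_perp hQ (perp Q W) (by omega)
    rw [perp_perp hQ] at h5
    exact h1 (plane_top hG h hW hP' h5)
  obtain ⟨u, hu, hu0⟩ := (Submodule.ne_bot_iff _).1 (perp_ne_bot hQ h2)
  have h3 := finrank_add_perp hQ (Submodule.span F {x, b})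
  rw [hP.1] at h3
  have hN := nondeg_perp hQ (nondeg_of_aniso hP.1 hP.2)
  obtain ⟨e, f, hef⟩ := (good_of_finite hN (by omega)).exists_hyp
  obtain ⟨z, hz, hzu⟩ := exists_sing_polar_one hN hef (v := ⟨u, perp_anti le_sup_right hu⟩)
    fun e1 => hu0 (congrArg Subtype.val e1)
  have hz' : Q z = 0 := hz
  have hzu' : polar Q z u = 1 := hzu
  have hxz : polar Q x z = 0 := z.2 x (left_mem x b)
  have hbz : polar Q b z = 0 := z.2 b (right_mem x b)
  have hb' : Aniso Q (x + z) b := aniso_of_gram hb (by rw [Q_add, hz', hxz, add_zero, add_zero]) rfl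
    (by rw [polar_add_left, polar_comm Q z b, hbz, add_zero])
  obtain ⟨g, hg, e1⟩ := h _ _ hP (an_span hb')
  obtain ⟨s, t, e2⟩ := Submodule.mem_span_pair.1 (e1 ▸ ⟨x, left_mem x b, rfl⟩ : g x ∈ Submodule.span F {x + z, b})
  have h4 : g x ∈ W := hW g hg x hx
  have h5 : polar Q (g x) u = 0 := hu _ (Submodule.mem_sup_left h4)
  rw [← e2, polar_add_left, polar_smul_left, polar_smul_left, polar_add_left, hzu',
    hu x (Submodule.mem_sup_left hx), hu b (Submodule.mem_sup_right (right_mem x b)), zero_add, smul_zero, add_zero,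
    smul_eq_mul, mul_one] at h5
  rw [h5, zero_smul, zero_add] at e2
  have ht : t ≠ 0 := by
    rintro rfl
    rw [zero_smul] at e2
    exact ne_zero_of hx0 (g.map_eq_zero_iff.1 e2.symm)
  refine h1 (plane_top hG h hW hP (Submodule.span_le.2 ?_))
  rintro _ (rfl | rfl)
  · exact hx
  · exact (W.smul_mem_iff ht).1 (e2 ▸ h4)

end PlG

/-- **[WS]** -/
theorem boxWS : BoxWS := fun F V _ _ _ _ _ Q m hP Y W hY hT hW h0 h1 => by
  have h2 := hP.dim
  have h3 := hP.five
  have hQ := hP.good.nondeg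
  have key : ∀ U : Submodule F V, Iv Y U → U ≠ ⊥ → U ≠ ⊤ → Ts Q U := fun U hU h4 h5 => by
    rcases hT with ⟨c, -, hc⟩ | hc
    · exact PlG.ts_sphere hP.good h2 hY hc hU h4 h5
    · exact PlG.ts_plane hP.good (by omega) hc hU h5
  have h4 := key W hW h0 h1
  have h5 := PlG.ts_le (key _ (PlG.iv_pp hY hW) (PlG.perp_ne_bot hQ h1) (PlG.perp_ne_top hQ h0))
  rw [perp_perp hQ] at h5
  have h6 := Submodule.finrank_mono h5
  have h7 := Submodule.finrank_mono (PlG.ts_le h4)
  have h8 := finrank_add_perp hQ W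
  exact ⟨h4, by omega⟩

theorem boxWS_of (_ : BoxPl) : BoxWS := boxWS

end Cfsg.Agent.SM.Op
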