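import Cfsg.Agent.SM.Op.Rho
import Cfsg.Agent.SM.CSf.Eig
import Cfsg.Agent.ClassificationK.SymplecticExpFour

/-!
# SM / Op: `boxXs` (helper38)

The sphere lies in the union of the eigenspaces of the non-central involutions of the extraspecial group.
-/

set_option autoImplicit false
set_option linter.unusedSectionVars false

namespace Cfsg.Agent.SM.Op

open Module QuadraticMap Cfsg Cfsg.Geo
open Cfsg.Agent.LieClassical.OrthCore Cfsg.Agent.LieClassical.OrthTrans Cfsg.Agent.LieClassical.OrthFinite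
open Cfsg.Agent.H955 (IsPlus perp res mem_perp mem_perp')
open Cfsg.Agent.SM.CS.Ff
open scoped MatrixGroups Matrix commutatorElement

namespace R9

/-- a group of order more than eight whose squares are `1` or the central involution `z` has another involution -/
theorem exists_inv {R : Type*} [Group R] [Finite R] {z : R} (hz1 : z ≠ 1) (hzz : z * z = 1) (hzc : ∀ x, z * x = x * z)
    (hsq : ∀ x : R, x ^ 2 = 1 ∨ x ^ 2 = z) (h8 : 8 < Nat.card R) : ∃ x : R, x * x = 1 ∧ x ≠ 1 ∧ x ≠ z := by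
  classical
  by_contra hc
  push Not at hc
  have := Fintype.ofFinite R
  have h1 : ∀ x : R, x ≠ 1 → x ≠ z → x * x = z := fun x h1 h2 => by
    rcases hsq x with h | h
    · exact absurd (hc x (by rw [← pow_two, h]) h1) h2
    · rw [← pow_two, h]
  have anti : ∀ x y : R, x ≠ 1 → x ≠ z → y ≠ 1 → y ≠ z → y ≠ x⁻¹ → y ≠ x⁻¹ * z → y * x = x * y * z := by
    intro x y h2 h3 h4 h5 h6 h7
    have e1 := h1 x h2 h3
    have e2 := h1 y h4 h5
    have e3 := h1 (x * y) (fun e => h6 (eq_inv_of_mul_eq_one_right e)) (fun e => h7 (by rw [← e]; group))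
    have e4 : y * x * y = x := by
      apply mul_left_cancel (a := x)
      rw [e1, ← e3]
      group
    calc y * x = y * x * (z * z) := by rw [hzz, mul_one]
      _ = y * x * (y * y * z) := by rw [e2]
      _ = y * x * y * y * z := by group
      _ = x * y * z := by rw [e4]
  have pick : ∀ l : List R, l.length ≤ 8 → ∃ x, x ∉ l := fun l hl => by
    obtain ⟨x, -, hx⟩ := Finset.exists_mem_notMem_of_card_lt_card (s := l.toFinset) (t := Finset.univ) (by
      have := List.toFinset_card_le l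
      rw [Finset.card_univ, ← Nat.card_eq_fintype_card]
      omega)
    exact ⟨x, fun h => hx (List.mem_toFinset.2 h)⟩
  obtain ⟨x, hx⟩ := pick [1, z] (by simp)
  obtain ⟨y, hy⟩ := pick [1, z, x⁻¹, x⁻¹ * z] (by simp)
  obtain ⟨w, hw⟩ := pick [1, z, x⁻¹, x⁻¹ * z, y⁻¹, y⁻¹ * z, y⁻¹ * x⁻¹, y⁻¹ * (x⁻¹ * z)] (by simp)
  simp only [List.mem_cons, List.not_mem_nil, or_false, not_or] at hx hy hw
  obtain ⟨x1, x2⟩ := hx
  obtain ⟨y1, y2, y3, y4⟩ := hy
  obtain ⟨w1, w2, w3, w4, w5, w6, w7, w8⟩ := hw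
  have a1 := anti x y x1 x2 y1 y2 y3 y4
  have a2 := anti x w x1 x2 w1 w2 w3 w4
  have a3 := anti x (y * w) x1 x2 (fun e => w5 (eq_inv_of_mul_eq_one_right e)) (fun e => w6 (by rw [← e]; group))
    (fun e => w7 (by rw [← e]; group)) (fun e => w8 (by rw [← e]; group))
  have a4 : y * w * x = x * (y * w) := by
    calc y * w * x = y * (w * x) := by group
      _ = y * x * (w * z) := by rw [a2]; group
      _ = x * y * (z * w) * z := by rw [a1]; group
      _ = x * y * w * (z * z) := by rw [hzc]; group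
      _ = x * (y * w) := by rw [hzz]; group
  rw [a4] at a3
  exact hz1 (mul_eq_left.1 a3.symm)

theorem ncard_le_of_cover {α β : Type*} [Finite α] [Finite β] (S : Set β) (f : α → Set β) (n : ℕ)
    (h : ∀ w ∈ S, ∃ a, w ∈ f a ∧ (f a).ncard ≤ n) : S.ncard ≤ Nat.card α * n := by
  classical
  have := Fintype.ofFinite α
  have := Fintype.ofFinite β
  have h1 : S.toFinset ⊆ (Finset.univ.filter fun a => (f a).ncard ≤ n).biUnion fun a => (f a).toFinset := by
    intro w hw
    obtain ⟨a, h1, h2⟩ := h w (Set.mem_toFinset.1 hw)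
    exact Finset.mem_biUnion.2 ⟨a, Finset.mem_filter.2 ⟨Finset.mem_univ a, h2⟩, Set.mem_toFinset.2 h1⟩
  have h2 := Finset.card_biUnion_le_card_mul (Finset.univ.filter fun a => (f a).ncard ≤ n) (fun a => (f a).toFinset) n
    fun a ha => by
      rw [← Set.ncard_eq_toFinset_card']
      exact (Finset.mem_filter.1 ha).2
  rw [Set.ncard_eq_toFinset_card', Nat.card_eq_fintype_card]
  exact ((Finset.card_le_card h1).trans h2).trans (Nat.mul_le_mul_right n (Finset.card_le_univ _))

theorem num (m : ℕ) (hm : 8 ≤ m) : 8 * m ^ 2 < 3 ^ (m - 1) := by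
  induction m, hm using Nat.le_induction with
  | base => norm_num
  | succ k hk ih =>
    obtain ⟨j, rfl⟩ : ∃ j, k = j + 1 := ⟨k - 1, by omega⟩
    rw [Nat.add_sub_cancel] at ih ⊢
    rw [pow_succ 3 j]
    nlinarith

end R9

open R9

theorem boxXs : BoxXs := by
  intro ι F _ _ _ _ Q m h Y c hY hc htr ⟨r, a, R, hRY, hN, _, hR, hch, _, hcard, hZ, hcase⟩
  classical
  have h5 := h.five
  have hQ := h.good.nondeg
  have hn : Fintype.card ι = 2 * m := by rw [← h.dim, finrank_fintype_fun_eq_card]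
  have hiso : ∀ g ∈ mx Y, glEquiv ι F g ∈ O Q := fun g hg => hY hg
  obtain ⟨v0, hv0⟩ := exists_norm h.good c
  have hpm : ∀ z : R, z ∈ Subgroup.center R → (z : GL ι F) = 1 ∨ (z : GL ι F) = -1 := by
    intro z hz
    rw [hZ] at hz
    obtain ⟨d, hd⟩ := (mem_scalars_iff (z : GL ι F)).1 hz
    have h1 := mem_O.1 (hiso z (hRY z.2)) v0
    rw [glEquiv_apply, hd, Matrix.smul_mulVec, Matrix.one_mulVec, QuadraticMap.map_smul, hv0, smul_eq_mul] at h1
    have h2 : (d : F) * d = 1 := mul_right_cancel₀ hc (by rw [h1, one_mul])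
    rcases mul_self_eq_one_iff.1 h2 with h3 | h3
    · exact Or.inl (Units.ext (by rw [hd, h3, one_smul, Units.val_one]))
    · exact Or.inr (Units.ext (by rw [hd, h3, Units.val_neg, Units.val_one, neg_smul, one_smul]))
  have hZ2 : Nat.card (Subgroup.center R) ≤ 2 := by
    have h1 := Nat.card_le_card_of_injective (fun z : Subgroup.center R => ((z : R) : GL ι F) = 1) (by
      intro z z' e
      have e' : ((z : R) : GL ι F) = 1 ↔ ((z' : R) : GL ι F) = 1 := iff_of_eq e
      refine Subtype.ext (Subtype.ext ?_)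
      by_cases h0 : ((z : R) : GL ι F) = 1
      · rw [h0, e'.1 h0]
      · rw [(hpm z z.2).resolve_left h0, (hpm z' z'.2).resolve_left fun h1 => h0 (e'.2 h1)])
    rwa [Nat.card_eq_fintype_card (α := Prop), Fintype.card_prop] at h1
  rcases hcase with ⟨h1, h2, -⟩ | ⟨-, h2, -⟩ | ⟨rfl, h2, hRc⟩
  · have h3 := hR.prime.two_le
    obtain ⟨k, hk⟩ := h1
    omega
  · omega
  have h2F : (2 : F) ≠ 0 := Ring.two_ne_zero hch
  have ha4 : 4 ≤ a := by
    by_contra h3
    have := Nat.pow_le_pow_right (n := 2) (by norm_num) (show a ≤ 3 by omega)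
    omega
  have hm8 : 8 ≤ m := by
    have := Nat.pow_le_pow_right (n := 2) (by norm_num) ha4
    omega
  have hRc' : Nat.card R = 8 * m ^ 2 := by
    rw [hRc, pow_add, pow_mul', ← hcard, hn]
    ring
  obtain ⟨⟨z, hzc⟩, hzo⟩ := exists_prime_orderOf_dvd_card' (G := Subgroup.center R) 2 (by rw [h2])
  have hzo' : orderOf z = 2 := by rw [← hzo]; exact (Subgroup.orderOf_mk z hzc).symm
  have hz1 : z ≠ 1 := by
    rintro rfl
    rw [orderOf_one] at hzo'
    exact absurd hzo' (by norm_num)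
  have hzz : z * z = 1 := by rw [← pow_two, ← hzo', pow_orderOf_eq_one]
  have hzm : (z : GL ι F) = -1 := (hpm z hzc).resolve_left fun e => hz1 (Subtype.ext e)
  have hexp : Monoid.exponent R = 4 := by rw [hR.exponent_eq]; norm_num
  obtain ⟨hc1, hc2, hc3⟩ := ClassificationK.SymplecticExpFour.structure_exp_four
    ⟨hR.pGroup, hR.cyclic_of_characteristic⟩ (fun q => by rw [← hexp]; exact Monoid.pow_exponent_eq_one q) hzo' hzc
  obtain ⟨x, hxx, hx1, hxz⟩ := exists_inv hz1 hzz (fun x => (Subgroup.mem_center_iff.1 hzc x).symm) hc2 (by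
    rw [hRc']; nlinarith)
  obtain ⟨g, hg⟩ : ∃ g : R, g * x ≠ x * g := by
    by_contra h3
    push Not at h3
    exact (hc3 x (Subgroup.mem_center_iff.2 h3) (by rw [pow_two, hxx])).elim hx1 hxz
  have hgx : (g : GL ι F) * x * (g : GL ι F)⁻¹ = -(x : GL ι F) := by
    have h3 := (hc1 g x).resolve_left fun e => hg (commutatorElement_eq_one_iff_mul_comm.1 e)
    have h4 : (g : GL ι F) * x * (g : GL ι F)⁻¹ * (x : GL ι F)⁻¹ = -1 := by
      rw [← hzm, ← h3]
      rfl
    rw [mul_inv_eq_iff_eq_mul] at h4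
    rw [h4, neg_one_mul]
  have hxx' : (x : GL ι F) * x = 1 := congrArg Subtype.val hxx
  have hconj : ∀ g : GL ι F, finrank F (eig (g * (x : GL ι F) * g⁻¹) (1 : F)) = finrank F (eig (x : GL ι F) 1) := fun g =>
    finrank_conj (isConj_iff.2 ⟨g, rfl⟩).symm 1
  have hdim : finrank F (eig (x : GL ι F) 1) = m := by
    have h3 := finrank_eig h2F hxx'
    have h4 := hconj g
    have h6 : eig (-(x : GL ι F)) 1 = eig (x : GL ι F) (-1) := by
      ext w
      rw [mem_eig, mem_eig, neg_act, one_smul, neg_one_smul, neg_eq_iff_eq_neg]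
    rw [hgx, h6] at h4
    omega
  have hxO := hiso x (hRY x.2)
  have hnd : Nondeg (res Q (eig (x : GL ι F) 1)) := H955.nondeg_res_iff.2 fun w hw hw' => hQ w fun y => by
    have h3 := hw' _ (add_mem_eig hxx' (mul_one 1) y)
    have h4 := polar_map hxO w y
    rw [glEquiv_apply, glEquiv_apply, mem_eig.1 hw, one_smul] at h4
    rw [one_smul, polar_add_right, h4, ← two_mul] at h3
    exact (mul_eq_zero.1 h3).resolve_left h2F
  obtain ⟨⟨v, hv⟩, hvc⟩ := exists_norm (good_of_finite hnd (by omega)) c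
  have hvc' : Q v = c := hvc
  have hle := ncard_le_of_cover {w | Q w = c} (fun y : R => (eig (y : GL ι F) 1 : Set (ι → F))) (Nat.card F ^ m) (by
    intro w hw
    obtain ⟨k, hk, e⟩ := htr v w hvc' hw
    have hk' : (glEquiv ι F).symm k ∈ mx Y := by
      show glEquiv ι F ((glEquiv ι F).symm k) ∈ Y
      rwa [MulEquiv.apply_symm_apply]
    have hkv : k v ∈ eig ((glEquiv ι F).symm k * (x : GL ι F) * ((glEquiv ι F).symm k)⁻¹) (1 : F) := by
      have h3 : k v = (((glEquiv ι F).symm k : GL ι F) : Matrix ι ι F) *ᵥ v := by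
        rw [← glEquiv_apply, MulEquiv.apply_symm_apply]
      rw [mem_eig, h3, ← mul_act, inv_mul_cancel_right, mul_act, mem_eig.1 hv, one_smul, one_smul]
    refine ⟨⟨_, hN _ hk' x x.2⟩, ?_, ?_⟩
    · rcases e with e | e
      · exact e ▸ hkv
      · rw [e] at hkv
        exact neg_mem_iff.1 hkv
    · rw [← Nat.card_coe_set_eq]
      have h3 := Module.natCard_eq_pow_finrank (K := F)
        (V := eig ((glEquiv ι F).symm k * (x : GL ι F) * ((glEquiv ι F).symm k)⁻¹) (1 : F))
      rw [hconj, hdim] at h3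
      exact h3.le)
  obtain ⟨j, rfl⟩ : ∃ j, m = j + 1 := ⟨m - 1, by omega⟩
  have hS := SM.CS.Ix.card_norm_plus' hQ h.dim h.plus hc
  have hS' : {w | Q w = c}.ncard = Nat.card {w // Q w = c} := rfl
  have hq : 3 ≤ Nat.card F := by
    have h3 : 1 < Nat.card F := Finite.one_lt_card
    have h4 := FiniteField.odd_card_of_char_ne_two hch
    rw [← Nat.card_eq_fintype_card] at h4
    omega
  rw [hS', hS, hRc', pow_succ (Nat.card F) j, mul_comm (8 * (j + 1) ^ 2), mul_assoc] at hle
  have h3 := Nat.le_of_mul_le_mul_left hle (by positivity)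
  have h4 := num (j + 1) hm8
  rw [Nat.add_sub_cancel] at h4
  have h6 := h4.trans_le (Nat.pow_le_pow_left hq j)
  have h7 := Nat.mul_le_mul_left (Nat.card F) (Nat.succ_le_of_lt h6)
  rw [Nat.mul_succ, mul_comm (Nat.card F) (Nat.card F ^ j)] at h7
  omega

end Cfsg.Agent.SM.Op
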