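import Cfsg.Agent.SM.Op.Red
import Cfsg.Agent.SM.Op.Cs

/-!
# SM / Op: case I, `H` fixes a non-singular point (helper57)
-/

set_option autoImplicit false
set_option linter.unusedSectionVars false

namespace Cfsg.Agent.SM.Op

open Module QuadraticMap Cfsg Cfsg.Geo Subgroup
open Cfsg.Agent.LieClassical.OrthCore Cfsg.Agent.LieClassical.OrthTrans Cfsg.Agent.ClassicalGeometry.OrthSemi
open Cfsg.Agent.H449.Reg (img lg mem_img img_mul img_one img_mono finrank_img img_eq_of_Psi img_lg AExt)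
open Cfsg.Agent.H826.Rg (lgH Sg)
open Cfsg.Agent.H826.RgF (Iv Rd El)
open Cfsg.Agent.H955 (IsPlus perp res mem_perp mem_perp')
open Cfsg.Agent.H884.El (PP)
open scoped MatrixGroups

/-- the boxes of the frame level -/
structure Bx : Prop where
  pl : BoxPl
  ws : BoxWS
  j : BoxJ
  k : BoxK
  hf : BoxHf
  sieg : BoxSieg
  tri : BoxTri
  tau : BoxTau
  rho : BoxRho
  asc : BoxAsc
  dec : BoxDec
  xs : BoxXs
  t62 : BoxT62
  c5 : BoxC 5
  c6 : BoxC 6
  cs1 : CS.CS1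
  cs2 : CS.CS2

section lin

variable {F V : Type} [Field F] [Fintype F] [AddCommGroup V] [Module F V] [FiniteDimensional F V] {Q : QuadraticForm F V}
  {m r : ℕ} {M H T B X : Subgroup (Au Q)} {Y N : Subgroup (V ≃ₗ[F] V)} {W W' : Submodule F V}

/-- conjugation as a homomorphism -/
def cjH (γ : Gam Q) : (V ≃ₗ[F] V) →* (V ≃ₗ[F] V) where
  toFun := conjLin γ
  map_one' := conjLin_one γ
  map_mul' := conjLin_mul γ

theorem order_conj (γ : Gam Q) (g : V ≃ₗ[F] V) : orderOf (conjLin γ g) = orderOf g :=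
  orderOf_injective (cjH γ) (Function.LeftInverse.injective (g := conjLin γ⁻¹) fun x => by
    show conjLin γ⁻¹ (conjLin γ x) = x
    rw [← conjLin_mul_left, inv_mul_cancel, conjLin_one_left]) g

theorem gn_le : Gn Y r ≤ Y := (closure_le _).2 fun _ h => h.1

theorem conj_gn {γ : Gam Q} (h : ∀ n ∈ Y, conjLin γ n ∈ Y) : ∀ n ∈ Gn Y r, conjLin γ n ∈ Gn Y r :=
  show Gn Y r ≤ (Gn Y r).comap (cjH γ) from (closure_le _).2 fun g hg =>
    subset_closure ⟨h g hg.1, (order_conj γ g).trans hg.2⟩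

/-- the common fixed space -/
def fixS (N : Subgroup (V ≃ₗ[F] V)) : Submodule F V where
  carrier := {x | ∀ n ∈ N, n x = x}
  add_mem' ha hb n hn := by rw [map_add, ha n hn, hb n hn]
  zero_mem' n _ := map_zero n
  smul_mem' c x hx n hn := by rw [map_smul, hx n hn]

theorem dim_gn (hp : Pl Q m) (hY : Y ≤ O Q) (hr : PP (Nat.card F) m r) (hx : El Y r) {G : Subgroup (Gam Q)}
    (hi : ∀ W : Submodule F V, (∀ g ∈ G, img g W = W) → W = ⊥ ∨ W = ⊤) (hn : ∀ g ∈ G, ∀ n ∈ Gn Y r, conjLin g n ∈ Gn Y r)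
    (hW : Iv (Gn Y r) W) (h0 : W ≠ ⊥) (h1 : W ≠ ⊤) : finrank F W = m := by
  have h5 := hp.five
  have h2 : fixS (Gn Y r) = ⊥ := by
    refine (hi _ fun g hg => img_eq_of_le ?_).resolve_right fun k => ?_
    · rintro _ ⟨x, hx, rfl⟩ n hn'
      have h3 : g.1⁻¹ (n (g.1 x)) = x := hx _ (hn g⁻¹ (G.inv_mem hg) n hn')
      conv_rhs => rw [← h3]
      exact (apply_inv _ _).symm
    · obtain ⟨x, hx, ho⟩ := hx
      have h3 : x = 1 := LinearEquiv.ext fun v => (k.ge Submodule.mem_top : v ∈ fixS _) x (subset_closure ⟨hx, ho⟩)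
      rw [h3, orderOf_one] at ho
      exact hr.prime.ne_one ho.symm
  have h3 : ∀ U : Submodule F V, Iv (Gn Y r) U → U ≠ ⊥ → m ≤ finrank F U := fun U hU u0 => by
    by_contra k
    refine u0 (eq_bot_iff.2 (h2 ▸ fun x hx => ?_))
    exact show Gn Y r ≤ MulAction.stabilizer _ x from (closure_le _).2 fun g hg =>
      H826.RgF.fix_pow hr (by omega) (not_le.1 k) 1 g (hU g (subset_closure hg)) (by rw [pow_one, ← hg.2, pow_orderOf_eq_one]) x hx
  have h4 := h3 W hW h0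
  have h6 := h3 _ (H826.RgF.iv_perp (gn_le.trans hY) hW) fun k => h1 (by
    rw [← H955.perp_perp hp.good.nondeg W, k, H955.perp_bot])
  have h7 := H955.finrank_add_perp hp.good.nondeg W
  rw [hp.dim] at h7
  omega

theorem mem_orb {D : Subalgebra F (Module.End F V)} {v x : V} : x ∈ orb D v ↔ ∃ d ∈ D, d v = x := Iff.rfl

/-- `q = 2`: `Ω` has index two in the isometry group -/
theorem mem_or_two (hG : Good Q) (hq : Nat.card F = 2) {v : V} (hv : Q v ≠ 0) {g : V ≃ₗ[F] V} (hg : g ∈ O Q) :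
    g ∈ E Q ∨ g * refl Q v hv ∈ E Q := by
  have h1 := refl_mul_self hv
  have h2 := refl_inv hv
  have h3 := refl_mem_O hv
  rw [O_eq_closure hG.nondeg] at hg
  induction hg using Subgroup.closure_induction with
  | mem x hx =>
    rcases hx with ⟨a, ha, rfl⟩ | hx
    · exact Or.inr (hG.refl_mul_refl_mem hv ha ((eq_one_of_two hq hv).trans (eq_one_of_two hq ha).symm))
    · exact Or.inl (subset_closure hx)
  | one => exact Or.inl (one_mem _)
  | mul x y _ _ hx hy =>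
    rcases hx with hx | hx <;> rcases hy with hy | hy
    · exact Or.inl (mul_mem hx hy)
    · exact Or.inr (by rw [mul_assoc]; exact mul_mem hx hy)
    · refine Or.inr ?_
      have := mul_mem hx (conj_mem_E h3 hy)
      rwa [h2, ← mul_assoc, ← mul_assoc, mul_assoc x, h1, mul_one] at this
    · refine Or.inl ?_
      have := mul_mem hx (conj_mem_E h3 hy)
      rwa [← mul_assoc (refl Q v hv), mul_inv_cancel_right, ← mul_assoc, mul_assoc x, h1, mul_one] at this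
  | inv x _ hx =>
    rcases hx with hx | hx
    · exact Or.inl (inv_mem hx)
    · refine Or.inr ?_
      have := conj_mem_E h3 (inv_mem hx)
      rwa [mul_inv_rev, mul_inv_cancel_left, h2] at this

namespace Fr

variable (f : Fr Q m M H T B)
include f

/-- no small algebra is normalised by `B` -/
theorem no_small (hS : BoxSieg) {v : V} (hv : Q v ≠ 0) (hH : Fx H (F ∙ v)) {D : Subalgebra F (Module.End F V)}
    (hD : Small m v D) (hn : ∀ γ : Gam Q, Psi Q γ ∈ B → Nm γ.1 D) : False := by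
  obtain ⟨s1, s2⟩ := hS F V Q m f.toPl v hv
  have h1 : v ∈ orb D v := ⟨1, D.one_mem, rfl⟩
  have h2 : Fx (H ⊓ B) (orb D v) := fun γ hγ => img_eq_of_le (by
    rintro _ ⟨_, ⟨d, hd, rfl⟩, rfl⟩
    obtain ⟨d', hd', e⟩ := hn γ hγ.2 d hd
    obtain ⟨a, ha⟩ := fix_of_img (hH γ hγ.1)
    have e' : γ.1 (d v) = a • d' v := by rw [← e, ha, map_smul]
    exact e'.symm ▸ Submodule.smul_mem _ a (mem_orb.2 ⟨d', hd', rfl⟩))
  have h3 : orb D v ≠ F ∙ v := fun k => hD.ne (eq_bot_iff.2 fun d hd => by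
    obtain ⟨a, ha⟩ := Submodule.mem_span_singleton.1 (k.le (mem_orb.2 ⟨d, hd, rfl⟩))
    have h4 := hD.inj (d - algebraMap F _ a) (D.sub_mem hd (D.algebraMap_mem a)) (by
      rw [LinearMap.sub_apply, Module.algebraMap_end_apply, ha, sub_self])
    exact Algebra.mem_bot.2 ⟨a, (sub_eq_zero.1 h4).symm⟩)
  have h4 : finrank F (orb D v) ≤ finrank F D := (Submodule.finrank_map_le _ _).trans (Subalgebra.finrank_toSubmodule D).le
  have h5 := s1 _ h1 h3 (by have := hD.dim; omega)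
  refine s2 D hD fun u w hu hw h6 h7 => hn (lg ⟨_, siegel_mem_E hu hw⟩) (mem_l0'.1 (f.memA h2
    (fun k => h5 fun g hg => k g (f.Sg_le_H hv hH hg)) (f.Sg_le_H hv hH (H826.Rg.siegel_mem_Sg hu hw
      (mem_perp'.1 h6 v h1) (mem_perp'.1 h7 v h1))) fun x hx => ?_))
  exact (siegel_fix hu hw (mem_perp'.1 h6 x hx) (mem_perp'.1 h7 x hx)).symm ▸ hx

/-- `q = 2`: `M` is the socle -/
theorem lin_two (hq : Nat.card F = 2) {v : V} (hv : Q v ≠ 0) (hH : Fx H (F ∙ v)) {γ : Gam Q} (hγ : Psi Q γ ∈ M) :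
    ∃ g : ↥(E Q), lg g = γ := by
  obtain ⟨σ, c, h⟩ := γ.2
  obtain rfl : c = 1 := eq_one_of_two hq h.ne
  obtain rfl : σ = RingEquiv.refl F := RingEquiv.ext fun a => by
    by_cases k : a = 0
    · rw [k, map_zero, map_zero]
    · rw [eq_one_of_two hq k, map_one, map_one]
  rcases mem_or_two f.good hq hv (H826.Rg.toL_mem γ h) with k | k
  · exact ⟨⟨_, k⟩, rfl⟩
  · have h1 : og _ (refl_mem_O hv) = γ⁻¹ * lg ⟨_, k⟩ := Subtype.ext (Equiv.ext fun x => (inv_apply γ.1 _).symm)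
    have h2 := f.cen (f.T_le_Sg hv hH) (γ := og _ (refl_mem_O hv)) (by
      rw [h1, map_mul, map_inv]
      exact mul_mem (inv_mem hγ) (f.psM _)) fun n hn => ⟨1, fun x => by
      have h3 := H826.Rg.Sg_le_St v hn
      rw [og_apply, og_apply, one_smul, refl_apply, refl_apply, map_sub, map_smul, h3.2]
      conv_lhs => rw [← h3.2, polar_map h3.1, h3.2]⟩
    obtain ⟨a, a0, ha⟩ := (psi_eq_one_iff f.good).1 h2
    have v0 : v ≠ 0 := fun e => hv (by rw [e, map_zero])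
    obtain ⟨x, hx⟩ := f.good.nondeg.exists_polar_eq v0 1
    have h4 := ha x
    rw [og_apply, refl_apply, hx, eq_one_of_two hq a0, one_smul, mul_one, sub_eq_self, smul_eq_zero, inv_eq_zero] at h4
    exact (h4.elim hv v0).elim

end Fr

end lin

variable {ι F : Type} [Fintype ι] [DecidableEq ι] [Field F] [Fintype F] {Q : QuadraticForm F (ι → F)} {m : ℕ}
  {M H T B : Subgroup (Au Q)}

/-- **case I** -/
theorem Fr.one (f : Fr Q m M H T B) (b : Bx) {v : ι → F} (hv : Q v ≠ 0) (hH : Fx H (F ∙ v)) :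
    (∃ W, RE Q m H B v W) ∨
      (Nat.card F = 2 ∧ m = 12 ∧ ∃ P, IsResidualCore (mx (l0 B)) P ∧ Spor.IsoCo1 (H915.LD.Soc P)) := by
  have ht : TrS Q (l0 B) (Q v) := f.pd.symm.trS f.good hv (hH.mono f.TH).iv
  have hT : Tr Q (l0 B) := Or.inl ⟨_, hv, ht⟩
  by_cases hr : ∃ W, W ≠ ⊥ ∧ W ≠ ⊤ ∧ Fx B W
  · obtain ⟨W, h0, h1, hW⟩ := hr
    obtain ⟨h2, h3⟩ := b.ws F _ Q m f.toPl _ W l0_le_O hT hW.iv h0 h1
    exact Or.inl ⟨W, hv, hH, h2, h3, hW⟩
  refine Or.inr ?_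
  have hres : InOrthogonalResidualClass (mx (l0 B)) →
      Nat.card F = 2 ∧ m = 12 ∧ ∃ P, IsResidualCore (mx (l0 B)) P ∧ Spor.IsoCo1 (H915.LD.Soc P) := by
    rintro ⟨P, hP, -⟩
    have h5 := f.five
    rcases (by omega : m = 5 ∨ m = 6 ∨ 7 ≤ m) with h | h | h
    · exact (b.c5 ι F Q m f.toPl h _ P l0_le_E f.pd.neY hT hP).elim
    · exact (b.c6 ι F Q m f.toPl h _ P l0_le_E f.pd.neY hT hP).elim
    · obtain ⟨h1, h2, h3⟩ := f.cs2 b.cs2 h hv hH hP
      exact ⟨h1, h2, P, hP, h3⟩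
  by_cases h26 : Nat.card F = 2 ∧ m = 6
  · have h1 : ∀ γ : Gam Q, Psi Q γ ∈ B → ∃ g : ↥(E Q), g.1 ∈ l0 B ∧ lg g = γ := fun γ hγ => by
      obtain ⟨g, rfl⟩ := f.lin_two h26.1 hv hH (f.fac.bm.le hγ)
      exact ⟨g, mem_l0'.2 hγ, rfl⟩
    rcases b.t62 ι F Q m f.toPl h26.1 h26.2 _ v l0_le_E hv ht (fun ⟨W, h2, h3, h4⟩ => hr ⟨W, h2, h3, fun γ hγ => by
      obtain ⟨g, hg, rfl⟩ := h1 γ hγ
      exact (img_lg g W).trans (map_eq_of_mem (h4 _ hg))⟩) with h | h | ⟨D, hD, h⟩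
    · exact hres h
    · exact (b.dec ι F Q m f.toPl _ l0_le_O hT h).elim
    · refine (f.no_small b.sieg hv hH hD fun γ hγ => ?_).elim
      obtain ⟨g, hg, rfl⟩ := h1 γ hγ
      exact h _ hg
  obtain ⟨r, hr1, hr2, hr3⟩ := (b.rho F _ Q m f.toPl _ l0_le_O).1 _ hv ht h26
  by_cases ha : Ab (Gn (l0 B) r)
  · rcases b.asc ι F Q m f.toPl _ m r l0_le_E hr1 (by omega) hr2 ha with h | h | h | h
    · exact hres h
    · exact (b.tau F _ Q m f.toPl _ _ l0_le_O hv ht h).elim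
    · exact (b.dec ι F Q m f.toPl _ l0_le_O hT h).elim
    · exact (b.xs ι F Q m f.toPl _ _ l0_le_O hv ht h).elim
  have hi : ∀ W : Submodule F (ι → F), (∀ g ∈ B.comap (Psi Q), img g W = W) → W = ⊥ ∨ W = ⊤ := fun W hW => by
    by_contra k
    exact hr ⟨W, fun e => k (Or.inl e), fun e => k (Or.inr e), hW⟩
  have hn : ∀ g ∈ B.comap (Psi Q), ∀ n ∈ Gn (l0 B) r, conjLin g n ∈ Gn (l0 B) r := fun g hg =>
    conj_gn fun n hn => conj_l0_self hg hn
  obtain ⟨D, hD, h⟩ := b.tri F _ Q m f.toPl (B.comap (Psi Q)) _ v hv (fun x hx => by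
    obtain ⟨g, hg, e⟩ := ht v x rfl hx
    exact ⟨lg ⟨g, l0_le_E hg⟩, (mem_l0.1 hg).2, e⟩) hi hn (fun W hW => dim_gn f.toPl l0_le_O hr1 hr3 hi hn hW) ha
  exact (f.no_small b.sieg hv hH hD h).elim

end Cfsg.Agent.SM.Op
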