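import Cfsg.Agent.SM.Op.Defs
import Cfsg.Agent.H902.Cross

/-!
# SM/Op: transport lemmas for the rigidity boxes (helper35)

* `SS Q Q' σ c e` : `e` is a semisimilarity from `Q` to `Q'`; `SS.cj`, `SS.cE`, `SS.img`; `SS.ofGam`, `SS.ofO`, `ss_plus`;
* `rig_hom` : rigidity for two homomorphisms from one group; `card_of_stab` : the degree is the size of an orbit;
* `Pf.phi` : the homomorphism `Ω(Q) → Sym Ω` of a frame; `mem_of_fix` : maximality of a subgroup which fixes a subspace;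
* `same_real` : the order of a large group determines the shape and the field.
-/

set_option autoImplicit false
set_option linter.unusedSectionVars false

namespace Cfsg.Agent.SM.Op.Tr

open Module QuadraticMap Cfsg Subgroup Equiv
open Cfsg.Agent.LieClassical.OrthCore Cfsg.Agent.LieClassical.OrthTrans Cfsg.Agent.ClassicalGeometry.OrthSemi
open Cfsg.Agent.LieClassical.OrthForms (plusForm coe_plusForm quadFormPlus_apply)
open Cfsg.Agent.H449.Reg (lg img_eq_of_Psi img_mul img_one img_lg Psi_lg)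
open Cfsg.Agent.H826.Rg (lgH Sg siegel_mem_Sg)

section ss

variable {F V K U : Type} [Field F] [AddCommGroup V] [Module F V] [Field K] [AddCommGroup U] [Module K U]

/-- a semisimilarity between two quadratic spaces -/
structure SS (Q : QuadraticForm F V) (Q' : QuadraticForm K U) (σ : F ≃+* K) (c : K) (e : V ≃ U) : Prop where
  ne : c ≠ 0
  add : ∀ x y, e (x + y) = e x + e y
  smul : ∀ (a : F) (x : V), e (a • x) = σ a • e x
  form : ∀ x, Q' (e x) = c * σ (Q x)

variable {Q : QuadraticForm F V} {Q' : QuadraticForm K U} {σ : F ≃+* K} {c : K} {e : V ≃ U}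

theorem SS.sub (h : SS Q Q' σ c e) (x y : V) : e (x - y) = e x - e y := by
  rw [eq_sub_iff_add_eq, ← h.add, sub_add_cancel]

theorem SS.zero (h : SS Q Q' σ c e) : e 0 = 0 := by
  have := h.sub 0 0
  rwa [sub_self, sub_self] at this

theorem SS.polar (h : SS Q Q' σ c e) (x y : V) : polar Q' (e x) (e y) = c * σ (polar Q x y) := by
  rw [QuadraticMap.polar, QuadraticMap.polar, ← h.add, h.form, h.form, h.form, map_sub, map_sub]
  ring

theorem SS.symm (h : SS Q Q' σ c e) : SS Q' Q σ.symm (σ.symm c⁻¹) e.symm where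
  ne := (map_ne_zero _).2 (inv_ne_zero h.ne)
  add x y := e.injective (by rw [h.add, e.apply_symm_apply, e.apply_symm_apply, e.apply_symm_apply])
  smul a x := e.injective (by rw [h.smul, e.apply_symm_apply, e.apply_symm_apply, σ.apply_symm_apply])
  form x := σ.injective (by
    have h1 := h.form (e.symm x)
    rw [e.apply_symm_apply] at h1
    rw [map_mul, σ.apply_symm_apply, σ.apply_symm_apply, h1, inv_mul_cancel_left₀ h.ne])

theorem SS.form_ne (h : SS Q Q' σ c e) {v : V} (hv : Q v ≠ 0) : Q' (e v) ≠ 0 := by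
  rw [h.form]
  exact mul_ne_zero h.ne ((map_ne_zero _).2 hv)

/-- conjugation of one linear map -/
def SS.cj1 (h : SS Q Q' σ c e) (g : V ≃ₗ[F] V) : U ≃ₗ[K] U where
  toFun x := e (g (e.symm x))
  invFun x := e (g.symm (e.symm x))
  map_add' x y := by rw [h.symm.add, map_add, h.add]
  map_smul' a x := by
    rw [h.symm.smul, map_smul, h.smul, σ.apply_symm_apply]
    rfl
  left_inv x := by
    show e (g.symm (e.symm (e (g (e.symm x))))) = x
    rw [e.symm_apply_apply, g.symm_apply_apply, e.apply_symm_apply]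
  right_inv x := by
    show e (g (e.symm (e (g.symm (e.symm x))))) = x
    rw [e.symm_apply_apply, g.apply_symm_apply, e.apply_symm_apply]

/-- conjugation -/
def SS.cj (h : SS Q Q' σ c e) : (V ≃ₗ[F] V) ≃* (U ≃ₗ[K] U) where
  toFun := h.cj1
  invFun := h.symm.cj1
  left_inv g := LinearEquiv.ext fun x => by
    show e.symm (e (g (e.symm (e x)))) = g x
    rw [e.symm_apply_apply, e.symm_apply_apply]
  right_inv g := LinearEquiv.ext fun x => by
    show e (e.symm (g (e (e.symm x)))) = g x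
    rw [e.apply_symm_apply, e.apply_symm_apply]
  map_mul' g k := LinearEquiv.ext fun x => by
    show e (g (k (e.symm x))) = e (g (e.symm (e (k (e.symm x)))))
    rw [e.symm_apply_apply]

theorem SS.cj_apply (h : SS Q Q' σ c e) (g : V ≃ₗ[F] V) (x : V) : h.cj g (e x) = e (g x) := by
  show e (g (e.symm (e x))) = _
  rw [e.symm_apply_apply]

theorem SS.cj_symm (h : SS Q Q' σ c e) : h.cj.symm = h.symm.cj := rfl

theorem SS.cj_siegel (h : SS Q Q' σ c e) {u w : V} (hu : Q u = 0) (hw : QuadraticMap.polar Q u w = 0) :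
    ∃ (hu' : Q' (e u) = 0) (hw' : QuadraticMap.polar Q' (e u) (c⁻¹ • e w) = 0),
      h.cj (siegel Q u w hu hw) = siegel Q' (e u) (c⁻¹ • e w) hu' hw' := by
  have hu' : Q' (e u) = 0 := by rw [h.form, hu, map_zero, mul_zero]
  have hw' : QuadraticMap.polar Q' (e u) (c⁻¹ • e w) = 0 := by
    rw [polar_smul_right, h.polar, hw, map_zero, mul_zero, smul_zero]
  refine ⟨hu', hw', ?_⟩
  ext v
  obtain ⟨v, rfl⟩ := e.surjective v
  rw [h.cj_apply, siegel_apply, siegel_apply, h.sub, h.sub, h.add, h.smul, h.smul,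
    h.smul, QuadraticMap.map_smul, h.form, polar_smul_left, h.polar, h.polar, map_mul, smul_smul]
  have hc := h.ne
  have e1 : c * σ (QuadraticMap.polar Q u v) * c⁻¹ = σ (QuadraticMap.polar Q u v) := by field_simp
  have e2 : c⁻¹ • (c * σ (QuadraticMap.polar Q w v)) = σ (QuadraticMap.polar Q w v) := by
    rw [smul_eq_mul]; field_simp
  have e3 : (c⁻¹ * c⁻¹) • (c * σ (Q w)) * (c * σ (QuadraticMap.polar Q u v)) =
      σ (Q w) * σ (QuadraticMap.polar Q u v) := by
    rw [smul_eq_mul]; field_simp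
  rw [e1, e2, e3]

theorem SS.cj_E (h : SS Q Q' σ c e) {g : V ≃ₗ[F] V} (hg : g ∈ E Q) : h.cj g ∈ E Q' := by
  have h1 : E Q ≤ (E Q').comap h.cj.toMonoidHom := by
    refine (closure_le _).2 ?_
    rintro _ ⟨u, w, hu, hw, rfl⟩
    obtain ⟨hu', hw', k⟩ := h.cj_siegel hu hw
    show h.cj _ ∈ E Q'
    rw [k]
    exact siegel_mem_E hu' hw'
  exact h1 hg

theorem SS.cj_Sg (h : SS Q Q' σ c e) {v : V} {g : V ≃ₗ[F] V} (hg : g ∈ Sg Q v) : h.cj g ∈ Sg Q' (e v) := by
  have h1 : Sg Q v ≤ (Sg Q' (e v)).comap h.cj.toMonoidHom := by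
    refine H826.Rg.Sg_le fun u w hu hw h1 h2 => ?_
    obtain ⟨hu', hw', k⟩ := h.cj_siegel hu hw
    show h.cj _ ∈ Sg Q' (e v)
    rw [k]
    exact siegel_mem_Sg hu' hw' (by rw [h.polar, h1, map_zero, mul_zero])
      (by rw [polar_smul_left, h.polar, h2, map_zero, mul_zero, smul_zero])
  exact h1 hg

theorem SS.cj_Sg_iff (h : SS Q Q' σ c e) {v : V} {g : V ≃ₗ[F] V} : h.cj g ∈ Sg Q' (e v) ↔ g ∈ Sg Q v := by
  refine ⟨fun k => ?_, h.cj_Sg⟩
  have h1 := h.symm.cj_Sg k
  rwa [← h.cj_symm, h.cj.symm_apply_apply, e.symm_apply_apply] at h1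

/-- conjugation on `Ω` -/
def SS.cE (h : SS Q Q' σ c e) : ↥(E Q) ≃* ↥(E Q') where
  toFun g := ⟨h.cj g.1, h.cj_E g.2⟩
  invFun g := ⟨h.symm.cj g.1, h.symm.cj_E g.2⟩
  left_inv g := Subtype.ext (h.cj.symm_apply_apply g.1)
  right_inv g := Subtype.ext (h.cj.apply_symm_apply g.1)
  map_mul' g k := Subtype.ext (map_mul h.cj g.1 k.1)

theorem SS.coe_cE (h : SS Q Q' σ c e) (g : ↥(E Q)) : (h.cE g).1 = h.cj g.1 := rfl

/-- the image of a subspace -/
def SS.img (h : SS Q Q' σ c e) (W : Submodule F V) : Submodule K U where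
  carrier := {x | e.symm x ∈ W}
  add_mem' {x y} hx hy := by
    show e.symm (x + y) ∈ W
    rw [h.symm.add]
    exact W.add_mem hx hy
  zero_mem' := by
    show e.symm 0 ∈ W
    rw [h.symm.zero]
    exact W.zero_mem
  smul_mem' a x hx := by
    show e.symm (a • x) ∈ W
    rw [h.symm.smul]
    exact W.smul_mem _ hx

theorem SS.mem_img (h : SS Q Q' σ c e) {W : Submodule F V} {x : V} : e x ∈ h.img W ↔ x ∈ W := by
  show e.symm (e x) ∈ W ↔ _
  rw [e.symm_apply_apply]

theorem SS.img_inj (h : SS Q Q' σ c e) {W W' : Submodule F V} : h.img W = h.img W' ↔ W = W' :=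
  ⟨fun k => Submodule.ext fun x => by rw [← h.mem_img, k, h.mem_img], fun k => by rw [k]⟩

theorem SS.map_img (h : SS Q Q' σ c e) (W : Submodule F V) (g : V ≃ₗ[F] V) :
    (h.img W).map (h.cj g : U →ₗ[K] U) = h.img (W.map (g : V →ₗ[F] V)) := by
  ext x
  obtain ⟨x, rfl⟩ := e.surjective x
  obtain ⟨x, rfl⟩ := g.surjective x
  rw [h.mem_img, ← h.cj_apply, Submodule.mem_map_equiv, Submodule.mem_map_equiv, LinearEquiv.symm_apply_apply,
    LinearEquiv.symm_apply_apply, h.mem_img]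

theorem SS.img_span (h : SS Q Q' σ c e) (v : V) : h.img (F ∙ v) = K ∙ e v := by
  ext x
  obtain ⟨x, rfl⟩ := e.surjective x
  rw [h.mem_img, Submodule.mem_span_singleton, Submodule.mem_span_singleton]
  constructor
  · rintro ⟨a, rfl⟩
    exact ⟨σ a, (h.smul a v).symm⟩
  · rintro ⟨a, ha⟩
    exact ⟨σ.symm a, e.injective (by rw [h.smul, σ.apply_symm_apply, ha])⟩

theorem SS.ts (h : SS Q Q' σ c e) {W : Submodule F V} (hW : Ts Q W) : Ts Q' (h.img W) := fun x hx => by
  obtain ⟨x, rfl⟩ := e.surjective x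
  rw [h.form, hW x (h.mem_img.1 hx), map_zero, mul_zero]

theorem SS.finrank_img [Finite F] [FiniteDimensional F V] [FiniteDimensional K U] (h : SS Q Q' σ c e) (W : Submodule F V) :
    finrank K (h.img W) = finrank F W := by
  have h1 : Nat.card W = Nat.card (h.img W) := Nat.card_congr (e.subtypeEquiv fun x => h.mem_img.symm)
  have : Finite K := Finite.of_equiv F σ.toEquiv
  rw [Module.natCard_eq_pow_finrank (K := F) (V := W), Module.natCard_eq_pow_finrank (K := K) (V := h.img W),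
    Nat.card_congr σ.toEquiv] at h1
  exact (Nat.pow_right_injective Finite.one_lt_card h1).symm

/-! ### examples -/

theorem SS.ofGam {σ : F ≃+* F} {c : F} {γ : Gam Q} (h : IsSS Q σ c γ.1) : SS Q Q σ c γ.1 := ⟨h.ne, h.add, h.smul, h.form⟩

theorem SS.cj_gam {σ : F ≃+* F} {c : F} {γ : Gam Q} (h : SS Q Q σ c γ.1) (g : V ≃ₗ[F] V) : h.cj g = conjLin γ g := rfl

theorem SS.img_gam {σ : F ≃+* F} {c : F} {γ : Gam Q} (h : SS Q Q σ c γ.1) (W : Submodule F V) :
    h.img W = H449.Reg.img γ W := by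
  ext x
  obtain ⟨x, rfl⟩ := γ.1.surjective x
  rw [h.mem_img]
  exact ⟨fun k => ⟨x, k, rfl⟩, fun ⟨y, hy, k⟩ => γ.1.injective k ▸ hy⟩

theorem SS.ofO {g : V ≃ₗ[F] V} (hg : g ∈ O Q) : SS Q Q (RingEquiv.refl F) 1 g.toEquiv :=
  ⟨one_ne_zero, map_add g, map_smul g, fun x => by
    rw [one_mul]
    exact hg x⟩

theorem SS.cj_lin {c : F} {g : V ≃ₗ[F] V} (h : SS Q Q (RingEquiv.refl F) c g.toEquiv) (k : V ≃ₗ[F] V) :
    h.cj k = g * k * g⁻¹ := rfl

theorem SS.img_lin {c : F} {g : V ≃ₗ[F] V} (h : SS Q Q (RingEquiv.refl F) c g.toEquiv) (W : Submodule F V) :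
    h.img W = W.map (g : V →ₗ[F] V) := Submodule.ext fun _ => (Submodule.mem_map_equiv _).symm

theorem SS.trans {L Z : Type} [Field L] [AddCommGroup Z] [Module L Z] {Q'' : QuadraticForm L Z} {τ : K ≃+* L} {d : L}
    {f : U ≃ Z} (h : SS Q Q' σ c e) (k : SS Q' Q'' τ d f) : SS Q Q'' (σ.trans τ) (d * τ c) (e.trans f) where
  ne := mul_ne_zero k.ne ((map_ne_zero _).2 h.ne)
  add x y := by rw [Equiv.trans_apply, h.add, k.add]; rfl
  smul a x := by rw [Equiv.trans_apply, h.smul, k.smul]; rfl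
  form x := by rw [Equiv.trans_apply, k.form, h.form, map_mul, mul_assoc]; rfl

/-- all field isomorphisms and all multipliers occur for the hyperbolic form -/
theorem ss_plus (m : ℕ) (σ : F ≃+* K) {c : K} (hc : c ≠ 0) : ∃ e, SS (plusForm m F) (plusForm m K) σ c e := by
  let d : Fin m ⊕ Fin m → K := Sum.elim (fun _ => c) fun _ => 1
  have hd : ∀ i, d i ≠ 0 := by
    rintro (i | i)
    · exact hc
    · exact one_ne_zero
  refine ⟨⟨fun x i => d i * σ (x i), fun y i => σ.symm ((d i)⁻¹ * y i), fun x => funext fun i => ?_, fun y => funext fun i => ?_⟩,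
    hc, fun x y => funext fun i => ?_, fun a x => funext fun i => ?_, fun x => ?_⟩
  · show σ.symm ((d i)⁻¹ * (d i * σ (x i))) = x i
    rw [inv_mul_cancel_left₀ (hd i), σ.symm_apply_apply]
  · show d i * σ (σ.symm ((d i)⁻¹ * y i)) = y i
    rw [σ.apply_symm_apply, mul_inv_cancel_left₀ (hd i)]
  · show d i * σ (x i + y i) = d i * σ (x i) + d i * σ (y i)
    rw [map_add, mul_add]
  · show d i * σ (a * x i) = σ a * (d i * σ (x i))
    rw [map_mul, mul_left_comm]
  · rw [coe_plusForm, coe_plusForm, quadFormPlus_apply, quadFormPlus_apply, map_sum, Finset.mul_sum]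
    refine Finset.sum_congr rfl fun i _ => ?_
    show c * σ (x (.inl i)) * (1 * σ (x (.inr i))) = _
    rw [one_mul, map_mul, mul_assoc]

/-- all non-singular vectors of the hyperbolic forms are similar -/
theorem ss_plus_vec {m : ℕ} (σ : F ≃+* K) (hG : Good (plusForm m K)) {v : Fin m ⊕ Fin m → F} {w : Fin m ⊕ Fin m → K}
    (hv : plusForm m F v ≠ 0) (hw : plusForm m K w ≠ 0) :
    ∃ τ c e, SS (plusForm m F) (plusForm m K) τ c e ∧ e v = w := by
  have h0 : σ (plusForm m F v) ≠ 0 := (map_ne_zero _).2 hv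
  obtain ⟨e, he⟩ := ss_plus m σ (mul_ne_zero hw (inv_ne_zero h0))
  have h1 : plusForm m K (e v) = plusForm m K w := by rw [he.form, inv_mul_cancel_right₀ h0]
  have h2 : ∀ x, plusForm m K x ≠ 0 → x ≠ 0 := fun x hx k => hx (by rw [k, QuadraticMap.map_zero])
  obtain ⟨g, hg, k⟩ := hG.trans_norm (h2 _ (h1 ▸ hw)) (h2 _ hw) h1
  exact ⟨_, _, _, he.trans (SS.ofO (E_le_O hg)), k⟩

end ss

section perm

variable {Ω : Type} [Fintype Ω] [DecidableEq Ω] {X H T M S M₁ S₁ M₂ S₂ : Subgroup (Perm Ω)}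

/-- **Rigidity** for two homomorphisms from one group -/
theorem rig_hom (u₁ : Up X H T M₁ S₁) (u₂ : Up X H T M₂ S₂) {G : Type*} [Group G] (φ₁ φ₂ : G →* Perm Ω)
    (r₁ : φ₁.range = S₁) (r₂ : φ₂.range = S₂) (hT : ∀ t ∈ T, ∃ g, φ₁ g = t ∧ φ₂ g = t) {a : Ω}
    (hB : ∀ g, φ₁ g a = a → φ₂ g a = a) : M₁ = M₂ := by
  have h1 : φ₁ = φ₂ := MonoidHom.ext fun s => Perm.ext fun x => by
    obtain ⟨t, ht, rfl⟩ := u₁.trans a x
    obtain ⟨t', ht', e⟩ := u₁.trans a (φ₁ s (t a))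
    obtain ⟨g, g1, g2⟩ := hT t ht
    obtain ⟨k, k1, k2⟩ := hT t' ht'
    have h2 := hB (k⁻¹ * s * g) (by
      rw [map_mul, map_mul, map_inv, g1, k1]
      exact Perm.inv_eq_iff_eq.2 e.symm)
    rw [map_mul, map_mul, map_inv, g2, k2] at h2
    exact e.symm.trans (Perm.inv_eq_iff_eq.1 h2).symm
  have h2 : S₁ = S₂ := by rw [← r₁, ← r₂, h1]
  exact u₁.sec.eq_of_nor u₁.ov u₂.ov u₁.socM.toNor (h2 ▸ u₂.socM.toNor) u₁.socM.ne

/-- the degree is the size of an orbit with the same stabilisers -/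
theorem card_of_stab {G β : Type*} (f : G → Ω) (hf : Function.Surjective f) (k : G → β) (h : ∀ x y, f x = f y ↔ k x = k y) :
    Fintype.card Ω = (Set.range k).ncard := by
  rw [← Nat.card_eq_fintype_card, ← Nat.card_coe_set_eq]
  refine Nat.card_congr (Equiv.ofBijective (fun x => ⟨k (hf x).choose, _, rfl⟩) ⟨fun x y e => ?_, ?_⟩)
  · rw [← (hf x).choose_spec, ← (hf y).choose_spec]
    exact (h _ _).2 (congrArg Subtype.val e)
  · rintro ⟨_, g, rfl⟩
    exact ⟨f g, Subtype.ext ((h _ _).1 (hf (f g)).choose_spec)⟩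

end perm

section frame

variable {F V : Type} [Field F] [AddCommGroup V] [Module F V] {Q : QuadraticForm F V}

theorem ps_eq (g : ↥(E Q)) : ps Q g = Psi Q (lg g) := rfl

theorem ps_eq_one (hG : Good Q) {g : ↥(E Q)} (h : ps Q g = 1) : g ∈ center ↥(E Q) := by
  have h1 : conjE Q (lg g) = 1 := eq_one_of_quotAut (commutator_E hG) _ h
  refine mem_center_iff.2 fun x => Subtype.ext (LinearEquiv.ext fun z => ?_)
  have h2 := congrArg (fun k : MulAut ↥(E Q) => (k x).1 (g.1 z)) h1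
  exact h2.symm.trans (conjLin_apply' (lg g) x.1 z)

theorem ps_conj (γ : Gam Q) (g : ↥(E Q)) : ps Q (conjE Q γ g) = Psi Q γ * ps Q g * (Psi Q γ)⁻¹ := by
  rw [ps_eq, ps_eq, ← map_inv, ← map_mul, ← map_mul]
  rfl

/-- the stabiliser of a subspace -/
def stG (Q : QuadraticForm F V) (W : Submodule F V) : Subgroup (Gam Q) where
  carrier := {g | H449.Reg.img g W = W}
  one_mem' := img_one W
  mul_mem' {g k} hg hk := by
    show H449.Reg.img (g * k) W = W
    rw [img_mul, hk, hg]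
  inv_mem' {g} hg := by
    show H449.Reg.img g⁻¹ W = W
    conv_lhs => rw [← show H449.Reg.img g W = W from hg]
    rw [← img_mul, inv_mul_cancel, img_one]

/-- **a maximal subgroup which fixes a subspace is its stabiliser** -/
theorem mem_of_fix (hG : Good Q) (hs : Function.Surjective (Psi Q)) {M Y : Subgroup (Au Q)} (hY : Y ⋖ M) (hi : inn Q ≤ M)
    {W : Submodule F V} (hW : Fx Y W) (hE : ∃ g ∈ E Q, W.map (g : V →ₗ[F] V) ≠ W) {γ : Gam Q} (h1 : Psi Q γ ∈ M)
    (h2 : H449.Reg.img γ W = W) : Psi Q γ ∈ Y := by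
  have h3 : Y ≤ M ⊓ (stG Q W).map (Psi Q) := fun y hy => ⟨hY.le hy, by
    obtain ⟨g, rfl⟩ := hs y
    exact ⟨g, hW g hy, rfl⟩⟩
  rcases hY.eq_or_eq h3 inf_le_left with k | k
  · exact k ▸ (⟨h1, γ, h2, rfl⟩ : Psi Q γ ∈ M ⊓ (stG Q W).map (Psi Q))
  · obtain ⟨g, hg, hn⟩ := hE
    obtain ⟨δ, h4, h5⟩ := (k.ge (hi ⟨⟨g, hg⟩, rfl⟩)).2
    refine absurd ?_ hn
    rw [← img_lg ⟨g, hg⟩, ← img_eq_of_Psi hG (N := lg ⟨g, hg⟩) h5]
    exact h4

variable {Ω : Type} [Fintype Ω] [DecidableEq Ω] {X H T M S : Subgroup (Perm Ω)} {a : Ω} {m : ℕ}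
  {M' H' T' B' : Subgroup (Au Q)} {ρ : M' →* Perm Ω}

/-- `Ω(Q) → Sym Ω` -/
def phi (h : Pf X H T M S a Q m M' H' T' B' ρ) : ↥(E Q) →* Perm Ω :=
  ρ.comp ((ps Q).codRestrict M' fun g => h.fr.fac.asM.le ⟨g, rfl⟩)

theorem phi_range (h : Pf X H T M S a Q m M' H' T' B' ρ) : (phi h).range = S := by
  refine le_antisymm ?_ fun s hs => ?_
  · rintro _ ⟨g, rfl⟩
    exact (h.mS _).2 ⟨g, rfl⟩
  · obtain ⟨x, rfl⟩ : s ∈ ρ.range := h.range.symm ▸ h.up.socM.le hs
    obtain ⟨g, hg⟩ := (h.mS x).1 hs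
    exact ⟨g, congrArg ρ (Subtype.ext hg)⟩

theorem phi_T (h : Pf X H T M S a Q m M' H' T' B' ρ) (g : ↥(E Q)) : phi h g ∈ T ↔ ps Q g ∈ T' := h.mT _

theorem phi_B (h : Pf X H T M S a Q m M' H' T' B' ρ) (g : ↥(E Q)) : phi h g a = a ↔ ps Q g ∈ B' := h.mB _

theorem phi_eq (h : Pf X H T M S a Q m M' H' T' B' ρ) {g k : ↥(E Q)} : phi h g = phi h k ↔ ps Q g = ps Q k :=
  ⟨fun e => congrArg Subtype.val (h.inj e), fun e => congrArg ρ (Subtype.ext e)⟩

end frame

open Cfsg.Agent.H902 in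
/-- a lower bound for the order -/
theorem le_of_real {X : Art.Sh} {p f t : ℕ} (h : Art.Real X p f t) : (p ^ f) ^ Art.NN X ≤ Art.dd X (p ^ f) * t := by
  rw [h.eq]
  exact Nat.le_mul_of_pos_right _ (Nat.pos_of_ne_zero h.num_ne)

open Cfsg.Agent.H902 in
/-- the order of a large group determines the shape and the field -/
theorem same_real {X Y : Art.Sh} {p f q g t : ℕ} (h : Art.Real X p f t) (k : Art.Real Y q g t) (ht : 25920 < t) :
    X = Y ∧ p = q ∧ f = g := by
  by_cases e : p = q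
  · subst e
    rcases Art.same_char h k with e | e
    · exact ⟨e.1, rfl, e.2⟩
    · omega
  · have := Art.cross_char h k e
    omega

end Cfsg.Agent.SM.Op.Tr
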