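import Cfsg.Agent.SM.Op.Defs
import Cfsg.Agent.H75.Sg

/-!
# SM (S3570), socle `PΩ⁺_{2m}(q)`, box RJ: two complementary totally singular subspaces (helper9)

* `Hf.compl`, `exists_s`, `exists_std` (coordinates), `exists_d` (the similarity `(α, β)`);
* `Sw_ind`, `Sw_comm`, `Sw_inv`, `stP`, `conj_Sw`, `half` (the points fixed by the stabiliser of `w + w'` in `Sw`).
-/

set_option autoImplicit false
set_option linter.unusedSectionVars false
set_option linter.unusedVariables false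

namespace Cfsg.Agent.SM.Op.RJ

open Module QuadraticMap Cfsg Subgroup
open Cfsg.Agent.LieClassical.OrthCore Cfsg.Agent.LieClassical.OrthTrans Cfsg.Agent.ClassicalGeometry.OrthSemi
open Cfsg.Agent.H449.Reg (img lg mem_img img_one img_mul img_lg img_eq_of_Psi)
open Cfsg.Agent.H75.OrthIdx (sg sg_eq sg_apply sg_mem_E sg_inv sg_swap sg_fix)
open scoped Matrix

variable {F V : Type} [Field F] [AddCommGroup V] [Module F V] [FiniteDimensional F V] {Q : QuadraticForm F V} {m : ℕ}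
  {W W' : Submodule F V}

theorem ts_polar (h : Ts Q W) {a b : V} (ha : a ∈ W) (hb : b ∈ W) : polar Q a b = 0 := by
  rw [QuadraticMap.polar, h _ (W.add_mem ha hb), h a ha, h b hb, sub_zero, sub_zero]

theorem hf_symm (h : Hf Q m W W') : Hf Q m W' W := ⟨h.ts', h.ts, h.dim', h.dim, by rw [inf_comm, h.inf]⟩

theorem hf_compl (h : Hf Q m W W') (hd : finrank F V = 2 * m) : IsCompl W W' :=
  (Submodule.isCompl_iff_disjoint W W' (by rw [h.dim, h.dim', hd]; omega)).2 (disjoint_iff.2 h.inf)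

theorem hf_dec (h : Hf Q m W W') (hd : finrank F V = 2 * m) (v : V) : ∃ w ∈ W, ∃ w' ∈ W', w + w' = v :=
  Submodule.mem_sup.1 ((hf_compl h hd).sup_eq_top.ge trivial)

theorem hf_form (h : Hf Q m W W') {w w' : V} (hw : w ∈ W) (hw' : w' ∈ W') : Q (w + w') = polar Q w w' := by
  rw [Q_add, h.ts w hw, h.ts' w' hw', zero_add, zero_add]

theorem hf_zero (h : Hf Q m W W') (hQ : Nondeg Q) (hd : finrank F V = 2 * m) {w : V} (hw : w ∈ W)
    (h0 : ∀ z ∈ W', polar Q w z = 0) : w = 0 := hQ w fun y => by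
  obtain ⟨a, ha, b, hb, rfl⟩ := hf_dec h hd y
  rw [polar_add_right, ts_polar h.ts hw ha, h0 b hb, add_zero]

theorem exists_s (hm : 3 ≤ finrank F W) (a b : V) : ∃ s ∈ W, s ≠ 0 ∧ polar Q s a = 0 ∧ polar Q s b = 0 := by
  obtain ⟨s, hs, h0⟩ := Submodule.exists_mem_ne_zero_of_ne_bot (LinearMap.ker_ne_bot_of_finrank_lt
    (f := ((Q.polarBilin.flip a).prod (Q.polarBilin.flip b)).comp W.subtype) (by rw [finrank_prod, finrank_self]; omega))
  exact ⟨s, s.2, fun e => h0 (Subtype.ext e), congrArg Prod.fst hs, congrArg Prod.snd hs⟩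

/-- coordinates -/
theorem exists_std (h : Hf Q m W W') (hQ : Nondeg Q) (hd : finrank F V = 2 * m) :
    ∃ c : V ≃ₗ[F] (Fin m → F) × (Fin m → F), (∀ v, Q v = (c v).1 ⬝ᵥ (c v).2) ∧ (∀ v, v ∈ W ↔ (c v).2 = 0) ∧
      ∀ v, v ∈ W' ↔ (c v).1 = 0 := by
  let b := finBasisOfFinrankEq F W h.dim
  let φ : W' →ₗ[F] (Fin m → F) := LinearMap.pi fun i => (Q.polarBilin (b i)).comp W'.subtype
  have hs : ∀ (w : W) (z : W'), polar Q w z = b.equivFun w ⬝ᵥ φ z := fun w z => by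
    conv_lhs => rw [← b.sum_equivFun w]
    change Q.polarBilin (W.subtype _) z = _
    simp only [map_sum, map_smul, LinearMap.sum_apply, LinearMap.smul_apply, smul_eq_mul]
    rfl
  have hφ : Function.Injective φ := by
    rw [injective_iff_map_eq_zero]
    refine fun z hz => Subtype.ext (hf_zero (hf_symm h) hQ hd z.2 fun w hw => ?_)
    rw [polar_comm, hs ⟨w, hw⟩, hz, dotProduct_zero]
  let e := φ.linearEquivOfInjective hφ (by rw [h.dim', finrank_fin_fun])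
  let p := Submodule.prodEquivOfIsCompl W W' (hf_compl h hd)
  refine ⟨p.symm.trans (b.equivFun.prodCongr e), fun v => ?_, fun v => ?_, fun v => ?_⟩ <;>
    obtain ⟨⟨w, z⟩, rfl⟩ := p.surjective v <;> rw [LinearEquiv.trans_apply, p.symm_apply_apply]
  · exact (hf_form h w.2 z.2).trans (hs w z)
  · change (w : V) + z ∈ W ↔ e z = 0
    rw [W.add_mem_iff_right w.2, e.map_eq_zero_iff]
    exact ⟨fun k => Subtype.ext (h.inf.le ⟨k, z.2⟩), fun k => by rw [k]; exact W.zero_mem⟩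
  · change (w : V) + z ∈ W' ↔ b.equivFun w = 0
    rw [W'.add_mem_iff_left z.2, b.equivFun.map_eq_zero_iff]
    exact ⟨fun k => Subtype.ext (h.inf.le ⟨w.2, k⟩), fun k => by rw [k]; exact W'.zero_mem⟩

/-- the similarity which is `α` on `W` and `β` on `W'` -/
theorem exists_d (h : Hf Q m W W') (hd : finrank F V = 2 * m) {α β : F} (hα : α ≠ 0) (hβ : β ≠ 0) :
    ∃ d : Gam Q, ∀ w ∈ W, ∀ w' ∈ W', d.1 (w + w') = α • w + β • w' := by
  let p := Submodule.prodEquivOfIsCompl W W' (hf_compl h hd)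
  let e := (p.symm.trans ((LinearEquiv.smulOfNeZero F W α hα).prodCongr (LinearEquiv.smulOfNeZero F W' β hβ))).trans p
  have he : ∀ w ∈ W, ∀ w' ∈ W', e (w + w') = α • w + β • w' := fun w hw w' hw' => by
    change p (LinearEquiv.prodCongr _ _ (p.symm (p (⟨w, hw⟩, ⟨w', hw'⟩)))) = _
    rw [p.symm_apply_apply]
    rfl
  refine ⟨⟨e.toEquiv, RingEquiv.refl F, α * β, mul_ne_zero hα hβ, e.map_add, e.map_smul, fun v => ?_⟩, he⟩
  obtain ⟨a, ha, b, hb, rfl⟩ := hf_dec h hd v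
  change Q (e _) = α * β * Q _
  rw [he a ha b hb, hf_form h (W.smul_mem _ ha) (W'.smul_mem _ hb), hf_form h ha hb, polar_smul_left, polar_smul_right,
    smul_eq_mul, smul_eq_mul, mul_assoc]

theorem sg_mem (h : Ts Q W) {u w : V} (hu : u ∈ W) (hw : w ∈ W') (huw : polar Q u w = 0) : sg Q u w ∈ Sw Q W W' :=
  subset_closure ⟨u, w, h u hu, huw, hu, hw, sg_eq _ _⟩

theorem Sw_ind {p : (V ≃ₗ[F] V) → Prop} (gen : ∀ u ∈ W, ∀ w ∈ W', Q u = 0 → polar Q u w = 0 → p (sg Q u w)) (one : p 1)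
    (mul : ∀ x y, p x → p y → p (x * y)) {x : V ≃ₗ[F] V} (hx : x ∈ Sw Q W W') : p x := by
  induction hx using Subgroup.closure_induction'' with
  | mem x hx =>
    obtain ⟨u, w, h1, h2, hu, hw, rfl⟩ := hx
    exact sg_eq h1 h2 ▸ gen u hu w hw h1 h2
  | inv_mem x hx =>
    obtain ⟨u, w, h1, h2, hu, hw, rfl⟩ := hx
    rw [← sg_eq h1 h2, sg_inv h2]
    exact gen u hu _ (W'.neg_mem hw) h1 (by rw [polar_neg_right, h2, neg_zero])
  | one => exact one
  | mul x y _ _ hx hy => exact mul x y hx hy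

theorem Sw_le : Sw Q W W' ≤ E Q := fun _ => Sw_ind (p := (· ∈ E Q)) (fun _ _ _ _ _ _ => sg_mem_E _ _) (one_mem _) fun _ _ => mul_mem

theorem Sw_comm (h : Hf Q m W W') : Sw Q W W' ≤ Sw Q W' W := fun _ =>
  Sw_ind (p := (· ∈ Sw Q W' W)) (fun u hu w hw h1 h2 => by
    rw [sg_swap h1 (h.ts' w hw) h2]
    exact sg_mem h.ts' hw (W.neg_mem hu) (by rw [polar_neg_right, polar_comm, h2, neg_zero])) (one_mem _) fun _ _ => mul_mem

theorem Sw_inv (h : Hf Q m W W') {x : V ≃ₗ[F] V} (hx : x ∈ Sw Q W W') : ∀ y ∈ W, x y ∈ W :=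
  Sw_ind (p := fun x => ∀ y ∈ W, x y ∈ W) (fun u hu w hw h1 h2 y hy => by
    rw [sg_apply h1 h2, ts_polar h.ts hu hy, zero_smul, add_zero]
    exact W.sub_mem (W.sub_mem hy (W.smul_mem _ hu)) (W.smul_mem _ hu)) (fun _ hy => hy)
    (fun _ _ hx hy z hz => hx _ (hy z hz)) hx

/-- the stabiliser of the pair -/
def stP (Q : QuadraticForm F V) (U U' : Submodule F V) : Subgroup (Gam Q) where
  carrier := {g | (img g U = U ∧ img g U' = U') ∨ (img g U = U' ∧ img g U' = U)}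
  one_mem' := Or.inl ⟨img_one _, img_one _⟩
  mul_mem' := by
    rintro a b (⟨h1, h2⟩ | ⟨h1, h2⟩) (⟨h3, h4⟩ | ⟨h3, h4⟩) <;> simp only [Set.mem_ofPred_eq, img_mul, h1, h2, h3, h4] <;> simp
  inv_mem' := by
    have k : ∀ {g : Gam Q} {A B : Submodule F V}, img g A = B → img g⁻¹ B = A := fun {g A B} e => by
      rw [← e, ← img_mul, inv_mul_cancel, img_one]
    rintro g (⟨h1, h2⟩ | ⟨h1, h2⟩)
    · exact Or.inl ⟨k h1, k h2⟩
    · exact Or.inr ⟨k h2, k h1⟩

theorem lg_mem (h : Hf Q m W W') {x : E Q} (hx : x.1 ∈ Sw Q W W') : lg x ∈ stP Q W W' := by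
  have k : ∀ {U : Submodule F V}, (∀ y ∈ U, x.1 y ∈ U) → img (lg x) U = U := fun {U} e => by
    rw [img_lg]
    exact Submodule.eq_of_le_of_finrank_eq (Submodule.map_le_iff_le_comap.2 e) (x.1.finrank_map_eq U)
  exact Or.inl ⟨k (Sw_inv h hx), k (Sw_inv (hf_symm h) (Sw_comm h hx))⟩

theorem conj_Sw (h : Hf Q m W W') {g : Gam Q} (hg : g ∈ stP Q W W') {x : V ≃ₗ[F] V} (hx : x ∈ Sw Q W W') :
    conjLin g x ∈ Sw Q W W' := by
  obtain ⟨σ, c, hM⟩ := g.2
  refine Sw_ind (p := fun x => conjLin g x ∈ Sw Q W W') (fun u hu w hw h1 h2 => ?_) (by rw [conjLin_one]; exact one_mem _)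
    (fun x y hx hy => by rw [conjLin_mul]; exact mul_mem hx hy) hx
  obtain ⟨h3, h4, e⟩ := conjLin_siegel g hM h1 h2
  rw [sg_eq h1 h2, e]
  rcases hg with ⟨k1, k2⟩ | ⟨k1, k2⟩
  · exact subset_closure ⟨_, _, h3, h4, k1.le ⟨u, hu, rfl⟩, W'.smul_mem _ (k2.le ⟨w, hw, rfl⟩), rfl⟩
  · exact Sw_comm (hf_symm h) (subset_closure ⟨_, _, h3, h4, k1.le ⟨u, hu, rfl⟩, W.smul_mem _ (k2.le ⟨w, hw, rfl⟩), rfl⟩)

/-- the points fixed by the stabiliser of `w + w'` -/
theorem half (h : Hf Q m W W') (hQ : Nondeg Q) (hd : finrank F V = 2 * m) (hm : 3 ≤ m) {w w' y y' : V} (hw : w ∈ W)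
    (hw' : w' ∈ W') (hy : y ∈ W) (hy' : y' ∈ W') (hne : polar Q w w' ≠ 0)
    (hx : ∀ x ∈ Sw Q W W', x (w + w') = w + w' → x (y + y') ∈ F ∙ (y + y')) : ∃ α : F, y = α • w := by
  have key : ∀ z ∈ W', polar Q w z = 0 → polar Q y z = 0 := fun z hz e => by
    by_contra hn
    obtain ⟨s, hs, s0, s1, s2⟩ := exists_s (Q := Q) (h.dim.ge.trans' hm) w' z
    obtain ⟨c, hc⟩ := Submodule.mem_span_singleton.1 (hx _ (sg_mem h.ts hs hz s2) (sg_fix
      (by rw [polar_add_right, ts_polar h.ts hs hw, s1, add_zero])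
      (by rw [polar_add_right, polar_comm, e, ts_polar h.ts' hz hw', add_zero])))
    rw [sg_apply (h.ts s hs) s2, h.ts' z hz, zero_mul, zero_smul, sub_zero, polar_add_right, polar_add_right,
      ts_polar h.ts hs hy, ts_polar h.ts' hz hy', zero_add, add_zero, polar_comm Q z y] at hc
    have h1 := congrArg (fun t => polar Q t z) hc
    simp only [polar_smul_left, polar_add_left, polar_sub_left, ts_polar h.ts' hy' hz, ts_polar h.ts' hz hz, s2, smul_eq_mul,
      mul_zero, add_zero, sub_zero] at h1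
    rw [mul_eq_right₀ hn] at h1
    rw [h1, one_smul] at hc
    have h2 : polar Q y z • s = polar Q s y' • z := by linear_combination (norm := module) hc
    exact s0 ((smul_eq_zero.1 (h.inf.le ⟨W.smul_mem _ hs, h2 ▸ W'.smul_mem _ hz⟩)).resolve_left hn)
  refine ⟨polar Q y w' / polar Q w w', sub_eq_zero.1 (hf_zero h hQ hd (W.sub_mem hy (W.smul_mem _ hw)) fun z hz => ?_)⟩
  have h1 := key (z - (polar Q w z / polar Q w w') • w') (W'.sub_mem hz (W'.smul_mem _ hw')) (by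
    rw [polar_sub_right, polar_smul_right, smul_eq_mul, div_mul_cancel₀ _ hne, sub_self])
  rw [polar_sub_right, polar_smul_right, smul_eq_mul] at h1
  rw [polar_sub_left, polar_smul_left, smul_eq_mul, ← h1]
  ring

end Cfsg.Agent.SM.Op.RJ
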