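import Cfsg.Agent.SM.Op.Fr

/-!
# SM / Op: the reduction to the three cases (helper57)

`Fr.red`: `H` fixes a non-singular point, or `B` fixes a non-singular point or an anisotropic plane.
-/

set_option autoImplicit false
set_option linter.unusedSectionVars false

namespace Cfsg.Agent.SM.Op

open Module QuadraticMap Cfsg Cfsg.Geo Subgroup
open Cfsg.Agent.LieClassical.OrthCore Cfsg.Agent.LieClassical.OrthTrans Cfsg.Agent.ClassicalGeometry.OrthSemi
open Cfsg.Agent.H449.Reg (img lg mem_img img_mul img_one img_mono finrank_img img_eq_of_Psi img_lg AExt)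
open Cfsg.Agent.H826.Rg (lgH Sg)
open Cfsg.Agent.H826.RgF (Iv Rd El)
open Cfsg.Agent.H955 (IsPlus perp res mem_perp mem_perp')
open Cfsg.Agent.H884.El (PP)

variable {F V : Type} [Field F] [Fintype F] [AddCommGroup V] [Module F V] [FiniteDimensional F V] {Q : QuadraticForm F V}
  {m : ℕ} {M H T B X : Subgroup (Au Q)} {Y N : Subgroup (V ≃ₗ[F] V)} {W W' : Submodule F V}

theorem eq_one_of_two (h : Nat.card F = 2) {a : F} (ha : a ≠ 0) : a = 1 := by
  have := FiniteField.pow_card_sub_one_eq_one a ha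
  rwa [← Nat.card_eq_fintype_card, h, pow_one] at this

theorem two_le_card (F : Type) [Field F] [Fintype F] : 2 ≤ Nat.card F := Finite.one_lt_card

theorem exists_sq_ne (h : 4 ≤ Nat.card F) : ∃ c : F, c ≠ 0 ∧ c * c ≠ 1 := by
  classical
  by_contra k
  push Not at k
  have h1 : (Finset.univ : Finset F) ⊆ {0, 1, -1} := fun c _ => by
    by_cases h0 : c = 0
    · simp [h0]
    · rcases mul_self_eq_one_iff.1 (k c h0) with e | e <;> simp [e]
  have h2 := (Finset.card_le_card h1).trans Finset.card_le_three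
  rw [Finset.card_univ, ← Nat.card_eq_fintype_card] at h2
  omega

theorem line_or_eq {S D : Submodule F V} (h0 : S ≠ ⊥) (h1 : S ≤ D) (h2 : finrank F D ≤ 2) :
    (∃ v ∈ D, v ≠ 0 ∧ S = F ∙ v) ∨ S = D := by
  by_cases h : 2 ≤ finrank F S
  · exact Or.inr (Submodule.eq_of_le_of_finrank_le h1 (h2.trans h))
  · obtain ⟨v, hv, v0⟩ := Submodule.exists_mem_ne_zero_of_ne_bot h0
    exact Or.inl ⟨v, h1 hv, v0, (Submodule.eq_of_le_of_finrank_le ((Submodule.span_singleton_le_iff_mem v S).2 hv)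
      (by rw [finrank_span_singleton v0]; omega)).symm⟩

theorem Hp.le_two {D : Submodule F V} (h : Hp Q D) : finrank F D ≤ 2 := by
  classical
  obtain ⟨x, y, -, rfl⟩ := h
  exact (finrank_span_le_card _).trans (by simpa using Finset.card_le_two)

theorem Hp.ne_bot {D : Submodule F V} (h : Hp Q D) : D ≠ ⊥ := fun k => by
  obtain ⟨x, y, h1, rfl⟩ := h
  exact h1.left_ne ((Submodule.mem_bot F).1 (k ▸ Submodule.subset_span (Set.mem_insert x {y})))

theorem ts_span {v : V} (hv : Q v = 0) : Ts Q (F ∙ v) := fun w hw => by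
  obtain ⟨a, rfl⟩ := Submodule.mem_span_singleton.1 hw
  rw [QuadraticMap.map_smul, hv, smul_zero]

theorem hyp_norm {x y : V} (h : Hyp Q x y) (a b : F) : Q (a • x + b • y) = a * b := by
  rw [Q_add, QuadraticMap.map_smul, QuadraticMap.map_smul, h.left, h.right, polar_smul_left, polar_smul_right, h.pair]
  simp

/-! ### the orbits of `Ω` -/

theorem orb_pt (hG : Good Q) {v : V} (hv : v ≠ 0) (γ : Gam Q) {l : F} (hl : l ≠ 0) (h : Q (γ.1 v) = l * l * Q v) :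
    ∃ s ∈ E Q, img γ (F ∙ v) = (F ∙ v).map (s : V →ₗ[F] V) := by
  obtain ⟨s, hs, e⟩ := hG.trans_norm (v' := l⁻¹ • γ.1 v) hv (smul_ne_zero (inv_ne_zero hl) (gam_ne γ hv)) (by
    rw [QuadraticMap.map_smul, h, smul_eq_mul]; field_simp)
  refine ⟨s, hs, ?_⟩
  rw [img_span, Submodule.map_span, Set.image_singleton, LinearEquiv.coe_coe, e,
    Submodule.span_singleton_smul_eq (IsUnit.mk0 _ (inv_ne_zero hl))]

theorem orb_hp (hG : Good Q) {D : Submodule F V} (h : Hp Q D) (γ : Gam Q) : ∃ s ∈ E Q, img γ D = D.map (s : V →ₗ[F] V) := by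
  obtain ⟨x, y, h1, rfl⟩ := h
  obtain ⟨σ, c, hγ⟩ := γ.2
  have h2 : Hyp Q (γ.1 x) (c⁻¹ • γ.1 y) := ⟨(gam_sing γ).2 h1.left, by rw [QuadraticMap.map_smul, (gam_sing γ).2 h1.right, smul_zero],
    by rw [polar_smul_right, hγ.polar, h1.pair, map_one, mul_one, smul_eq_mul, inv_mul_cancel₀ hγ.ne]⟩
  obtain ⟨s, hs, e1, e2⟩ := hG.trans_hyp h1 h2
  refine ⟨s, hs, ?_⟩
  rw [Submodule.span_insert, img_sup, img_span, img_span, Submodule.map_sup, Submodule.map_span, Submodule.map_span,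
    Set.image_singleton, Set.image_singleton, LinearEquiv.coe_coe, e1, e2,
    Submodule.span_singleton_smul_eq (IsUnit.mk0 _ (inv_ne_zero hγ.ne))]

theorem orb_an (hE : TrP Q (E Q)) {P : Submodule F V} (h : An Q P) (γ : Gam Q) :
    ∃ s ∈ E Q, img γ P = P.map (s : V →ₗ[F] V) := by
  obtain ⟨s, hs, e⟩ := hE P _ h (h.img γ)
  exact ⟨s, hs, e.symm⟩

/-- an injective endomorphism commuting with a transitive group is a similarity -/
theorem exists_sim (hJ : BoxJ) (hp : Pl Q m) (hY : Y ≤ O Q)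
    (ht : Tr0 Q Y ∨ (3 ≤ Nat.card F ∧ ∃ c, c ≠ 0 ∧ TrS Q Y c) ∨ (TrP Q Y ∧ ¬ Rd Y)) {d : Module.End F V} (hd : Cm Y d)
    (hi : Function.Injective d) : ∃ (γ : Gam Q) (μ : F), μ ≠ 0 ∧ (∀ x, γ.1 x = d x) ∧ ∀ x, Q (d x) = μ * Q x := by
  obtain ⟨μ, hμ⟩ := hJ F V Q m hp Y (Q.comp d) hY (fun g hg x => by
    show Q (d (g x)) = Q (d x)
    rw [hd g hg, hY hg]) ht
  have h0 : μ ≠ 0 := fun k => by
    obtain ⟨v, -, hv⟩ := exists_norm hp.good (1 : F)
    obtain ⟨x, rfl⟩ := LinearMap.injective_iff_surjective.1 hi v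
    have h1 : Q (d x) = μ * Q x := hμ x
    rw [hv, k, zero_mul] at h1
    exact one_ne_zero h1
  exact ⟨sim (LinearEquiv.ofInjectiveEndo d hi) h0 hμ, μ, h0, fun _ => rfl, hμ⟩

/-- the elements of `Y` all of whose conjugates commute with `d` -/
def cmc (Y : Subgroup (V ≃ₗ[F] V)) (d : Module.End F V) : Subgroup (V ≃ₗ[F] V) where
  carrier := {g | g ∈ Y ∧ ∀ h ∈ Y, ∀ x, d ((h * g * h⁻¹) x) = (h * g * h⁻¹) (d x)}
  mul_mem' {a b} ha hb := ⟨Y.mul_mem ha.1 hb.1, fun h hh x => by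
    rw [show h * (a * b) * h⁻¹ = h * a * h⁻¹ * (h * b * h⁻¹) by group, LinearEquiv.mul_apply, LinearEquiv.mul_apply _ _ (d x),
      ha.2 h hh, hb.2 h hh]⟩
  one_mem' := ⟨Y.one_mem, fun h _ x => by rw [mul_one, mul_inv_cancel]; rfl⟩
  inv_mem' {a} ha := ⟨Y.inv_mem ha.1, fun h hh x => by
    rw [show h * a⁻¹ * h⁻¹ = (h * a * h⁻¹)⁻¹ by group]
    apply (h * a * h⁻¹).injective
    rw [← ha.2 h hh]
    exact (congrArg d ((h * a * h⁻¹).apply_symm_apply x)).trans ((h * a * h⁻¹).apply_symm_apply (d x)).symm⟩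

namespace Fr

variable (f : Fr Q m M H T B)
include f

theorem T_le : T ≤ i0 Q (l0 T) := le_i0_l0 f.fac.le

/-- **CT** on vectors -/
theorem scalar (hW : Fx B W) (h0 : W ≠ ⊥) (h1 : W ≠ ⊤) {γ : Gam Q}
    (hc : ∀ n ∈ l0 T, ∃ a : F, ∀ x, γ.1 (n x) = a • n (γ.1 x))
    (hs : ∃ s ∈ E Q, img γ W = W.map (s : V →ₗ[F] V)) : ∃ a : F, a ≠ 0 ∧ ∀ v, γ.1 v = a • v := by
  obtain ⟨s, hs, e⟩ := hs
  exact (psi_eq_one_iff f.good).1 (f.ct hW h0 h1 (fun t ht => comm_i0 f.good hc t (f.T_le ht)) hs e)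

theorem scalar' (hW : Fx B W) (h0 : W ≠ ⊥) (h1 : W ≠ ⊤) {γ : Gam Q} {d : Module.End F V} (e : ∀ x, γ.1 x = d x)
    (hc : Cm (l0 T) d) (hs : ∃ s ∈ E Q, img γ W = W.map (s : V →ₗ[F] V)) : ∃ a : F, ∀ v, d v = a • v := by
  obtain ⟨a, -, h⟩ := f.scalar hW h0 h1 (fun n hn => ⟨1, fun x => by rw [e, e, hc n hn, one_smul]⟩) hs
  exact ⟨a, fun v => (e v).symm.trans (h v)⟩

/-- an endomorphism commuting with the squares commutes with `T` -/
theorem cm_of_sq {J : Module.End F V} (h : ∀ g ∈ l0 T, ∀ x, J (g (g x)) = g (g (J x))) : Cm (l0 T) J := by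
  have h1 : ∃ g : ↥(E Q), g.1 ∈ l0 T ∧ ps Q (g * g) ≠ 1 := by
    by_contra k
    push Not at k
    refine f.not_pgroup Nat.prime_two f.T_le fun g => ⟨2, Subtype.ext (LinearEquiv.ext fun x => ?_)⟩
    show (g.1 ^ (3 + 1)) x = x
    rw [pow_succ, pow_three]
    show g.1 (g.1 (g.1 (g.1 x))) = x
    rcases (ps_eq_one_iff f.good).1 (k ⟨g.1, l0_le_E g.2⟩ g.2) with e | e
    · exact (e _).trans (e x)
    · exact (e _).trans (neg_eq_iff_eq_neg.2 (e x))
  obtain ⟨g, hg, h2⟩ := h1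
  refine cm_of_le f.good (f.big (N := cmc (l0 T) J) (fun n hn => l0_mono f.TH hn.1) (fun a ha n hn =>
    ⟨mul_mem (mul_mem ha hn.1) (inv_mem ha), fun k hk => ?_⟩) (x := g * g) ⟨mul_mem hg hg, fun k hk => ?_⟩ h2) fun n hn x => ?_
  · rw [show k * (a * n * a⁻¹) * k⁻¹ = k * a * n * (k * a)⁻¹ by group]
    exact hn.2 _ (mul_mem hk ha)
  · rw [show k * (g * g).1 * k⁻¹ = k * g.1 * k⁻¹ * (k * g.1 * k⁻¹) by rw [Subgroup.coe_mul]; group]
    exact h _ (mul_mem (mul_mem hk hg) (inv_mem hk))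
  · have := hn.2 1 (one_mem _) x
    rwa [one_mul, inv_one, mul_one] at this

/-- `T` is transitive on the singular points and normalises a quadratic field: impossible -/
theorem no_ext (hJ : BoxJ) (hK : BoxK) (hW : Fx B W) (h0 : W ≠ ⊥) (h1 : W ≠ ⊤)
    (hs : ∀ γ : Gam Q, ∃ s ∈ E Q, img γ W = W.map (s : V →ₗ[F] V)) (ht : Tr0 Q (l0 T)) (hx : AExt 2 (l0 T)) : False := by
  obtain ⟨J, h2, h3⟩ := (hK F V Q m f.toPl _ hx).1
  have h4 := f.cm_of_sq h3
  obtain ⟨γ, μ, -, e, -⟩ := exists_sim hJ f.toPl l0_le_O (Or.inl ht) h4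
    ((injective_iff_map_eq_zero J).2 fun x hx => h2 0 x (by rw [hx, zero_smul]))
  obtain ⟨a, ha⟩ := f.scalar' hW h0 h1 e h4 (hs γ)
  obtain ⟨v, hv, -⟩ := exists_norm f.good (0 : F)
  exact hv (h2 a v (ha v))

/-- **the reduction** -/
theorem red (hPl : BoxPl) (hJ : BoxJ) (hK : BoxK) (h : LR Q (l0 T) (l0 B)) :
    (∃ v, Q v ≠ 0 ∧ Fx H (F ∙ v)) ∨ (∃ v, Q v ≠ 0 ∧ Fx B (F ∙ v)) ∨ ∃ P, An Q P ∧ Fx B P := by
  obtain ⟨-, p2, -, -, -, p6⟩ := hPl F V Q m f.toPl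
  have hT : ∀ γ : Gam Q, Psi Q γ ∈ H → ∀ n ∈ l0 T, conjLin γ n ∈ l0 T := fun γ hγ n hn => f.conjT hγ hn
  have hB : ∀ γ : Gam Q, Psi Q γ ∈ B → ∀ n ∈ l0 B, conjLin γ n ∈ l0 B := fun γ hγ n hn => conj_l0_self hγ hn
  rcases h with ⟨D, hD, hS⟩ | ⟨D, hD, hS⟩ | ⟨D, hD, hS, hx⟩ | ⟨D, hD, hS, hx⟩
  · obtain ⟨S, s0, s1, s2⟩ := hS.exists_fx (by rw [hD.1]; omega) hT
    rcases line_or_eq s0 s1 hD.1.le with ⟨v, hv, v0, rfl⟩ | rfl
    · exact Or.inl ⟨v, fun k => v0 (hD.2 v hv k), s2⟩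
    · obtain ⟨a, ha, b, hb, h1, h2, h3⟩ := p2 S hD
      obtain ⟨e, r, hr, he, hx⟩ := hS.el
      exact (f.pl_of_el (s2.mono f.TH).iv hr (by rw [hD.1]; omega) hx ha hb h1 h2 h3).elim
  · obtain ⟨S, s0, s1, s2⟩ := hS.exists_fx (by rw [hD.1]; omega) hB
    rcases line_or_eq s0 s1 hD.1.le with ⟨v, hv, v0, rfl⟩ | rfl
    · exact Or.inr (Or.inl ⟨v, fun k => v0 (hD.2 v hv k), s2⟩)
    · exact Or.inr (Or.inr ⟨S, hD, s2⟩)
  · have h2 := hD.le_two
    obtain ⟨S, s0, s1, s2⟩ := hS.exists_fx (by omega) hB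
    rcases line_or_eq s0 s1 h2 with ⟨v, hv, v0, rfl⟩ | rfl
    · by_cases hq : Q v = 0
      · have ht := f.pd.tr0 f.good hq v0 s2.iv
        exact (f.no_ext hJ hK s2 s0 (f.span_ne_top v) (fun γ => orb_pt f.good v0 γ one_ne_zero
          (by rw [(gam_sing γ).2 hq, hq, mul_zero])) ht (hx ht)).elim
      · exact Or.inr (Or.inl ⟨v, hq, s2⟩)
    · have ht := p6 _ S l0_le_O hD fun s hs => f.pd.move s2.iv hs
      exact (f.no_ext hJ hK s2 s0 (f.ne_top (by omega)) (orb_hp f.good hD) ht (hx ht)).elim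
  · have h2 := hD.le_two
    obtain ⟨S, s0, s1, s2⟩ := hS.exists_fx (by omega) hT
    rcases line_or_eq s0 s1 h2 with ⟨v, hv, v0, rfl⟩ | rfl
    · by_cases hq : Q v = 0
      · exact (f.par s2 s0 (ts_span hq)).elim
      · exact Or.inl ⟨v, hq, s2⟩
    have h3 := two_le_card F
    have hm : ∀ s ∈ E Q, ∃ y ∈ l0 B, S.map (y : V →ₗ[F] V) = S.map (s : V →ₗ[F] V) := fun s hs =>
      f.pd.symm.move (s2.mono f.TH).iv hs
    rcases (by omega : Nat.card F = 2 ∨ Nat.card F = 3 ∨ 4 ≤ Nat.card F) with hq | hq | hq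
    · obtain ⟨x, y, hxy, rfl⟩ := hD
      have h4 : Q (x + y) ≠ 0 := by
        have := hyp_norm hxy 1 1
        rw [one_smul, one_smul, one_mul] at this
        rw [this]
        exact one_ne_zero
      refine Or.inl ⟨x + y, h4, fun γ hγ => ?_⟩
      have h5 : γ.1 (x + y) ∈ Submodule.span F {x, y} := (s2 γ hγ).le (mem_img_iff.2 (Submodule.add_mem _
        (Submodule.subset_span (by simp)) (Submodule.subset_span (by simp))))
      obtain ⟨a, b, e⟩ := Submodule.mem_span_pair.1 h5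
      have h6 : a * b ≠ 0 := by
        rw [← hyp_norm hxy, e]
        exact fun k => h4 ((gam_sing γ).1 k)
      rw [img_span, ← e, eq_one_of_two hq (left_ne_zero_of_mul h6), eq_one_of_two hq (right_ne_zero_of_mul h6), one_smul, one_smul]
    · exact ((hK F V Q m f.toPl _ (hx (p6 _ S l0_le_O hD hm))).2 hq l0_le_O S hD hm).elim
    · obtain ⟨c, c0, c1⟩ := exists_sq_ne hq
      obtain ⟨e, r, hr, he, hx⟩ := hS.el
      obtain ⟨x, y, hxy, rfl⟩ := hD
      have h4 : ∀ a b : F, a • x + b • y ∈ Submodule.span F {x, y} := fun a b => Submodule.mem_span_pair.2 ⟨a, b, rfl⟩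
      refine (f.pl_of_el (s2.mono f.TH).iv hr (by omega) hx (h4 1 1) (h4 c c⁻¹)
        (by rw [hyp_norm hxy, hyp_norm hxy, mul_inv_cancel₀ c0, mul_one]) (by rw [hyp_norm hxy]; simp) fun k => c1 ?_).elim
      obtain ⟨t, ht⟩ := Submodule.mem_span_singleton.1 k
      have e1 := congrArg (polar Q x) ht
      have e2 := congrArg (polar Q y) ht
      simp only [polar_smul_right, polar_add_right, hxy.pair, hxy.pair', hxy.polar_left, hxy.polar_right, smul_eq_mul,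
        mul_zero, mul_one, zero_add, add_zero] at e1 e2
      rw [← e2] at c0 ⊢
      rw [← e2] at e1
      nth_rw 2 [e1]
      exact mul_inv_cancel₀ c0

end Fr

end Cfsg.Agent.SM.Op
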