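import Cfsg.Agent.SM.Op.One

/-!
# SM / Op: case II, `B` fixes a non-singular point or an anisotropic plane (helper57)
-/

set_option autoImplicit false
set_option linter.unusedSectionVars false

namespace Cfsg.Agent.SM.Op

open Module QuadraticMap Cfsg Cfsg.Geo Subgroup
open Cfsg.Agent.LieClassical.OrthCore Cfsg.Agent.LieClassical.OrthTrans Cfsg.Agent.ClassicalGeometry.OrthSemi
open Cfsg.Agent.LieClassical.OrthFinite (glEquiv glEquiv_apply)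
open Cfsg.Agent.H449.Reg (img lg mem_img img_mul img_one img_mono finrank_img img_eq_of_Psi img_lg AExt)
open Cfsg.Agent.H826.Rg (lgH Sg)
open Cfsg.Agent.H826.RgF (Iv Rd El)
open Cfsg.Agent.H955 (IsPlus perp res mem_perp mem_perp')
open Cfsg.Agent.H884.El (PP)
open scoped MatrixGroups

section lin

variable {F V : Type} [Field F] [Fintype F] [AddCommGroup V] [Module F V] [FiniteDimensional F V] {Q : QuadraticForm F V}
  {m r : ℕ} {M H T B X : Subgroup (Au Q)} {Y N : Subgroup (V ≃ₗ[F] V)} {P W W' : Submodule F V}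

/-- a non-singular point (`q ≥ 3`) or an anisotropic plane -/
def Ob (Q : QuadraticForm F V) (P : Submodule F V) : Prop := (3 ≤ Nat.card F ∧ ∃ v, Q v ≠ 0 ∧ P = F ∙ v) ∨ An Q P

theorem Ob.ne_bot (h : Ob Q P) : P ≠ ⊥ := by
  rcases h with ⟨-, v, hv, rfl⟩ | h
  exacts [span_ne_bot hv, h.ne_bot]

theorem Ob.ne_top (h : Ob Q P) (hp : Pl Q m) : P ≠ ⊤ := by
  rcases h with ⟨-, v, -, rfl⟩ | h
  exacts [hp.span_ne_top v, hp.ne_top (by rw [h.1]; omega)]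

theorem Ob.orb (h : Ob Q P) (hG : Good Q) (hE : TrP Q (E Q)) (γ : Gam Q) {l : F} (hl : l ≠ 0)
    (e : ∀ x, Q (γ.1 x) = l * l * Q x) : ∃ s ∈ E Q, img γ P = P.map (s : V →ₗ[F] V) := by
  rcases h with ⟨-, v, hv, rfl⟩ | h
  exacts [orb_pt hG (fun k => hv (by rw [k, map_zero])) γ hl (e v), orb_an hE h γ]

theorem Hf.ne_bot (h : Hf Q m W W') (hp : Pl Q m) : W ≠ ⊥ := fun e => by
  have h1 := h.dim
  have h2 := hp.five
  rw [e, finrank_bot] at h1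
  omega

theorem Hf.small (h : Hf Q m W W') (hp : Pl Q m) (hP : finrank F P = 2) : finrank F ↥((P ⊔ W') ⊓ W) ≤ 2 := by
  have h1 := Submodule.finrank_sup_add_finrank_inf_eq (P ⊔ W') W
  have h2 := Submodule.finrank_add_le_finrank_add_finrank P W'
  rw [sup_assoc, h.symm.sup hp, sup_top_eq, finrank_top, hp.dim, h.dim] at h1
  rw [h.dim', hP] at h2
  omega

namespace Fr

variable (f : Fr Q m M H T B)
include f

theorem tr (b : Bx) (h : Ob Q P) (hB : Fx B P) :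
    (3 ≤ Nat.card F ∧ ∃ c, c ≠ 0 ∧ TrS Q (l0 T) c) ∨ (An Q P ∧ TrP Q (l0 T)) := by
  rcases h with ⟨hq, v, hv, rfl⟩ | h
  exacts [Or.inl ⟨hq, _, hv, f.pd.trS f.good hv hB.iv⟩, Or.inr ⟨h, f.pd.trP (b.pl F V Q m f.toPl).1 h hB.iv⟩]

theorem tr' (b : Bx) (h : Ob Q P) (hB : Fx B P) : Tr Q (l0 T) := (f.tr b h hB).imp And.right And.right

theorem iso_scalar (b : Bx) (h : Ob Q P) (hB : Fx B P) {d : V ≃ₗ[F] V} (hd : d ∈ O Q) (hc : Cm (l0 T) (d : Module.End F V)) :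
    ∃ a : F, ∀ x, d x = a • x :=
  f.scalar' hB h.ne_bot (h.ne_top f.toPl) (γ := og d hd) (fun _ => rfl) hc
    (h.orb f.good (b.pl F V Q m f.toPl).1 _ one_ne_zero fun x => by rw [og_apply, hd, one_mul, one_mul])

/-- a reducible `T` fixes exactly two halves -/
theorem halves (b : Bx) (h : Ob Q P) (hB : Fx B P) (hr : Rd (l0 T)) : ∃ W W', Hf Q m W W' ∧ Iv (l0 T) W ∧ Iv (l0 T) W' ∧
    ∀ g : Gam Q, Psi Q g ∈ H → (img g W = W ∧ img g W' = W') ∨ (img g W = W' ∧ img g W' = W) := by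
  have hw := fun U => b.ws F V Q m f.toPl _ U l0_le_O (f.tr' b h hB)
  have h1 : ∀ {U U' : Submodule F V}, Iv (l0 T) U ∧ U ≠ ⊥ ∧ U ≠ ⊤ → Iv (l0 T) U' ∧ U' ≠ ⊥ ∧ U' ≠ ⊤ → U ≠ U' → Hf Q m U U' := by
    rintro U U' ⟨a1, a2, a3⟩ ⟨b1, b2, b3⟩ hne
    refine ⟨(hw U a1 a2 a3).1, (hw U' b1 b2 b3).1, (hw U a1 a2 a3).2, (hw U' b1 b2 b3).2, ?_⟩
    by_contra k
    have h2 := (hw (U ⊓ U') (fun g hg x hx => ⟨a1 g hg x hx.1, b1 g hg x hx.2⟩) k (ne_top_of_le_ne_top a3 inf_le_left)).2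
    exact hne ((Submodule.eq_of_le_of_finrank_eq inf_le_left (h2.trans (hw U a1 a2 a3).2.symm)).symm.trans
      (Submodule.eq_of_le_of_finrank_eq inf_le_right (h2.trans (hw U' b1 b2 b3).2.symm)))
  have h2 : ∀ {g : Gam Q}, Psi Q g ∈ H → ∀ {U : Submodule F V}, Iv (l0 T) U ∧ U ≠ ⊥ ∧ U ≠ ⊤ →
      Iv (l0 T) (img g U) ∧ img g U ≠ ⊥ ∧ img g U ≠ ⊤ := fun hg U hU =>
    ⟨iv_img (fun n hn => f.conjT (by rw [map_inv]; exact inv_mem hg) hn) hU.1, img_ne_bot _ hU.2.1, img_ne_top _ hU.2.2⟩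
  obtain ⟨W, w0, w1, w2⟩ := hr
  have hW : Iv (l0 T) W ∧ W ≠ ⊥ ∧ W ≠ ⊤ := ⟨w2, w0, w1⟩
  obtain ⟨γ, hγ, hne⟩ : ∃ γ : Gam Q, Psi Q γ ∈ H ∧ img γ W ≠ W := by
    by_contra k
    push Not at k
    exact f.par k w0 (hw W w2 w0 w1).1
  have hW' := h2 hγ hW
  have h3 : ∀ {U : Submodule F V}, Iv (l0 T) U ∧ U ≠ ⊥ ∧ U ≠ ⊤ → U = W ∨ U = img γ W := fun {U} hU => by
    by_contra k
    push Not at k
    obtain ⟨d, hd, d1, d2⟩ := (b.hf F V Q m f.toPl _ W _ l0_le_O (h1 hW hW' hne.symm) w2 hW'.1).2 U (h1 hW hU k.1.symm)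
      (h1 hW' hU k.2.symm) hU.1
    obtain ⟨a, ha⟩ := f.iso_scalar b h hB hd d2
    obtain ⟨x, hx⟩ := d1 a
    exact hx (ha x)
  refine ⟨W, _, h1 hW hW' hne.symm, w2, hW'.1, fun g hg => ?_⟩
  rcases h3 (h2 hg hW) with e | e <;> rcases h3 (h2 hg hW') with e' | e'
  · exact (hne (img_inj (e'.trans e.symm))).elim
  · exact Or.inl ⟨e, e'⟩
  · exact Or.inr ⟨e, e'⟩
  · exact (hne (img_inj (e'.trans e.symm))).elim

theorem three (b : Bx) (h : Ob Q P) (hB : Fx B P) (hf : Hf Q m W W') (h1 : Iv (l0 T) W) (h2 : Iv (l0 T) W') :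
    Nat.card F ≤ 3 := by
  by_contra k
  obtain ⟨c, c0, c1⟩ := exists_sq_ne (F := F) (by omega)
  obtain ⟨d, hd, d1, d2, d3⟩ := (b.hf F V Q m f.toPl _ W W' l0_le_O hf h1 h2).1 c c0
  obtain ⟨a, ha⟩ := f.iso_scalar b h hB hd d3
  obtain ⟨w, hw, w0⟩ := Submodule.exists_mem_ne_zero_of_ne_bot (hf.ne_bot f.toPl)
  obtain ⟨w', hw', w0'⟩ := Submodule.exists_mem_ne_zero_of_ne_bot (hf.symm.ne_bot f.toPl)
  have e1 := smul_left_injective F w0 ((d1 w hw).symm.trans (ha w))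
  have e2 := smul_left_injective F w0' ((d2 w' hw').symm.trans (ha w'))
  refine c1 ?_
  nth_rw 2 [e1.trans e2.symm]
  exact mul_inv_cancel₀ c0

/-- two halves and a plane -/
theorem no_plane (b : Bx) (h : An Q P) (hB : Fx B P) (hf : Hf Q m W W')
    (hH : ∀ g : Gam Q, Psi Q g ∈ H → (img g W = W ∧ img g W' = W') ∨ (img g W = W' ∧ img g W' = W)) : False := by
  have h5 := f.five
  have hd : ∀ x : V, ∃ a ∈ W, ∃ c ∈ W', a + c = x := fun x => Submodule.mem_sup.1 (hf.sup f.toPl ▸ Submodule.mem_top)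
  let U : Submodule F V := ((P ⊔ W') ⊓ W) ⊔ ((P ⊔ W) ⊓ W')
  have hU : ∀ {a c : V}, a ∈ W → c ∈ W' → a + c ∈ P → a ∈ U ∧ c ∈ U := fun {a c} ha hc k =>
    ⟨Submodule.mem_sup_left ⟨by simpa using (P ⊔ W').sub_mem (Submodule.mem_sup_left k) (Submodule.mem_sup_right hc), ha⟩,
      Submodule.mem_sup_right ⟨by simpa using (P ⊔ W).sub_mem (Submodule.mem_sup_left k) (Submodule.mem_sup_right ha), hc⟩⟩
  have h1 : Fx (H ⊓ B) U := fun γ hγ => by
    simp only [U, img_sup, img_inf, hB γ hγ.2]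
    rcases hH γ hγ.1 with ⟨e, e'⟩ | ⟨e, e'⟩ <;> rw [e, e']
    exact sup_comm _ _
  obtain ⟨x, hx, x0⟩ := Submodule.exists_mem_ne_zero_of_ne_bot h.ne_bot
  obtain ⟨y, hy, hxy⟩ := exists_not_mem_span (U := P) h.1.ge x
  obtain ⟨u, hu, x', hx', rfl⟩ := hd x
  obtain ⟨y₁, hy₁, y₂, hy₂, rfl⟩ := hd y
  have h2 : polar Q u x' ≠ 0 := fun k => x0 (h.2 _ hx (by rw [Q_add, hf.ts u hu, hf.ts' x' hx', k]; simp))
  have h3 : ¬ Iv (l0 H) U := fun k => by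
    have h4 : finrank F U ≤ 4 := by
      have h6 := Submodule.finrank_add_le_finrank_add_finrank ((P ⊔ W') ⊓ W) ((P ⊔ W) ⊓ W')
      have h7 := hf.small f.toPl h.1
      have h8 := hf.symm.small f.toPl h.1
      exact h6.trans (by omega)
    have h6 := (b.ws F V Q m f.toPl _ U l0_le_O (f.tr' b (Or.inr h) hB) (fun g hg => k g (l0_mono f.TH hg))
      (fun e => x0 ((Submodule.mem_bot F).1 (e ▸ U.add_mem (hU hu hx' hx).1 (hU hu hx' hx).2))) (f.ne_top (by omega))).2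
    omega
  set c := polar Q u y₂ / polar Q u x'
  have h4 : y₂ - c • x' ∈ W' := W'.sub_mem hy₂ (W'.smul_mem _ hx')
  have h6 : polar Q u (y₂ - c • x') = 0 := by
    rw [polar_sub_right, polar_smul_right, smul_eq_mul, div_mul_cancel₀ _ h2, sub_self]
  have h7 := h1.iv
  have h8 := f.memA h1 h3 (f.Sw_le_H hf hH (siegel_mem_Sw (hf.ts u hu) h6 hu h4)) fun z hz =>
    siegel_mem _ _ (hU hu hx' hx).1 (U.sub_mem (hU hy₁ hy₂ hy).2 (U.smul_mem _ (hU hu hx' hx).2)) hz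
  have h9 := P.sub_mem (hB.iv _ h8 _ hx) hx
  have e : siegel Q u (y₂ - c • x') (hf.ts u hu) h6 (u + x') - (u + x') =
      polar Q u x' • (y₂ - c • x') + (-polar Q (y₂ - c • x') (u + x')) • u := by
    rw [siegel_apply, hf.ts' _ h4, polar_add_right Q u, polar_self_of_sing (hf.ts u hu)]
    module
  rw [e] at h9
  have h10 := h.2 _ h9 (by
    rw [Q_add, QuadraticMap.map_smul, QuadraticMap.map_smul, hf.ts' _ h4, hf.ts u hu, polar_smul_left, polar_smul_right,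
      polar_zero_of_comm h6]
    simp)
  have h11 : polar Q u x' • (y₂ - c • x') = 0 :=
    hf.eq_zero (eq_neg_of_add_eq_zero_left h10 ▸ W.neg_mem (W.smul_mem _ hu)) (W'.smul_mem _ h4)
  have h12 : y₁ + y₂ - c • (u + x') = y₁ - c • u := by
    rw [sub_eq_zero.1 ((smul_eq_zero.1 h11).resolve_left h2)]
    module
  have h13 := h.2 _ (P.sub_mem hy (P.smul_mem c hx)) (h12 ▸ hf.ts _ (W.sub_mem hy₁ (W.smul_mem _ hu)))
  exact hxy (sub_eq_zero.1 h13 ▸ Submodule.smul_mem _ _ (Submodule.mem_span_singleton_self _))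

/-- an irreducible `T` is absolutely irreducible -/
theorem cm_scalar (b : Bx) (h : Ob Q P) (hB : Fx B P) (hr : ¬ Rd (l0 T)) {d : Module.End F V} (hd : Cm (l0 T) d) :
    ∃ a : F, ∀ x, d x = a • x := by
  have hE := (b.pl F V Q m f.toPl).1
  have h1 : ∀ d : Module.End F V, Cm (l0 T) d →
      (∃ a : F, ∀ x, d (d x) = a • x) ∧ ((2 : F) = 0 → ∃ a : F, ∀ x, d x = a • x) := fun d hd => by
    by_cases h0 : LinearMap.ker d = ⊤
    · have h2 : ∀ x, d x = (0 : F) • x := fun x => (h0.ge Submodule.mem_top : x ∈ LinearMap.ker d).trans (zero_smul _ _).symm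
      exact ⟨⟨0, fun x => by rw [h2, zero_smul, zero_smul]⟩, fun _ => ⟨0, h2⟩⟩
    have h2 : LinearMap.ker d = ⊥ := by
      by_contra k
      exact hr ⟨_, k, h0, fun g hg x hx => LinearMap.mem_ker.2 (by rw [hd g hg, LinearMap.mem_ker.1 hx, map_zero])⟩
    obtain ⟨γ, μ, m0, e, hμ⟩ := exists_sim b.j f.toPl l0_le_O (Or.inr ((f.tr b h hB).imp_right fun k => ⟨k.2, hr⟩)) hd
      (LinearMap.ker_eq_bot.1 h2)
    refine ⟨f.scalar' hB h.ne_bot (h.ne_top f.toPl) (γ := γ * γ) (d := d * d) (fun x => (e _).trans (congrArg d (e x)))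
      (fun g hg x => by rw [Module.End.mul_apply, Module.End.mul_apply, hd g hg, hd g hg])
      (h.orb f.good hE _ m0 fun x => ?_), fun h3 => ?_⟩
    · show Q (γ.1 (γ.1 x)) = _
      rw [e, e, hμ, hμ, mul_assoc]
    · obtain ⟨l, hl⟩ := FiniteField.isSquare_of_char_two (F := F) (by
        haveI := CharTwo.of_one_ne_zero_of_two_eq_zero one_ne_zero h3
        exact ringChar.eq F 2) μ
      exact f.scalar' hB h.ne_bot (h.ne_top f.toPl) e hd (h.orb f.good hE _ (l := l) (fun k => m0 (by rw [hl, k, mul_zero]))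
        fun x => by rw [e, hμ, hl])
  by_cases h2 : (2 : F) = 0
  · exact (h1 d hd).2 h2
  obtain ⟨a, ha⟩ := (h1 d hd).1
  obtain ⟨c, hc⟩ := (h1 (d + 1) fun g hg x => by
    rw [LinearMap.add_apply, LinearMap.add_apply, hd g hg, map_add]; rfl).1
  refine ⟨2⁻¹ * (c - a - 1), fun x => ?_⟩
  have h3 := hc x
  simp only [LinearMap.add_apply, Module.End.one_apply, map_add, ha] at h3
  have h4 : (2 : F) • d x = (c - a - 1) • x := by
    rw [sub_smul, sub_smul, ← h3]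
    module
  rw [mul_smul, ← h4, smul_smul, inv_mul_cancel₀ h2, one_smul]

theorem T_le_gn (hx : El (l0 T) r) (hr : 2 < r) : T ≤ i0 Q (Gn (l0 T) r) := by
  obtain ⟨x, hx, ho⟩ := hx
  exact f.big' (gn_le.trans (l0_mono f.TH)) (fun γ hγ => conj_gn fun n hn => f.conjT hγ hn) (x := ⟨x, l0_le_E hx⟩)
    (subset_closure ⟨hx, ho⟩) (ps_ne_one_of_order f.good ho hr)

theorem no_tau (b : Bx) (h : Ob Q P) (hB : Fx B P) (ht : Tau Q (l0 T)) : False := by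
  rcases f.tr b h hB with ⟨-, c, c0, hc⟩ | ⟨h1, -⟩
  · exact b.tau F V Q m f.toPl _ c l0_le_O c0 hc ht
  · obtain ⟨τ, σ, c, h2, h3, h4⟩ := ht
    obtain ⟨a, a0, ha⟩ := f.scalar hB h.ne_bot (h.ne_top f.toPl) h4 (orb_an (b.pl F V Q m f.toPl).1 h1 τ)
    obtain ⟨v, hv, -⟩ := exists_norm f.good (0 : F)
    refine h3 (RingEquiv.ext fun t => ?_)
    have h5 := h2.smul t v
    rw [ha, ha, smul_comm] at h5
    exact (smul_left_injective F (smul_ne_zero a0 hv) h5).symm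

end Fr

end lin

variable {ι F : Type} [Fintype ι] [DecidableEq ι] [Field F] [Fintype F] {Q : QuadraticForm F (ι → F)} {m : ℕ}
  {M H T B : Subgroup (Au Q)}

theorem Fr.no_xs (f : Fr Q m M H T B) (h : Xs (mx (l0 T))) : False := by
  obtain ⟨r, a, R, h1, h2, h3, h4, -⟩ := h
  have h5 : R.map (glEquiv ι F).toMonoidHom ≤ l0 T := map_le_iff_le_comap.2 h1
  obtain ⟨x, hx, h6⟩ : ∃ x : ↥(E Q), x.1 ∈ R.map (glEquiv ι F).toMonoidHom ∧ ps Q x ≠ 1 := by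
    by_contra k
    push Not at k
    obtain ⟨v, hv, -⟩ := exists_norm f.good (0 : F)
    refine (h3.1 (F ∙ v) ?_).elim (fun e => hv (Submodule.span_singleton_eq_bot.1 e)) (f.span_ne_top v)
    rintro _ ⟨g, hg, rfl⟩ _ ⟨w, hw, rfl⟩
    have h7 : glEquiv ι F g ∈ R.map (glEquiv ι F).toMonoidHom := ⟨g, hg, rfl⟩
    show glEquiv ι F g w ∈ F ∙ v
    rcases (ps_eq_one_iff f.good).1 (k ⟨_, l0_le_E (h5 h7)⟩ h7) with e | e
    · exact (e w).symm ▸ hw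
    · exact (e w).symm ▸ Submodule.neg_mem _ hw
  refine f.not_pgroup h4.prime (f.big (h5.trans (l0_mono f.TH)) ?_ hx h6) (h4.pGroup.map _)
  rintro g hg _ ⟨y, hy, rfl⟩
  obtain ⟨g, rfl⟩ := (glEquiv ι F).surjective g
  exact ⟨g * y * g⁻¹, h2 g hg y hy, by rw [map_mul, map_mul, map_inv]; rfl⟩

/-- **case II** -/
theorem Fr.two (f : Fr Q m M H T B) (b : Bx) {P : Submodule F (ι → F)} (h : Ob Q P) (hB : Fx B P) :
    ∃ v W W', RJ Q m H T B v W W' := by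
  have h5 := f.five
  by_cases hr : Rd (l0 T)
  · obtain ⟨W, W', hf, h1, h2, h3⟩ := f.halves b h hB hr
    have h4 := f.three b h hB hf h1 h2
    rcases h with ⟨hq, v, hv, rfl⟩ | h
    · exact ⟨v, W, W', by omega, hv, hB, hf, ⟨fx_of_iv f.good f.T_le h1, fx_of_iv f.good f.T_le h2⟩, h3⟩
    · exact (f.no_plane b h hB hf h3).elim
  exfalso
  have hT := f.tr' b h hB
  obtain ⟨e, r, h1, h2, h3, h4⟩ : ∃ e r, PP (Nat.card F) e r ∧ m ≤ e + 1 ∧ m < r ∧ El (l0 T) r := by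
    rcases f.tr b h hB with ⟨hq, c, c0, hc⟩ | ⟨-, hc⟩
    · obtain ⟨r, h1, h2, h3⟩ := (b.rho F _ Q m f.toPl _ l0_le_O).1 c c0 hc (by omega)
      exact ⟨m, r, h1, by omega, h2, h3⟩
    · exact (b.rho F _ Q m f.toPl _ l0_le_O).2 hc
  have h6 := f.T_le_gn h4 (by omega)
  rcases b.asc ι F Q m f.toPl _ e r l0_le_E h1 h2 h3 ⟨fun ⟨W, w0, w1, w2⟩ => hr ⟨W, w0, w1, iv_of_le f.good h6 w2⟩,
    fun d hd => f.cm_scalar b h hB hr (cm_of_le f.good h6 hd)⟩ with ⟨R, hR, -⟩ | k | k | k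
  · rcases (by omega : m = 5 ∨ m = 6 ∨ 7 ≤ m) with k | k | k
    · exact b.c5 ι F Q m f.toPl k _ R l0_le_E f.pd.neX hT hR
    · exact b.c6 ι F Q m f.toPl k _ R l0_le_E f.pd.neX hT hR
    · rcases h with ⟨hq, v, hv, rfl⟩ | h
      · have := f.cs1_pt b.cs1 k hv hB hR
        omega
      · exact f.cs1_pl b.cs1 k h hB hR
  · exact f.no_tau b h hB k
  · exact b.dec ι F Q m f.toPl _ l0_le_O hT k
  · exact f.no_xs k

end Cfsg.Agent.SM.Op
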